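import Mathlib
import Cfsg.Prelude.Def_OddOrderLocal
import Cfsg.Agent.Lib.PGroup.Frattini
import Cfsg.Agent.Lib.TwoGroups85.SectionalRankTwo
import Cfsg.Agent.Lib.OddOrder41.Metacyclic

/-!
# Bicyclic 2-groups

A group is bicyclic if it is a product of two cyclic subgroups. For a nonmetacyclic bicyclic
2-group `G`: `G` is generated by `a`, `b` with `a²` in `[G',G](G')²`, and the elements outside
`Φ(G)` with this property all lie in the coset `aΦ(G)`.
-/

set_option autoImplicit false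

namespace CfsgLib.Bicyclic19

open Subgroup
open scoped commutatorElement

universe u

variable {G : Type u} [Group G]

/-- A product of two cyclic subgroups. -/
def Bicyclic (G : Type u) [Group G] : Prop := ∃ x y : G, ∀ g : G, ∃ i j : ℤ, g = x ^ i * y ^ j

theorem closure_normal_of_conj {X : Set G} (h : ∀ g : G, ∀ x ∈ X, g * x * g⁻¹ ∈ closure X) :
    (closure X).Normal := by
  refine ⟨fun n hn g => ?_⟩
  have hle : closure X ≤ (closure X).comap (MulAut.conj g).toMonoidHom :=
    (closure_le _).2 fun x hx => h g x hx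
  exact hle hn

/-- Squares of a normal subgroup. -/
def sqs (N : Subgroup G) : Set G := (fun c => c ^ 2) '' (N : Set G)

instance sqs_closure_normal (N : Subgroup G) [hN : N.Normal] : (closure (sqs N)).Normal :=
  closure_normal_of_conj fun g => by
    rintro _ ⟨c, hc, rfl⟩
    exact subset_closure ⟨g * c * g⁻¹, hN.conj_mem c hc g, conj_pow⟩

/-- The subgroup `[G',G](G')²`. -/
def derRad (G : Type u) [Group G] : Subgroup G :=
  ⁅commutator G, (⊤ : Subgroup G)⁆ ⊔ closure (sqs (commutator G))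

instance derRad_normal : (derRad G).Normal := by
  unfold derRad; infer_instance

theorem derRad_le_commutator : derRad G ≤ commutator G := by
  refine sup_le (commutator_le_left _ _) ((closure_le _).2 ?_)
  rintro _ ⟨c, hc, rfl⟩
  exact pow_mem hc 2

theorem commutator_le_frattini_two [Finite G] (hG : IsPGroup 2 G) : commutator G ≤ frattini G :=
  haveI := Fact.mk Nat.prime_two
  CfsgLib.PGroup.commutator_le_frattini hG

theorem derRad_le_frattini [Finite G] (hG : IsPGroup 2 G) : derRad G ≤ frattini G :=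
  derRad_le_commutator.trans (commutator_le_frattini_two hG)

theorem map_derRad_le {H : Type*} [Group H] (f : G →* H) (hf : Function.Surjective f) :
    (derRad G).map f ≤ derRad H := by
  have hc : (commutator G).map f = commutator H := by
    rw [_root_.commutator_def, map_commutator, map_top_of_surjective f hf, ← _root_.commutator_def]
  rw [derRad, Subgroup.map_sup, map_commutator, hc, map_top_of_surjective f hf, MonoidHom.map_closure]
  refine sup_le_sup_left (Subgroup.closure_mono ?_) _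
  rintro _ ⟨_, ⟨c, hc', rfl⟩, rfl⟩
  exact ⟨f c, hc ▸ mem_map_of_mem f hc', (map_pow f c 2).symm⟩

theorem comap_derRad_of_le {H : Type*} [Group H] (f : G →* H) (hf : Function.Surjective f)
    {g : G} (hg : g ∈ derRad G) : f g ∈ derRad H :=
  map_derRad_le f hf (mem_map_of_mem f hg)

theorem zpowers_cases_two {z w : G} (hz : z ^ 2 = 1) (hw : w ∈ zpowers z) : w = 1 ∨ w = z := by
  obtain ⟨k, rfl⟩ := hw
  dsimp only
  have h2 : z ^ (2 : ℤ) = 1 := by exact_mod_cast hz
  rcases Int.even_or_odd k with ⟨m, rfl⟩ | ⟨m, rfl⟩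
  · left; rw [← two_mul, zpow_mul, h2, one_zpow]
  · right; rw [zpow_add, zpow_mul, h2, one_zpow, one_mul, zpow_one]

/-- An odd power generates the same cyclic subgroup of a 2-group. -/
theorem zpowers_zpow_odd (hG : IsPGroup 2 G) (x : G) {i : ℤ} (hi : Odd i) :
    x ∈ zpowers (x ^ i) := by
  obtain ⟨n, hn⟩ := hG x
  have hcop : IsCoprime i ((2 : ℤ) ^ n) := (Int.isCoprime_iff_gcd_eq_one.2 (by
    rw [Int.gcd_comm]
    exact Int.isCoprime_iff_gcd_eq_one.1
      ((Int.prime_two.coprime_iff_not_dvd).2 (by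
        intro h; exact (Int.not_even_iff_odd.2 hi) (even_iff_two_dvd.2 h))))).pow_right
  obtain ⟨u, v, huv⟩ := hcop
  refine ⟨u, ?_⟩
  have hn' : x ^ ((2 : ℤ) ^ n) = 1 := by
    rw [show (2 : ℤ) ^ n = ((2 ^ n : ℕ) : ℤ) by norm_num, zpow_natCast]; exact hn
  show (x ^ i) ^ u = x
  rw [← zpow_mul]
  calc x ^ (i * u) = x ^ (i * u) * (x ^ ((2 : ℤ) ^ n)) ^ v := by rw [hn', one_zpow, mul_one]
    _ = x ^ (u * i + v * 2 ^ n) := by rw [← zpow_mul, ← zpow_add]; ring_nf
    _ = x := by rw [huv, zpow_one]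

theorem closure_pair_comm_le {a b : G} {H : Subgroup G} (hgen : closure ({a, b} : Set G) = ⊤)
    [hH : H.Normal] (h : a * b * a⁻¹ * b⁻¹ ∈ H) : commutator G ≤ H := by
  have hab : (QuotientGroup.mk' H a) * (QuotientGroup.mk' H b) =
      (QuotientGroup.mk' H b) * (QuotientGroup.mk' H a) := by
    have h1 : QuotientGroup.mk' H (a * b * a⁻¹ * b⁻¹) = 1 := (QuotientGroup.eq_one_iff _).2 h
    simp only [map_mul, map_inv] at h1
    exact mul_inv_eq_iff_eq_mul.1 (mul_inv_eq_one.1 h1)
  have htop : closure ({QuotientGroup.mk' H a, QuotientGroup.mk' H b} : Set (G ⧸ H)) = ⊤ := by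
    rw [← Set.image_pair, ← MonoidHom.map_closure, hgen,
      map_top_of_surjective _ (QuotientGroup.mk'_surjective H)]
  have hcomm : ∀ p q : G ⧸ H, p * q = q * p := by
    have hcl : IsMulCommutative (closure ({QuotientGroup.mk' H a, QuotientGroup.mk' H b} : Set (G ⧸ H))) :=
      isMulCommutative_closure (by
        rintro p (rfl | rfl) q (rfl | rfl)
        · rfl
        · exact hab
        · exact hab.symm
        · rfl)
    intro p q
    exact congrArg Subtype.val (hcl.is_comm.comm ⟨p, htop ▸ mem_top p⟩ ⟨q, htop ▸ mem_top q⟩)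
  rw [_root_.commutator_def, commutator_le]
  intro p _ q _
  refine (QuotientGroup.eq_one_iff _).1 ?_
  show QuotientGroup.mk' H ⁅p, q⁆ = 1
  rw [map_commutatorElement, commutatorElement_eq_one_iff_mul_comm]
  exact hcomm _ _

/-- If `G/[G',G](G')²` is metacyclic, so is `G`. -/
theorem isMetacyclic_of_quot_derRad [Finite G] (hG : IsPGroup 2 G)
    (hQ : Cfsg.IsMetacyclic (G ⧸ derRad G)) : Cfsg.IsMetacyclic G := by
  haveI := Fact.mk Nat.prime_two
  suffices key : ∀ (n : ℕ) (T : Type u) [Group T] [Finite T], Nat.card T = n → IsPGroup 2 T →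
      Cfsg.IsMetacyclic (T ⧸ derRad T) → Cfsg.IsMetacyclic T from key _ G rfl hG hQ
  intro n
  induction n using Nat.strong_induction_on with
  | _ n ih =>
  intro T _ _ hn hT hQ
  by_cases hR : derRad T = ⊥
  · obtain ⟨e⟩ : Nonempty (T ⧸ derRad T ≃* T) :=
      ⟨(QuotientGroup.quotientMulEquivOfEq hR).trans QuotientGroup.quotientBot⟩
    exact CfsgLib.OddOrder41.isMetacyclic_of_surjective e.toMonoidHom e.surjective hQ
  obtain ⟨z, hzR, hzc, hz1, hz2⟩ := TwoGroups85.exists_central_involution_mem hT hR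
  haveI hZn : (zpowers z).Normal := ⟨fun w hw g => by
    have hw' : w ∈ center T := zpowers_le.2 hzc hw
    rwa [(mem_center_iff.1 hw' g), mul_inv_cancel_right]⟩
  have hlt : Nat.card (T ⧸ zpowers z) < n := by
    rw [← hn, card_eq_card_quotient_mul_card_subgroup (zpowers z)]
    refine lt_mul_of_one_lt_right Nat.card_pos ?_
    rw [Nat.card_zpowers, orderOf_eq_prime hz2 hz1]
    norm_num
  have hQ' : Cfsg.IsMetacyclic ((T ⧸ zpowers z) ⧸ derRad (T ⧸ zpowers z)) := by
    refine CfsgLib.OddOrder41.isMetacyclic_of_surjective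
      (QuotientGroup.map (derRad T) (derRad (T ⧸ zpowers z)) (QuotientGroup.mk' _)
        fun g hg => comap_derRad_of_le _ (QuotientGroup.mk'_surjective _) hg) ?_ hQ
    intro q
    obtain ⟨q, rfl⟩ := QuotientGroup.mk'_surjective _ q
    obtain ⟨g, rfl⟩ := QuotientGroup.mk'_surjective _ q
    exact ⟨QuotientGroup.mk' _ g, rfl⟩
  obtain ⟨N₁, hN₁, hN₁c, hN₁q⟩ := ih _ hlt (T ⧸ zpowers z) rfl (hT.to_quotient _) hQ'
  obtain ⟨⟨bq, hbq⟩, hbgen⟩ := hN₁c.exists_generator
  obtain ⟨b, rfl⟩ := QuotientGroup.mk'_surjective _ bq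
  obtain ⟨aq, haq⟩ := hN₁q.exists_generator
  obtain ⟨aq, rfl⟩ := QuotientGroup.mk'_surjective _ aq
  obtain ⟨a, rfl⟩ := QuotientGroup.mk'_surjective _ aq
  let π := QuotientGroup.mk' (zpowers z)
  let N : Subgroup T := N₁.comap π
  haveI : N.Normal := hN₁.comap π
  have hNmem : ∀ g ∈ N, ∃ k : ℤ, g * (b ^ k)⁻¹ ∈ zpowers z := by
    intro g hg
    obtain ⟨k, hk⟩ := mem_zpowers_iff.1 (hbgen ⟨π g, hg⟩)
    refine ⟨k, (QuotientGroup.eq_one_iff _).1 ?_⟩
    show π (g * (b ^ k)⁻¹) = 1
    rw [map_mul, map_inv, map_zpow, ← show ((π b) ^ k) = π g from congrArg Subtype.val hk,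
      mul_inv_cancel]
  have hbN : b ∈ N := hbq
  have hgenT : ∀ g : T, ∃ k : ℤ, g * (a ^ k)⁻¹ ∈ N := by
    intro g
    obtain ⟨k, hk⟩ := mem_zpowers_iff.1 (haq (QuotientGroup.mk' N₁ (π g)))
    refine ⟨k, ?_⟩
    show π (g * (a ^ k)⁻¹) ∈ N₁
    refine (QuotientGroup.eq_one_iff _).1 ?_
    show QuotientGroup.mk' N₁ (π (g * (a ^ k)⁻¹)) = 1
    rw [map_mul π, map_inv π, map_zpow π, map_mul, map_inv, map_zpow,
      show QuotientGroup.mk' N₁ (π a) ^ k = QuotientGroup.mk' N₁ (π g) from hk, mul_inv_cancel]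
  have hzall : ∀ g : T, Commute g z := fun g => mem_center_iff.1 hzc g
  by_cases hzb : z ∈ zpowers b
  · refine ⟨N, inferInstance, ?_, ?_⟩
    · refine isCyclic_iff_exists_zpowers_eq_top.2 ⟨⟨b, hbN⟩, eq_top_iff.2 ?_⟩
      rintro ⟨g, hg⟩ -
      obtain ⟨k, hk⟩ := hNmem g hg
      obtain ⟨m, hm⟩ := mem_zpowers_iff.1 ((zpowers_le.2 hzb) hk)
      refine mem_zpowers_iff.2 ⟨m + k, Subtype.ext ?_⟩
      show b ^ (m + k) = g
      rw [zpow_add, hm, inv_mul_cancel_right]
    · refine isCyclic_iff_exists_zpowers_eq_top.2 ⟨QuotientGroup.mk' N a, eq_top_iff.2 ?_⟩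
      intro q _
      obtain ⟨g, rfl⟩ := QuotientGroup.mk'_surjective _ q
      obtain ⟨k, hk⟩ := hgenT g
      refine mem_zpowers_iff.2 ⟨k, ?_⟩
      have := (QuotientGroup.eq_one_iff _).2 hk
      change QuotientGroup.mk' N (g * (a ^ k)⁻¹) = 1 at this
      rw [map_mul, map_inv, map_zpow, mul_inv_eq_one] at this
      exact this.symm
  exfalso
  obtain ⟨s, hs⟩ := hNmem _ (Subgroup.Normal.conj_mem inferInstance b hbN a)
  obtain ⟨e, he⟩ := mem_zpowers_iff.1 hs
  have hconj : a * b * a⁻¹ = b ^ s * z ^ e := by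
    rw [((hzall (b ^ s)).zpow_right e).eq, he, inv_mul_cancel_right]
  have hb2 : z ^ (2 : ℤ) = 1 := by exact_mod_cast hz2
  -- `s` is odd
  have hsodd : Odd s := by
    by_contra hev
    obtain ⟨r, rfl⟩ := Int.not_odd_iff_even.1 hev
    obtain ⟨m, hm⟩ := IsPGroup.iff_orderOf.1 hT b
    rcases Nat.eq_zero_or_pos m with rfl | hm0
    · rw [pow_zero, orderOf_eq_one_iff] at hm
      subst hm
      obtain ⟨k, hk⟩ := hgenT 1
      -- `N = ⟨z⟩` is cyclic and the quotient is cyclic
      exact hzb (by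
        have hN : ∀ g ∈ N, g ∈ zpowers z := fun g hg => by
          obtain ⟨k, hk⟩ := hNmem g hg
          simpa using hk
        have hcyc : ∀ g h : T, g * h = h * g := by
          intro g h
          obtain ⟨k, hk⟩ := hgenT g
          obtain ⟨l, hl⟩ := hgenT h
          obtain ⟨i, hi⟩ := mem_zpowers_iff.1 (hN _ hk)
          obtain ⟨j, hj⟩ := mem_zpowers_iff.1 (hN _ hl)
          rw [eq_mul_inv_iff_mul_eq] at hi hj
          rw [← hi, ← hj]
          exact (((Commute.refl z).zpow_zpow i j).mul_right ((hzall (a ^ l)).symm.zpow_left i)).mul_left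
            ((((hzall (a ^ k)).zpow_right j)).mul_right ((Commute.refl a).zpow_zpow k l))
        have hcb : commutator T = ⊥ := by
          rw [_root_.commutator_def, eq_bot_iff, commutator_le]
          intro g _ h _
          exact mem_bot.2 (commutatorElement_eq_one_iff_mul_comm.2 (hcyc g h))
        exact absurd (le_bot_iff.1 (hcb ▸ derRad_le_commutator)) hR)
    · have hpow : (a * b * a⁻¹) ^ ((2 : ℤ) ^ (m - 1)) = z ^ (e * 2 ^ (m - 1)) := by
        rw [hconj, ((hzall (b ^ (r + r))).zpow_right e).mul_zpow, ← zpow_mul, ← zpow_mul,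
          show (r + r) * 2 ^ (m - 1) = ((2 ^ m : ℕ) : ℤ) * r by
            push_cast; rw [show (2 : ℤ) ^ m = 2 ^ (m - 1) * 2 by rw [← pow_succ, Nat.sub_add_cancel hm0]]; ring,
          zpow_mul, zpow_natCast, ← hm, pow_orderOf_eq_one, one_zpow, one_mul]
      rw [conj_zpow] at hpow
      have hbz : b ^ ((2 : ℤ) ^ (m - 1)) = z ^ (e * 2 ^ (m - 1)) := by
        have h1 : b ^ ((2 : ℤ) ^ (m - 1)) = a⁻¹ * z ^ (e * 2 ^ (m - 1)) * a := by rw [← hpow]; group
        rw [h1, mul_assoc, ← ((hzall a).zpow_right _).eq, inv_mul_cancel_left]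
      have hne : b ^ ((2 : ℤ) ^ (m - 1)) ≠ 1 := by
        rw [show ((2 : ℤ) ^ (m - 1)) = ((2 ^ (m - 1) : ℕ) : ℤ) by push_cast; rfl, zpow_natCast]
        refine pow_ne_one_of_lt_orderOf (by positivity) ?_
        rw [hm]; exact Nat.pow_lt_pow_right (by norm_num) (by omega)
      rcases zpowers_cases_two hz2 (mem_zpowers_iff.2 ⟨_, rfl⟩ : z ^ (e * 2 ^ (m - 1)) ∈ zpowers z) with h | h
      · exact hne (hbz.trans h)
      · exact hzb ⟨_, hbz.trans h⟩
  set c := b ^ (s - 1) * z ^ e with hc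
  have hcab : a * b * a⁻¹ * b⁻¹ = c := by
    rw [hconj, hc, zpow_sub_one, mul_assoc, ((hzall b⁻¹).zpow_right e).symm.eq, ← mul_assoc]
  have hcb : Commute b c := ((Commute.refl b).zpow_right _).mul_right ((hzall b).zpow_right e)
  have hac : a * c * a⁻¹ = c ^ s := by
    rw [hc, show a * (b ^ (s - 1) * z ^ e) * a⁻¹ = (a * b * a⁻¹) ^ (s - 1) * (a * z ^ e * a⁻¹) by
        rw [conj_zpow]; group,
      hconj, ((hzall (b ^ s)).zpow_right e).mul_zpow, ((hzall a).zpow_right e).eq, mul_inv_cancel_right,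
      ((hzall (b ^ (s - 1))).zpow_right e).mul_zpow, ← zpow_mul, ← zpow_mul, ← zpow_mul, mul_assoc,
      ← zpow_add, mul_comm s (s - 1)]
    rw [← zpow_mul z, show e * (s - 1) + e = e * s by ring]
  -- the closure of `a`, `b`, `z`
  have hgen3 : ∀ {P : Subgroup T}, a ∈ P → b ∈ P → z ∈ P → P = ⊤ := by
    intro P haP hbP hzP
    refine eq_top_iff.2 fun g _ => ?_
    obtain ⟨k, hk⟩ := hgenT g
    obtain ⟨l, hl⟩ := hNmem _ hk
    have h1 := P.mul_mem ((zpowers_le.2 hzP) hl) (P.zpow_mem hbP l)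
    rw [inv_mul_cancel_right] at h1
    have h2 := P.mul_mem h1 (P.zpow_mem haP k)
    rwa [inv_mul_cancel_right] at h2
  have hconjmem : ∀ (w : T), (∃ t : ℤ, a * w * a⁻¹ = w ^ t) → Commute b w → (zpowers w).Normal := by
    intro w ⟨t, ht⟩ hbw
    haveI : Finite (zpowers w) := inferInstance
    have hbz' : ∀ g : T, g * w * g⁻¹ = w → g ∈ normalizer (zpowers w : Set T) := fun g hg => by
      refine mem_normalizer_fintype fun y hy => ?_
      obtain ⟨i, rfl⟩ := mem_zpowers_iff.1 hy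
      exact mem_zpowers_iff.2 ⟨i, by rw [← conj_zpow, hg]⟩
    refine normalizer_eq_top_iff.1 (hgen3 ?_ ?_ ?_)
    · refine mem_normalizer_fintype fun y hy => ?_
      obtain ⟨i, rfl⟩ := mem_zpowers_iff.1 hy
      exact mem_zpowers_iff.2 ⟨t * i, by rw [← conj_zpow, ht, ← zpow_mul]⟩
    · exact hbz' b (by rw [hbw.eq, mul_inv_cancel_right])
    · exact hbz' z (by rw [← (hzall w).eq, mul_inv_cancel_right])
  haveI hcn : (zpowers c).Normal := hconjmem c ⟨s, hac⟩ hcb
  have hcomm : commutator T ≤ zpowers c := by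
    rw [_root_.commutator_def, commutator_le]
    intro p _ q _
    refine (QuotientGroup.eq_one_iff _).1 ?_
    show QuotientGroup.mk' (zpowers c) ⁅p, q⁆ = 1
    rw [map_commutatorElement, commutatorElement_eq_one_iff_mul_comm]
    let f := QuotientGroup.mk' (zpowers c)
    have hz' : ∀ q, Commute (f z) q := fun q => by
      obtain ⟨q, rfl⟩ := QuotientGroup.mk'_surjective _ q
      exact ((hzall q).symm).map f
    have hab : Commute (f a) (f b) := by
      have h1 : f (a * b * a⁻¹ * b⁻¹) = 1 := (QuotientGroup.eq_one_iff _).2 (hcab ▸ mem_zpowers c)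
      simp only [map_mul, map_inv] at h1
      exact mul_inv_eq_iff_eq_mul.1 (mul_inv_eq_one.1 h1)
    have key : ∀ x : T, Commute (f a) (f x) ∧ Commute (f b) (f x) := by
      intro x
      have hP : (((centralizer {f a} ⊓ centralizer {f b}) : Subgroup _).comap f) = ⊤ :=
        hgen3 ⟨mem_centralizer_singleton_iff.2 rfl, mem_centralizer_singleton_iff.2 hab.eq⟩
          ⟨mem_centralizer_singleton_iff.2 hab.symm.eq, mem_centralizer_singleton_iff.2 rfl⟩
          ⟨mem_centralizer_singleton_iff.2 (hz' _).eq, mem_centralizer_singleton_iff.2 (hz' _).eq⟩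
      obtain ⟨h1, h2⟩ := hP.ge (mem_top x)
      exact ⟨(mem_centralizer_singleton_iff.1 h1).symm, (mem_centralizer_singleton_iff.1 h2).symm⟩
    have hP : ((centralizer {f p}).comap f) = ⊤ :=
      hgen3 (mem_centralizer_singleton_iff.2 (key p).1.eq) (mem_centralizer_singleton_iff.2 (key p).2.eq)
        (mem_centralizer_singleton_iff.2 (hz' _).eq)
    exact (mem_centralizer_singleton_iff.1 (hP.ge (mem_top q))).symm
  haveI hc2n : (zpowers (c ^ 2)).Normal :=
    hconjmem _ ⟨s, by rw [← conj_pow, hac, ← zpow_natCast, ← zpow_natCast, ← zpow_mul, ← zpow_mul, mul_comm]⟩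
      (hcb.pow_right 2)
  have hle : derRad T ≤ zpowers (c ^ 2) := by
    refine sup_le ?_ ((closure_le _).2 ?_)
    · rw [commutator_le]
      intro x hx g _
      obtain ⟨i, rfl⟩ := mem_zpowers_iff.1 (hcomm hx)
      refine (QuotientGroup.eq_one_iff _).1 ?_
      show QuotientGroup.mk' (zpowers (c ^ 2)) ⁅c ^ i, g⁆ = 1
      rw [map_commutatorElement, commutatorElement_eq_one_iff_mul_comm, map_zpow]
      let f := QuotientGroup.mk' (zpowers (c ^ 2))
      have hca : Commute (f a) (f c) := by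
        obtain ⟨r, hr⟩ := hsodd
        have h2 : f c ^ (2 : ℤ) = 1 := by
          rw [← map_zpow]
          exact (QuotientGroup.eq_one_iff _).2 (mem_zpowers_iff.2 ⟨1, by rw [zpow_one, ← zpow_natCast]; rfl⟩)
        refine mul_inv_eq_iff_eq_mul.1 ?_
        rw [← map_inv, ← map_mul, ← map_mul, hac, hr, map_zpow, zpow_add, zpow_mul, h2, one_zpow, one_mul, zpow_one]
      have hP : ((centralizer {f c}).comap f) = ⊤ :=
        hgen3 (mem_centralizer_singleton_iff.2 hca.eq)
          (mem_centralizer_singleton_iff.2 (hcb.map f).eq) (mem_centralizer_singleton_iff.2 ((hzall c).symm.map f).eq)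
      exact (Commute.zpow_right (mem_centralizer_singleton_iff.1 (hP.ge (mem_top g))) i).symm.eq
    · rintro _ ⟨x, hx, rfl⟩
      obtain ⟨i, rfl⟩ := mem_zpowers_iff.1 (hcomm hx)
      exact mem_zpowers_iff.2 ⟨i, by dsimp only; rw [← zpow_natCast, ← zpow_natCast, ← zpow_mul, ← zpow_mul, mul_comm]⟩
  refine hzb ?_
  obtain ⟨k, hk⟩ := mem_zpowers_iff.1 (hle hzR)
  refine ⟨(s - 1) * 2 * k, ?_⟩
  show b ^ ((s - 1) * 2 * k) = z
  rw [← hk, hc, ← zpow_natCast, ← zpow_mul, ((hzall (b ^ (s - 1))).zpow_right e).mul_zpow, ← zpow_mul,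
    ← zpow_mul z, show e * ((2 : ℕ) * k) = (2 : ℤ) * (e * k) by push_cast; ring, zpow_mul z, hb2, one_zpow, mul_one]
  congr 1
  push_cast; ring

/-- In the class two case, a generator is an involution. -/
theorem exists_involution_generator [Finite G] (hG : IsPGroup 2 G) (hnm : ¬ Cfsg.IsMetacyclic G)
    {x y c : G} (hxy : ∀ g : G, ∃ i j : ℤ, g = x ^ i * y ^ j) (hc : c ∈ center G) (hc2 : c ^ 2 = 1)
    (hD : commutator G ≤ zpowers c) :
    ∃ a b : G, closure ({a, b} : Set G) = ⊤ ∧ a ^ 2 = 1 := by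
  haveI := Fact.mk Nat.prime_two
  have hgen : closure ({x, y} : Set G) = ⊤ := eq_top_iff.2 fun g _ => by
    obtain ⟨i, j, rfl⟩ := hxy g
    exact mul_mem (zpow_mem (subset_closure (by simp)) _) (zpow_mem (subset_closure (by simp)) _)
  -- a generating pair from an odd exponent
  have hpair : ∀ i j : ℤ, Odd i ∨ Odd j →
      ∃ w, closure ({x ^ i * y ^ j, w} : Set G) = ⊤ := by
    intro i j hij
    rcases hij with hi | hj
    · refine ⟨y, eq_top_iff.2 (hgen ▸ (closure_le _).2 ?_)⟩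
      have hy : y ∈ closure ({x ^ i * y ^ j, y} : Set G) := subset_closure (by simp)
      rintro g (rfl | rfl)
      · refine (zpowers_le.2 ?_) (zpowers_zpow_odd hG _ hi)
        have := mul_mem (subset_closure (show g ^ i * y ^ j ∈ ({g ^ i * y ^ j, y} : Set G) by simp))
          (zpow_mem hy (-j))
        simpa using this
      · exact hy
    · refine ⟨x, eq_top_iff.2 (hgen ▸ (closure_le _).2 ?_)⟩
      have hx : x ∈ closure ({x ^ i * y ^ j, x} : Set G) := subset_closure (by simp)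
      rintro g (rfl | rfl)
      · exact hx
      · refine (zpowers_le.2 ?_) (zpowers_zpow_odd hG _ hj)
        have := mul_mem (zpow_mem hx (-i))
          (subset_closure (show x ^ i * g ^ j ∈ ({x ^ i * g ^ j, x} : Set G) by simp))
        simpa [← mul_assoc] using this
  by_cases hab : commutator G = ⊥
  · exact absurd (TwoGroups85.isMetacyclic_of_pair hgen (hab ▸ bot_le)) hnm
  have hc1 : c ≠ 1 := fun h => hab (le_bot_iff.1 (hD.trans (by rw [h, zpowers_one_eq_bot])))
  have hcomm' : c ∈ commutator G := by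
    by_contra h
    refine hab (le_bot_iff.1 fun g hg => ?_)
    rcases zpowers_cases_two hc2 (hD hg) with rfl | rfl
    · exact one_mem _
    · exact absurd hg h
  have hzc : ∀ g, Commute g c := fun g => mem_center_iff.1 hc g
  have hyx : y * x * y⁻¹ * x⁻¹ = c := by
    rcases zpowers_cases_two hc2 (hD (commutator_mem_commutator (mem_top y) (mem_top x))) with h | h
    · refine absurd ?_ hab
      refine le_bot_iff.1 (closure_pair_comm_le (a := y) (b := x) (by rw [Set.pair_comm]; exact hgen) ?_)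
      rw [← commutatorElement_def, h]; exact one_mem _
    · rw [← commutatorElement_def]; exact h
  have hconj : ∀ i : ℤ, y * x ^ i * y⁻¹ = x ^ i * c ^ i := fun i => by
    rw [← conj_zpow, ← (hzc x).mul_zpow, (hzc x).eq, ← hyx, inv_mul_cancel_right]
  have hconj2 : ∀ i j : ℤ, y ^ j * x ^ i * (y ^ j)⁻¹ = x ^ i * c ^ (i * j) := by
    intro i j
    induction j using Int.induction_on with
    | zero => simp
    | succ k ih =>
      rw [add_comm (k : ℤ) 1, zpow_add, zpow_one, mul_add, mul_one, zpow_add]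
      calc y * y ^ (k : ℤ) * x ^ i * (y * y ^ (k : ℤ))⁻¹ = y * (y ^ (k : ℤ) * x ^ i * (y ^ (k : ℤ))⁻¹) * y⁻¹ := by
            group
        _ = y * x ^ i * y⁻¹ * (y * c ^ (i * (k : ℤ)) * y⁻¹) := by rw [ih]; group
        _ = _ := by
          rw [hconj, ((hzc y).zpow_right _).eq, mul_inv_cancel_right, mul_assoc]
    | pred k ih =>
      have h1 : y ^ (-(k : ℤ) - 1) * x ^ i * (y ^ (-(k : ℤ) - 1))⁻¹ =
          y⁻¹ * (y ^ (-(k : ℤ)) * x ^ i * (y ^ (-(k : ℤ)))⁻¹) * y := by group
      rw [h1, ih]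
      have h2 : y⁻¹ * x ^ i * y = x ^ i * c ^ (-i) := by
        have h3 : y⁻¹ * (y * x ^ i * y⁻¹) * y = x ^ i := by group
        rw [hconj, ← mul_assoc, mul_assoc _ (c ^ i) y, ← ((hzc y).zpow_right i).eq, ← mul_assoc] at h3
        rw [zpow_neg, eq_mul_inv_iff_mul_eq, h3]
      rw [← mul_assoc, mul_assoc _ (c ^ (i * -(k : ℤ))) y, ← ((hzc y).zpow_right _).eq, ← mul_assoc, h2,
        mul_assoc, ← zpow_add]
      congr 2; ring
  have hsq : ∀ i j : ℤ, (x ^ i * y ^ j) ^ (2 : ℕ) = x ^ (i + i) * y ^ (j + j) * c ^ (i * j) := by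
    intro i j
    rw [pow_two, zpow_add, zpow_add]
    calc x ^ i * y ^ j * (x ^ i * y ^ j) = x ^ i * (y ^ j * x ^ i * (y ^ j)⁻¹) * (y ^ j * y ^ j) := by group
      _ = x ^ i * x ^ i * (c ^ (i * j) * (y ^ j * y ^ j)) := by rw [hconj2]; simp only [mul_assoc]
      _ = _ := by rw [← ((hzc (y ^ j * y ^ j)).zpow_right _).eq]; simp only [mul_assoc]
  have h2c : c ^ (2 : ℤ) = 1 := by exact_mod_cast hc2
  suffices key : ∀ (n : ℕ) (i j : ℤ), i.natAbs + j.natAbs ≤ n → c ∈ zpowers (x ^ i * y ^ j) →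
      ∃ a b : G, closure ({a, b} : Set G) = ⊤ ∧ a ^ 2 = 1 by
    obtain ⟨i, j, hij⟩ := hxy c
    exact key _ i j le_rfl (hij ▸ mem_zpowers c)
  intro n
  induction n using Nat.strong_induction_on with
  | _ n ih =>
  intro i j hn hmem
  by_cases hodd : Odd i ∨ Odd j
  · obtain ⟨w, hw⟩ := hpair i j hodd
    exact absurd (TwoGroups85.isMetacyclic_of_pair hw (hD.trans (zpowers_le.2 hmem))) hnm
  rw [not_or, Int.not_odd_iff_even, Int.not_odd_iff_even] at hodd
  obtain ⟨⟨i, rfl⟩, ⟨j, rfl⟩⟩ := hodd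
  have hne : i ≠ 0 ∨ j ≠ 0 := by
    by_contra h
    push Not at h
    rw [h.1, h.2] at hmem
    simp [hc1] at hmem
  have hn' : i.natAbs + j.natAbs < n := by
    have : (i + i).natAbs = 2 * i.natAbs := by rw [← two_mul, Int.natAbs_mul]; rfl
    have : (j + j).natAbs = 2 * j.natAbs := by rw [← two_mul, Int.natAbs_mul]; rfl
    omega
  have heq : x ^ (i + i) * y ^ (j + j) = (x ^ i * y ^ j) ^ (2 : ℕ) * c ^ (i * j) := by
    rw [hsq, mul_assoc, ← zpow_add, ← two_mul (i * j), zpow_mul, h2c, one_zpow, mul_one]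
  set h := x ^ i * y ^ j
  obtain ⟨m, hm⟩ := mem_zpowers_iff.1 hmem
  rw [heq, ((hzc (h ^ 2)).zpow_right _).mul_zpow, ← zpow_mul] at hm
  by_cases hz : Even (i * j * m)
  · obtain ⟨t, ht⟩ := hz
    rw [ht, ← two_mul, zpow_mul, h2c, one_zpow, mul_one, ← zpow_natCast, ← zpow_mul] at hm
    exact ih _ hn' i j le_rfl ⟨_, hm⟩
  rw [Int.not_even_iff_odd, Int.odd_mul, Int.odd_mul] at hz
  obtain ⟨⟨hi, hj⟩, hm'⟩ := hz
  obtain ⟨t, ht⟩ := (hi.mul hj).mul hm'
  rw [ht, zpow_add, zpow_mul c, h2c, one_zpow, one_mul, zpow_one, mul_eq_right] at hm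
  have hh : h ^ (2 : ℕ) = 1 := by
    obtain ⟨k, hk⟩ := mem_zpowers_iff.1 (zpowers_zpow_odd hG (h ^ 2) hm')
    rw [← hk, hm, one_zpow]
  obtain ⟨w, hw⟩ := hpair i j (Or.inl hi)
  exact ⟨h, w, hw, hh⟩

/-- A group generated by two involutions is metacyclic. -/
theorem isMetacyclic_of_two_involutions [Finite G] {a b : G} (hgen : closure ({a, b} : Set G) = ⊤)
    (ha : a ^ 2 = 1) (hb : b ^ 2 = 1) : Cfsg.IsMetacyclic G := by
  have ha' : a⁻¹ = a := inv_eq_of_mul_eq_one_right (by rwa [← pow_two])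
  have hb' : b⁻¹ = b := inv_eq_of_mul_eq_one_right (by rwa [← pow_two])
  haveI hn : (zpowers (a * b)).Normal := by
    refine normalizer_eq_top_iff.1 (eq_top_iff.2 (hgen ▸ (closure_le _).2 ?_))
    have key : ∀ g : G, g * (a * b) * g⁻¹ = (a * b)⁻¹ → g ∈ normalizer (zpowers (a * b) : Set G) := by
      intro g hg
      refine mem_normalizer_fintype fun w hw => ?_
      obtain ⟨i, rfl⟩ := mem_zpowers_iff.1 hw
      exact mem_zpowers_iff.2 ⟨-i, by rw [← conj_zpow, hg, inv_zpow']⟩
    rintro g (rfl | rfl)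
    · refine key g ?_
      rw [mul_inv_rev, ha', hb', ← mul_assoc, ← pow_two g, ha, one_mul]
    · refine key g ?_
      rw [mul_inv_rev, ha', hb', mul_assoc, mul_assoc a, ← pow_two g, hb, mul_one]
  refine TwoGroups85.isMetacyclic_of_pair (y := a * b) (w := a) (eq_top_iff.2 (hgen ▸ (closure_le _).2 ?_)) ?_
  · rintro g (rfl | rfl)
    · exact subset_closure (by simp)
    · have := mul_mem (inv_mem (subset_closure (show a ∈ ({a * g, a} : Set G) by simp)))
        (subset_closure (show a * g ∈ ({a * g, a} : Set G) by simp))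
      simpa using this
  · refine closure_pair_comm_le hgen ?_
    refine mem_zpowers_iff.2 ⟨2, ?_⟩
    rw [ha', hb', zpow_two, mul_assoc (a * b)]

section Main

variable [Finite G] (hG : IsPGroup 2 G) (hb : Bicyclic G) (hnm : ¬ Cfsg.IsMetacyclic G)

include hG hb hnm

theorem exists_gens : ∃ a b : G, closure ({a, b} : Set G) = ⊤ ∧ a ^ 2 ∈ derRad G := by
  haveI := Fact.mk Nat.prime_two
  obtain ⟨x, y, hxy⟩ := hb
  let π := QuotientGroup.mk' (derRad G)
  have hQ : IsPGroup 2 (G ⧸ derRad G) := hG.to_quotient _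
  have hgen : closure ({x, y} : Set G) = ⊤ := eq_top_iff.2 fun g _ => by
    obtain ⟨i, j, rfl⟩ := hxy g
    exact mul_mem (zpow_mem (subset_closure (by simp)) _) (zpow_mem (subset_closure (by simp)) _)
  have hgenQ : closure ({π x, π y} : Set (G ⧸ derRad G)) = ⊤ := by
    rw [← Set.image_pair, ← MonoidHom.map_closure, hgen,
      map_top_of_surjective _ (QuotientGroup.mk'_surjective _)]
  set c := π (x * y * x⁻¹ * y⁻¹) with hcdef
  have hcG : x * y * x⁻¹ * y⁻¹ ∈ commutator G := by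
    rw [← commutatorElement_def]; exact commutator_mem_commutator (mem_top x) (mem_top y)
  have hc2 : c ^ 2 = 1 := by
    rw [← map_pow]
    exact (QuotientGroup.eq_one_iff _).2 (mem_sup_right (subset_closure ⟨_, hcG, rfl⟩))
  have hcen : c ∈ center (G ⧸ derRad G) := by
    refine mem_center_iff.2 fun q => ?_
    obtain ⟨g, rfl⟩ := QuotientGroup.mk'_surjective _ q
    refine Eq.symm (commutatorElement_eq_one_iff_mul_comm.1 ?_)
    rw [hcdef, ← map_commutatorElement]
    exact (QuotientGroup.eq_one_iff _).2 (mem_sup_left (commutator_mem_commutator hcG (mem_top g)))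
  haveI : (zpowers c).Normal := ⟨fun w hw g => by
    have hw' : w ∈ center _ := zpowers_le.2 hcen hw
    rwa [(mem_center_iff.1 hw' g), mul_inv_cancel_right]⟩
  have hD : commutator (G ⧸ derRad G) ≤ zpowers c := by
    refine closure_pair_comm_le hgenQ ?_
    rw [hcdef]; simp [π]
  have hnmQ : ¬ Cfsg.IsMetacyclic (G ⧸ derRad G) := fun h => hnm (isMetacyclic_of_quot_derRad hG h)
  have hxyQ : ∀ q : G ⧸ derRad G, ∃ i j : ℤ, q = π x ^ i * π y ^ j := fun q => by
    obtain ⟨g, rfl⟩ := QuotientGroup.mk'_surjective _ q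
    obtain ⟨i, j, rfl⟩ := hxy g
    exact ⟨i, j, by simp [π]⟩
  obtain ⟨a', b', hab, ha⟩ := exists_involution_generator hQ hnmQ hxyQ hcen hc2 hD
  obtain ⟨a, rfl⟩ := QuotientGroup.mk'_surjective _ a'
  obtain ⟨b, rfl⟩ := QuotientGroup.mk'_surjective _ b'
  refine ⟨a, b, ?_, (QuotientGroup.eq_one_iff _).1 (by rw [QuotientGroup.mk_pow]; exact ha)⟩
  rw [← Set.image_pair, ← MonoidHom.map_closure, ← map_top_of_surjective π (QuotientGroup.mk'_surjective _),
    Subgroup.map_eq_map_iff, QuotientGroup.ker_mk', top_sup_eq] at hab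
  exact frattini_nongenerating (le_antisymm le_top (hab ▸ sup_le_sup_left (derRad_le_frattini hG) _))

end Main

/-- Two elements outside `Φ(G)` with squares in `[G',G](G')²` cannot generate. -/
theorem not_gen_of_sq [Finite G] (hG : IsPGroup 2 G) (hnm : ¬ Cfsg.IsMetacyclic G) {a a' : G}
    (ha : a ^ 2 ∈ derRad G) (ha' : a' ^ 2 ∈ derRad G) : closure ({a, a'} : Set G) ≠ ⊤ := by
  intro h
  refine hnm (isMetacyclic_of_quot_derRad hG (isMetacyclic_of_two_involutions
    (a := QuotientGroup.mk' (derRad G) a) (b := QuotientGroup.mk' (derRad G) a') ?_ ?_ ?_))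
  · rw [← Set.image_pair, ← MonoidHom.map_closure, h,
      map_top_of_surjective _ (QuotientGroup.mk'_surjective _)]
  · rw [← map_pow]; exact (QuotientGroup.eq_one_iff _).2 ha
  · rw [← map_pow]; exact (QuotientGroup.eq_one_iff _).2 ha'

end CfsgLib.Bicyclic19
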