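import Cfsg.Agent.Lib.Bicyclic19.Moved

/-!
# The case of an abelian `[P, θ]`: the commutator subgroup is cyclic
-/

set_option autoImplicit false
set_option linter.style.haveILetI false
set_option linter.unusedSectionVars false

namespace CfsgLib.Bicyclic19

open Subgroup
open scoped commutatorElement

universe u

variable {G : Type u} [Group G]

/-- A proper inclusion gives an element of the bigger group normalising the smaller. -/
theorem exists_normalizing [Finite G] (hG : IsPGroup 2 G) {P K : Subgroup G} (hPK : P ≤ K) (hne : P ≠ K) :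
    ∃ s ∈ K, s ∉ P ∧ s ∈ normalizer (P : Set G) := by
  haveI := Fact.mk Nat.prime_two
  have : Group.IsNilpotent K := (hG.to_subgroup K).isNilpotent
  have hlt : P.subgroupOf K < ⊤ := lt_top_iff_ne_top.2 fun he => hne (le_antisymm hPK fun x hx =>
    mem_subgroupOf.1 (he.ge (mem_top ⟨x, hx⟩)))
  obtain ⟨s, hs, hsP⟩ := Set.exists_of_ssubset (Group.normalizerCondition_of_isNilpotent (G := K) _ hlt)
  exact ⟨s, s.2, fun h => hsP (mem_subgroupOf.2 h), mem_normalizer_fintype fun x hx =>
    mem_subgroupOf.1 ((mem_normalizer_iff.1 hs ⟨x, hPK hx⟩).1 (mem_subgroupOf.2 hx))⟩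

namespace Ctx

variable {P : Subgroup G} {g : G} {θ : G → G} (h : Ctx P g θ) [Finite G] (hG : IsPGroup 2 G) (hb : Bicyclic G)
  (hnm : ¬ Cfsg.IsMetacyclic G)

include h hG hb hnm

/-- The main conclusion of the abelian case. -/
theorem cyclic_of_abelian (hTc : ∀ u ∈ T P θ, ∀ w ∈ T P θ, u * w = w * u)
    (hfix : ∀ u ∈ T P θ, θ u = u → u = 1) {e : G} (he : e ∈ T P θ) (heF : e ∈ frattini G)
    (heF' : θ e ∈ frattini G) (he2 : e * e = 1) (heθ : θ e ≠ e) : IsCyclic (_root_.commutator G) := by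
  haveI := Fact.mk Nat.prime_two
  set B := closure (sqs (T P θ)) with hB
  have hTP := h.T_le
  have hθe := h.T_map he
  have heP := hTP he
  have hθeP := hTP hθe
  have he1 : e ≠ 1 := fun h0 => heθ (by rw [h0, h.map_one])
  have hθe2 : θ e * θ e = 1 := by rw [← h.mul _ heP _ heP, he2, h.map_one]
  have hθe1 : θ e ≠ 1 := fun h0 => he1 (by
    have h3 := h.cube e heP
    rw [h0, h.map_one, h.map_one] at h3
    exact h3.symm)
  have heΩ : e ∈ omega hG hb hnm := ⟨heF, he2⟩
  have hθeΩ : θ e ∈ omega hG hb hnm := ⟨heF', hθe2⟩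
  have hΩcases : ∀ x ∈ omega hG hb hnm, x = 1 ∨ x = e ∨ x = θ e ∨ x = e * θ e := fun x hx =>
    omega_eq hG hb hnm heΩ hθeΩ he1 hθe1 (Ne.symm heθ) hx
  have hΩT : ∀ x ∈ omega hG hb hnm, x ∈ T P θ := by
    intro x hx
    rcases hΩcases x hx with rfl | rfl | rfl | rfl
    · exact one_mem _
    · exact he
    · exact hθe
    · exact mul_mem he hθe
  have hprod : θ (θ e) = e * θ e := by
    have hnorm : e * θ e * θ (θ e) = 1 := by
      have hθθe := h.T_map hθe
      refine hfix _ (mul_mem (mul_mem he hθe) hθθe) ?_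
      rw [h.mul _ (mul_mem heP hθeP) _ (hTP hθθe), h.mul _ heP _ hθeP, h.cube e heP,
        hTc _ (mul_mem hθe hθθe) _ he, mul_assoc]
    have h2 := eq_inv_of_mul_eq_one_right hnorm
    rw [mul_inv_rev, inv_eq_of_mul_eq_one_right hθe2, inv_eq_of_mul_eq_one_right he2] at h2
    rw [h2]; exact hTc _ hθe _ he
  -- `P` centralises the involutions
  have hPe : ∀ v, (v = e ∨ v = θ e) → ∀ y ∈ P, y * v = v * y := by
    intro v hv y hy
    have hvT : v ∈ T P θ := by rcases hv with rfl | rfl <;> assumption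
    have hvΩ : v ∈ omega hG hb hnm := by rcases hv with rfl | rfl <;> assumption
    obtain ⟨t, ht, c, hc, hcθ, rfl⟩ := h.decomp hG hy
    suffices hcv : c * v = v * c by rw [mul_assoc, hcv, ← mul_assoc, hTc t ht v hvT, mul_assoc]
    have hcm : ∀ w ∈ T P θ, θ (c * w * c⁻¹) = c * θ w * c⁻¹ := fun w hw => by
      rw [h.mul _ (mul_mem hc (hTP hw)) _ (inv_mem hc), h.mul _ hc _ (hTP hw), h.map_inv hc, hcθ]
    have hcw : ∀ w ∈ omega hG hb hnm, c * w * c⁻¹ ∈ omega hG hb hnm := fun w hw =>
      (omega_normal hG hb hnm).conj_mem w hw c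
    by_contra hne
    have hne' : c * v * c⁻¹ ≠ v := fun h0 => hne (mul_inv_eq_iff_eq_mul.1 h0)
    -- `c` acts on the three involutions commuting with `θ`
    have h3 : ∀ w, (w = e ∨ w = θ e ∨ w = θ (θ e)) → c ^ (3 : ℤ) * w * (c ^ (3 : ℤ))⁻¹ = w := by
      intro w hw
      have hwT : w ∈ T P θ := by
        rcases hw with rfl | rfl | rfl
        · exact he
        · exact hθe
        · exact h.T_map hθe
      have hwΩ : w ∈ omega hG hb hnm := by
        rcases hw with rfl | rfl | rfl
        · exact heΩ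
        · exact hθeΩ
        · rw [hprod]; exact mul_mem heΩ hθeΩ
      have hw1 : w ≠ 1 := by
        rcases hw with rfl | rfl | rfl
        · exact he1
        · exact hθe1
        · intro h0
          have h4 := h.cube e heP
          rw [h0, h.map_one] at h4
          exact he1 h4.symm
      -- `c w c⁻¹` is one of the three conjugates of `w`
      obtain ⟨k, hk⟩ : ∃ k : ℕ, c * w * c⁻¹ = θ^[k] w := by
        have hcases := hΩcases _ (hcw w hwΩ)
        rw [← hprod] at hcases
        have hc3 : θ (θ (θ e)) = e := h.cube e heP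
        rcases hcases with h0 | h0 | h0 | h0
        · exact absurd (by simpa using h0) hw1
        all_goals
          rcases hw with rfl | rfl | rfl <;>
          first
          | exact ⟨0, h0⟩
          | exact ⟨1, h0⟩
          | exact ⟨2, h0⟩
          | exact ⟨1, by rw [h0]; exact hc3.symm⟩
          | exact ⟨2, by rw [h0]; exact hc3.symm⟩
          | exact ⟨2, by rw [h0]; exact (congrArg θ hc3).symm⟩
      have hiter : ∀ j : ℕ, θ^[j] w ∈ T P θ ∧ c * θ^[j] w * c⁻¹ = θ^[j + k] w := by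
        intro j
        induction j with
        | zero => exact ⟨hwT, by rw [zero_add]; exact hk⟩
        | succ j ih =>
          rw [Function.iterate_succ_apply', show j + 1 + k = (j + k) + 1 by omega, Function.iterate_succ_apply',
            ← ih.2, hcm _ ih.1]
          exact ⟨h.T_map ih.1, rfl⟩
      have hper : ∀ j : ℕ, θ^[3 * j] w = w := by
        intro j
        induction j with
        | zero => rfl
        | succ j ih =>
          rw [show 3 * (j + 1) = 3 * j + 1 + 1 + 1 by omega, Function.iterate_succ_apply', Function.iterate_succ_apply',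
            Function.iterate_succ_apply', ih]
          exact h.cube w (hTP hwT)
      rw [show (3 : ℤ) = ((3 : ℕ) : ℤ) from rfl, zpow_natCast, pow_succ, pow_two,
        show c * c * c * w * (c * c * c)⁻¹ = c * (c * (c * w * c⁻¹) * c⁻¹) * c⁻¹ by group, hk, (hiter k).2,
        (hiter (k + k)).2, show k + k + k = 3 * k by omega, hper]
    refine hne ?_
    have hcc : c ^ (3 : ℤ) ∈ centralizer ({v} : Set G) := mem_centralizer_singleton_iff.2
      (mul_inv_eq_iff_eq_mul.1 (h3 v (by rcases hv with rfl | rfl <;> simp)))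
    exact mem_centralizer_singleton_iff.1 ((zpowers_le.2 hcc) (zpowers_zpow_odd hG c ⟨1, rfl⟩))
  -- `g` moves an involution
  have hgmove : ¬ (g * e = e * g ∧ g * θ e = θ e * g) := by
    rintro ⟨h1, h2⟩
    obtain ⟨p, hp, hrel⟩ := h.inv
    have h3 := hrel e heP
    rw [h2, h1, mul_inv_cancel_right, mul_inv_cancel_right] at h3
    rw [hprod, show p * (e * θ e) * p⁻¹ = e * θ e from mul_inv_eq_iff_eq_mul.2 (by
      rw [← mul_assoc, hPe e (Or.inl rfl) p hp, mul_assoc, hPe (θ e) (Or.inr rfl) p hp, mul_assoc])] at h3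
    exact he1 (right_eq_mul.1 h3)
  set K : Subgroup G := centralizer {e, θ e} with hK
  have hKmem : ∀ {x : G}, x ∈ K ↔ x * e = e * x ∧ x * θ e = θ e * x := fun {x} =>
    ⟨fun hx => ⟨(hx e (by simp)).symm, (hx (θ e) (by simp)).symm⟩, fun hx v hv => by
      rcases hv with rfl | rfl
      · exact hx.1.symm
      · exact hx.2.symm⟩
  have hgK : g ∉ K := fun h0 => hgmove (hKmem.1 h0)
  have hPK : P ≤ K := fun y hy => hKmem.2 ⟨hPe e (Or.inl rfl) y hy, hPe (θ e) (Or.inr rfl) y hy⟩
  have hPeq : P = K := by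
    by_contra hne
    obtain ⟨s, hsK, hsP, hsN⟩ := exists_normalizing hG hPK hne
    rcases h.norm s hsN with h0 | h0
    · exact hsP h0
    · refine hgK ?_
      have := mul_mem hsK (inv_mem (hPK h0))
      rwa [show s * (g⁻¹ * s)⁻¹ = g by group] at this
  have hΦP : frattini G ≤ P := hPeq ▸ fun x hx => hKmem.2
    ⟨commute_omega hG hb hnm hx heΩ, commute_omega hG hb hnm hx hθeΩ⟩
  have hPn : P.Normal := ⟨fun x hx s => by
    have h1 : ⁅s, x⁆ ∈ P := hΦP (commutator_le_frattini_two hG (commutator_mem_commutator (mem_top s) (mem_top x)))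
    have := mul_mem h1 hx
    rwa [commutatorElement_def, inv_mul_cancel_right] at this⟩
  haveI := hPn
  have hall : ∀ s : G, s ∈ P ∨ g⁻¹ * s ∈ P := fun s =>
    h.norm s (by rw [normalizer_eq_top]; exact mem_top s)
  have hgg : g * g ∈ P := by
    rcases hall (g * g) with h1 | h1
    · exact h1
    · rw [inv_mul_cancel_left] at h1; exact absurd h1 h.gP
  -- fixed points of `θ` in `Φ(G)` are trivial
  have hfixF : ∀ c ∈ P, θ c = c → c ∈ frattini G → c = 1 := by
    intro c hc hcθ hcF
    obtain ⟨k, hk⟩ := hG c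
    induction k generalizing c with
    | zero => rw [pow_zero, pow_one] at hk; exact hk
    | succ k ih =>
      have h2 := ih (c * c) (mul_mem hc hc) (by rw [h.mul _ hc _ hc, hcθ]) (mul_mem hcF hcF)
        (by rw [← pow_two, ← pow_mul, ← pow_succ']; exact hk)
      exact hfix c (hΩT c ⟨hcF, h2⟩) hcθ
  obtain ⟨hlfix, hlay⟩ := h.layer hG hb hnm
  obtain ⟨t, ht, htB, hgt, hgθt⟩ := h.exists_swap hG hb hnm
  have hTgen : T P θ ≤ closure ({t, g * t * g⁻¹} : Set G) := by
    refine le_of_le_sup_sqs hG ((closure_le _).2 ?_) fun x hx => ?_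
    · rintro _ (rfl | rfl)
      · exact ht
      · exact h.g_mem_T hG ht
    · have ht' : t ∈ closure ({t, g * t * g⁻¹} : Set G) ⊔ B := mem_sup_left (subset_closure (by simp))
      have hθt' : θ t ∈ closure ({t, g * t * g⁻¹} : Set G) ⊔ B := by
        have := mul_mem (mem_sup_left (T := B) (subset_closure (by simp) :
          g * t * g⁻¹ ∈ closure ({t, g * t * g⁻¹} : Set G))) (mem_sup_right (inv_mem hgt))
        convert this using 1
        group
      have hθθt' : θ (θ t) ∈ closure ({t, g * t * g⁻¹} : Set G) ⊔ B := by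
        have := mul_mem (inv_mem (mul_mem ht' hθt')) (mem_sup_right (hlay t ht htB).1)
        convert this using 1
        group
      rcases (hlay t ht htB).2 x hx with e' | e' | e' | e'
      · exact mem_sup_right e'
      · simpa using mul_mem ht' (mem_sup_right (S := closure ({t, g * t * g⁻¹} : Set G)) e')
      · simpa using mul_mem hθt' (mem_sup_right (S := closure ({t, g * t * g⁻¹} : Set G)) e')
      · simpa using mul_mem hθθt' (mem_sup_right (S := closure ({t, g * t * g⁻¹} : Set G)) e')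
  -- the fixed points of `θ` in `P`
  by_cases hC : ∀ c ∈ P, θ c = c → c = 1
  · have hPT : P ≤ T P θ := fun y hy => by
      obtain ⟨u, hu, c, hc, hcθ, rfl⟩ := h.decomp hG hy
      rw [hC c hc hcθ, mul_one]; exact hu
    have hgt' : closure ({g, t} : Set G) = ⊤ := by
      refine eq_top_iff.2 fun s _ => ?_
      have hgm : g ∈ closure ({g, t} : Set G) := subset_closure (by simp)
      have htm : t ∈ closure ({g, t} : Set G) := subset_closure (by simp)
      have hT : T P θ ≤ closure ({g, t} : Set G) := hTgen.trans ((closure_le _).2 (by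
        rintro _ (rfl | rfl)
        · exact htm
        · exact mul_mem (mul_mem hgm htm) (inv_mem hgm)))
      rcases hall s with h1 | h1
      · exact hT (hPT h1)
      · have := mul_mem hgm (hT (hPT h1))
        rwa [mul_inv_cancel_left] at this
    set d := g * t * g⁻¹ * t⁻¹ with hd
    have hgt2 : g * t * g⁻¹ ∈ T P θ := h.g_mem_T hG ht
    have hdT : d ∈ T P θ := mul_mem hgt2 (inv_mem ht)
    have hgd : g * d * g⁻¹ = d⁻¹ := by
      have h2 : g * g * t * (g * g)⁻¹ = t := by
        rw [hTc (g * g) (hPT hgg) t ht, mul_inv_cancel_right]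
      calc g * d * g⁻¹ = (g * g * t * (g * g)⁻¹) * (g * t * g⁻¹)⁻¹ := by rw [hd]; group
        _ = t * (g * t * g⁻¹)⁻¹ := by rw [h2]
        _ = d⁻¹ := by rw [hd]; group
    haveI hdn : (zpowers d).Normal := by
      refine normalizer_eq_top_iff.1 (eq_top_iff.2 (hgt' ▸ (closure_le _).2 ?_))
      rintro w (rfl | rfl)
      · refine mem_normalizer_fintype fun x hx => ?_
        obtain ⟨i, rfl⟩ := mem_zpowers_iff.1 hx
        exact mem_zpowers_iff.2 ⟨-i, by rw [← conj_zpow, hgd, inv_zpow']⟩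
      · refine mem_normalizer_fintype fun x hx => ?_
        obtain ⟨i, rfl⟩ := mem_zpowers_iff.1 hx
        exact mem_zpowers_iff.2 ⟨i, by rw [← conj_zpow, hTc w ht d hdT, mul_inv_cancel_right]⟩
    exact Subgroup.isCyclic_of_le (closure_pair_comm_le hgt' (H := zpowers d) (mem_zpowers d))
  exfalso
  push Not at hC
  obtain ⟨w, hw, hwθ, hw1⟩ := hC
  have hwT : w ∉ T P θ := fun h0 => hw1 (hfix w h0 hwθ)
  have hwF : w ∉ frattini G := fun h0 => hw1 (hfixF w hw hwθ h0)
  have hw2 : w * w = 1 := hfixF _ (mul_mem hw hw) (by rw [h.mul _ hw _ hw, hwθ]) (by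
    rw [← pow_two]; exact CfsgLib.PGroup.pow_mem_frattini hG w)
  have hwi : w⁻¹ = w := inv_eq_of_mul_eq_one_right hw2
  have hPTw : ∀ y ∈ P, y ∈ T P θ ∨ ∃ u ∈ T P θ, y = u * w := by
    intro y hy
    obtain ⟨u, hu, c, hc, hcθ, rfl⟩ := h.decomp hG hy
    by_cases hc1 : c = 1
    · left; rw [hc1, mul_one]; exact hu
    · right
      refine ⟨u, hu, ?_⟩
      have hcF : c ∉ frattini G := fun h0 => hc1 (hfixF c hc hcθ h0)
      have hcw : c * w = 1 := hfixF _ (mul_mem hc hw) (by rw [h.mul _ hc _ hw, hcθ, hwθ])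
        (mul_mem_frattini_of_proper hG hb h.gP hc hw hcF hwF)
      rw [eq_inv_of_mul_eq_one_left hcw, hwi]
  -- the fixed points of `g` on `T / Φ(T)`
  have hBg : ∀ b ∈ B, g * b * g⁻¹ ∈ B := fun b hb => h.B_g hG hb
  have hBc : ∀ {y}, y ∈ P → ∀ b ∈ B, y * b * y⁻¹ ∈ B := fun {y} hy b hb => h.B_conj hG hy hb
  let N : Subgroup G :=
    { carrier := {x | x ∈ T P θ ∧ Rel B x (g * x * g⁻¹)}
      one_mem' := ⟨one_mem _, by simpa using Rel.refl (1 : G)⟩
      mul_mem' := fun {x y} hx hy => ⟨mul_mem hx.1 hy.1, by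
        show (x * y)⁻¹ * (g * (x * y) * g⁻¹) ∈ B
        have := mul_mem (hBc (inv_mem (hTP hy.1)) _ hx.2) hy.2
        convert this using 1
        group⟩
      inv_mem' := fun {x} hx => ⟨inv_mem hx.1, by
        show x⁻¹⁻¹ * (g * x⁻¹ * g⁻¹) ∈ B
        have := hBc (hTP hx.1) _ (inv_mem hx.2)
        convert this using 1
        rw [hTc x hx.1 _ (inv_mem (mul_mem (inv_mem hx.1) (h.g_mem_T hG hx.1))), mul_inv_cancel_right]
        rw [mul_inv_rev, inv_inv, hTc _ (inv_mem (h.g_mem_T hG hx.1)) x hx.1]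
        group⟩ }
  have hBN : B ≤ N := fun b hb => ⟨sqs_closure_le _ hb, mul_mem (inv_mem hb) (hBg b hb)⟩
  have htN : t ∉ N := fun h0 => htB (hlfix t ht (h0.2.trans hgt.symm))
  have hNF : ∀ x ∈ N, x ∈ frattini G := by
    intro x hx
    have hBF : B ≤ frattini G := sqs_le_frattini hG _
    have hcls : ∀ v ∈ T P θ, Rel B v x → v ∈ N := fun v hv hr => by
      refine ⟨hv, ?_⟩
      exact (hr.trans hx.2).trans (Rel.conj hBg hr).symm
    rcases (hlay t ht htB).2 x hx.1 with e' | e' | e' | e'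
    · exact hBF e'
    · exact absurd (hcls t ht e') htN
    · refine absurd (hcls _ (h.T_map ht) e') fun h0 => htB ?_
      exact hlfix t ht (hgθt.trans h0.2.symm)
    · have h1 : t * (g * t * g⁻¹) ∈ frattini G := by
        have e2 : t * (g * t * g⁻¹) = (t * t) * (⁅t⁻¹, g⁆) := by rw [commutatorElement_def]; group
        rw [e2]
        refine mul_mem ?_ (commutator_le_frattini_two hG (commutator_mem_commutator (mem_top _) (mem_top _)))
        rw [← pow_two]; exact CfsgLib.PGroup.pow_mem_frattini hG t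
      have h2 : (t * θ t)⁻¹ * (t * θ t * θ (θ t)) ∈ frattini G → x ∈ frattini G := fun h2 => by
        rw [show (t * θ t)⁻¹ * (t * θ t * θ (θ t)) = θ (θ t) by group] at h2
        have := mul_mem h2 (hBF e')
        rwa [mul_inv_cancel_left] at this
      refine h2 (mul_mem (inv_mem ?_) (hBF (hlay t ht htB).1))
      have := mul_mem h1 (hBF (inv_mem hgt))
      rwa [show t * (g * t * g⁻¹) * ((θ t)⁻¹ * (g * t * g⁻¹))⁻¹ = t * θ t by group] at this
  rcases hPTw _ hgg with hgT | ⟨t', ht', hg2⟩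
  · -- `g² ∈ T`: all squares lie in `N`, so `Φ(G) ≤ T`
    have hgN : g * g ∈ N := ⟨hgT, by rw [show g * (g * g) * g⁻¹ = g * g by group]; exact Rel.refl _⟩
    set t'' := g * w * g⁻¹ * w with ht''
    have hgw : g * w * g⁻¹ = t'' * w := by rw [ht'', mul_assoc _ w w, hw2, mul_one]
    have hgwP : g * w * g⁻¹ ∈ P := hPn.conj_mem w hw g
    have ht''T : t'' ∈ T P θ := by
      rcases hPTw _ hgwP with h0 | ⟨u, hu, h0⟩
      · refine absurd ?_ hwT
        have h1 := h.g_mem_T hG h0
        rw [show g * (g * w * g⁻¹) * g⁻¹ = (g * g) * w * (g * g)⁻¹ by group] at h1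
        have h2 := h.T_conj (inv_mem hgg) h1
        rwa [inv_inv, show (g * g)⁻¹ * (g * g * w * (g * g)⁻¹) * (g * g) = w by group] at h2
      · rw [ht'', h0, mul_assoc, hw2, mul_one]; exact hu
    have ht''N : t'' ∈ N := by
      refine ⟨ht''T, ?_⟩
      show t''⁻¹ * (g * t'' * g⁻¹) ∈ B
      have e1 : g * t'' * g⁻¹ * t'' = (g * g) * w * (g * g)⁻¹ * w⁻¹ := by
        calc g * t'' * g⁻¹ * t'' = g * (g * w * g⁻¹ * w) * g⁻¹ * (g * w * g⁻¹ * w) := by rw [ht'']
          _ = g * g * w * g⁻¹ * (w * w) * g⁻¹ * w := by group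
          _ = g * g * w * (g * g)⁻¹ * w⁻¹ := by rw [hw2, hwi]; group
      have h2 : g * t'' * g⁻¹ * t'' ∈ B := by
        have := (h.P_triv hG hb hnm hw (inv_mem hgT))
        rw [e1]
        have h5 : (g * g)⁻¹⁻¹ * (w * (g * g)⁻¹ * w⁻¹) = g * g * w * (g * g)⁻¹ * w⁻¹ := by
          rw [inv_inv]; simp only [mul_assoc]
        rw [Rel, h5] at this
        exact this
      have h3 : t'' * t'' ∈ B := mul_self_mem_sqs ht''T
      have h4 := mul_mem (inv_mem h3) (mul_mem h2 (one_mem B))
      rw [mul_one, hTc _ (h.g_mem_T hG ht''T) _ ht''T] at h4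
      convert h4 using 1
      group
    have hsqN : ∀ s : G, s * s ∈ N := by
      intro s
      have hP2 : ∀ y ∈ P, y * y ∈ N := by
        intro y hy
        rcases hPTw y hy with hyT | ⟨u, hu, rfl⟩
        · exact hBN (mul_self_mem_sqs hyT)
        · refine hBN ?_
          have h1 := mul_mem (mul_self_mem_sqs hu) (h.P_triv hG hb hnm hw hu)
          rw [show u * u * (u⁻¹ * (w * u * w⁻¹)) = u * (w * u * w⁻¹) by group, hwi] at h1
          rwa [show u * w * (u * w) = u * (w * u * w) by group]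
      have hPg : ∀ y ∈ P, (y * g) * (y * g) ∈ N := by
        intro y hy
        rw [show y * g * (y * g) = y * (g * y * g⁻¹) * (g * g) by group]
        refine mul_mem ?_ hgN
        -- `y · g y g⁻¹ ∈ N`
        have hxx : ∀ x ∈ T P θ, x * (g * x * g⁻¹) ∈ N := fun x hx => by
          refine ⟨mul_mem hx (h.g_mem_T hG hx), ?_⟩
          show (x * (g * x * g⁻¹))⁻¹ * (g * (x * (g * x * g⁻¹)) * g⁻¹) ∈ B
          rw [show g * (x * (g * x * g⁻¹)) * g⁻¹ = (g * x * g⁻¹) * (g * g * x * (g * g)⁻¹) by group,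
            hTc (g * g) hgT x hx, mul_inv_cancel_right, hTc (g * x * g⁻¹) (h.g_mem_T hG hx) x hx, inv_mul_cancel]
          exact one_mem _
        rcases hPTw y hy with hyT | ⟨u, hu, rfl⟩
        · exact hxx y hyT
        · have hgu := h.g_mem_T hG hu
          have hwt := h.P_triv hG hb hnm hw (mul_mem hgu ht''T)
          have e2 : u * w * (g * (u * w) * g⁻¹) = u * (g * u * g⁻¹) * t'' *
              ((g * u * g⁻¹ * t'')⁻¹ * (w * (g * u * g⁻¹ * t'') * w⁻¹)) := by
            rw [show g * (u * w) * g⁻¹ = (g * u * g⁻¹) * (g * w * g⁻¹) by group, hgw, hwi]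
            group
          rw [e2]
          exact mul_mem (mul_mem (hxx u hu) ht''N) (hBN hwt)
      rcases hall s with h1 | h1
      · exact hP2 s h1
      · have h2 := hPg _ h1
        have hNg : ∀ x ∈ N, g * x * g⁻¹ ∈ N := fun x hx => ⟨h.g_mem_T hG hx.1, Rel.conj hBg hx.2⟩
        have := hNg _ h2
        convert this using 1
        group
    have hΦN : frattini G ≤ N := by
      have hle : closure (sqs (⊤ : Subgroup G)) ≤ N := (closure_le _).2 (by
        rintro _ ⟨s, -, rfl⟩
        show s ^ 2 ∈ N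
        rw [pow_two]; exact hsqN s)
      refine CfsgLib.PGroup.frattini_le_of (p := 2) N ?_ fun s => by rw [pow_two]; exact hsqN s
      rw [_root_.commutator_def, commutator_le]
      intro x _ y _
      rw [commutatorElement_def]
      exact hle (comm_mem_sqs (mem_top x) (mem_top y))
    by_cases hTF : T P θ ≤ frattini G
    · exact htN (hΦN (hTF ht))
    · obtain ⟨u, hu, huF⟩ := SetLike.not_le_iff_exists.1 hTF
      refine hwT ?_
      have h1 := (hΦN (mul_mem_frattini_of_proper hG hb h.gP (hTP hu) hw huF hwF)).1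
      have := mul_mem (inv_mem hu) h1
      rwa [inv_mul_cancel_left] at this
  · have hgF : g * g ∈ frattini G := by rw [← pow_two]; exact CfsgLib.PGroup.pow_mem_frattini hG g
    by_cases ht'N : t' ∈ N
    · refine hwF ?_
      have := mul_mem (inv_mem (hNF t' ht'N)) hgF
      rwa [hg2, inv_mul_cancel_left] at this
    set a₀ := (g * t' * g⁻¹)⁻¹ * t' with ha₀
    have hgt'T := h.g_mem_T hG ht'
    have ha₀T : a₀ ∈ T P θ := mul_mem (inv_mem hgt'T) ht'
    have ha₀B : a₀ ∉ B := fun h0 => ht'N ⟨ht', (Rel.symm (show Rel B (g * t' * g⁻¹) t' from h0))⟩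
    have hgw : g * w * g⁻¹ = a₀ * w := by
      calc g * w * g⁻¹ = (g * t' * g⁻¹)⁻¹ * (g * (t' * w) * g⁻¹) := by group
        _ = (g * t' * g⁻¹)⁻¹ * (t' * w) := by rw [← hg2]; group
        _ = a₀ * w := by rw [ha₀]; group
    have hinv₀ : w * a₀ * w⁻¹ = a₀⁻¹ := by
      have h1 : a₀ * w * (a₀ * w) = 1 := by
        rw [← hgw, show g * w * g⁻¹ * (g * w * g⁻¹) = g * (w * w) * g⁻¹ by group, hw2]; group
      rw [hwi, eq_comm]
      refine inv_eq_of_mul_eq_one_right ?_
      rw [← mul_assoc, ← mul_assoc]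
      rwa [← mul_assoc] at h1
    have hinvθ : w * θ a₀ * w⁻¹ = (θ a₀)⁻¹ := by
      have h1 := congrArg θ hinv₀
      rw [h.mul _ (mul_mem hw (hTP ha₀T)) _ (inv_mem hw), h.mul _ hw _ (hTP ha₀T), h.map_inv hw, hwθ,
        h.map_inv (hTP ha₀T)] at h1
      exact h1
    let J : Subgroup G :=
      { carrier := {x | x ∈ T P θ ∧ w * x * w⁻¹ = x⁻¹}
        one_mem' := ⟨one_mem _, by group⟩
        mul_mem' := fun {x y} hx hy => ⟨mul_mem hx.1 hy.1, by
          rw [show w * (x * y) * w⁻¹ = (w * x * w⁻¹) * (w * y * w⁻¹) by group, hx.2, hy.2, mul_inv_rev]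
          exact hTc _ (inv_mem hx.1) _ (inv_mem hy.1)⟩
        inv_mem' := fun {x} hx => ⟨inv_mem hx.1, by
          rw [show w * x⁻¹ * w⁻¹ = (w * x * w⁻¹)⁻¹ by group, hx.2]⟩ }
    have hTJ : T P θ ≤ J := by
      refine le_of_le_sup_sqs hG (fun x hx => hx.1) fun x hx => ?_
      have h1 : a₀ ∈ J ⊔ B := mem_sup_left ⟨ha₀T, hinv₀⟩
      have h2 : θ a₀ ∈ J ⊔ B := mem_sup_left ⟨h.T_map ha₀T, hinvθ⟩
      have h3 : θ (θ a₀) ∈ J ⊔ B := by
        have := mul_mem (inv_mem (mul_mem h1 h2)) (mem_sup_right (hlay a₀ ha₀T ha₀B).1)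
        convert this using 1
        group
      rcases (hlay a₀ ha₀T ha₀B).2 x hx with e' | e' | e' | e'
      · exact mem_sup_right e'
      · simpa using mul_mem h1 (mem_sup_right (S := J) e')
      · simpa using mul_mem h2 (mem_sup_right (S := J) e')
      · simpa using mul_mem h3 (mem_sup_right (S := J) e')
    have h4 : g * g * (g * g) = 1 := by
      have h5 := (hTJ ht').2
      rw [hg2]
      calc t' * w * (t' * w) = t' * (w * t' * w⁻¹) * (w * w) := by group
        _ = 1 := by rw [h5, hw2, mul_inv_cancel, one_mul]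
    refine hwT ?_
    have := mul_mem (inv_mem ht') (hΩT _ ⟨hgF, h4⟩)
    rwa [hg2, inv_mul_cancel_left] at this

end Ctx

end CfsgLib.Bicyclic19
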