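import Cfsg.Agent.Lib.Bicyclic19.NecBasic

/-!
# A criterion for the commutator subgroup to be abelian
-/

set_option autoImplicit false
set_option linter.style.haveILetI false
set_option linter.unusedSectionVars false

namespace CfsgLib.Bicyclic19

open Subgroup
open scoped commutatorElement

universe u

variable {G : Type u} [Group G]

/-- The computation in a group of class two. -/
theorem eq_one_of_rels {A C C' C2 U e : G} (he : ∀ x, Commute x e) (he2 : e * e = 1) (hU : ∀ x, Commute x U)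
    (hU2 : U * U = 1) (hC : C' * C = e * (C * C')) (h1 : A⁻¹ * C * A = U * C⁻¹)
    (h2 : A⁻¹ * C' * A = U * (C * C'⁻¹ * C⁻¹))
    (h3 : A⁻¹ * C2 * A = U * (C * C' * C2⁻¹ * C'⁻¹ * C⁻¹)) {i k l : ℤ}
    (hC2 : C2 = C ^ (2 * i + 1) * C' ^ (2 * k) * e ^ l) : e = 1 := by
  have hUi : U⁻¹ = U := inv_eq_of_mul_eq_one_right hU2
  have hei : e⁻¹ = e := inv_eq_of_mul_eq_one_right he2
  have hel : (e ^ l)⁻¹ = e ^ l := by rw [← inv_zpow, hei]
  have hU2z : U ^ (2 : ℤ) = 1 := by rw [zpow_two, hU2]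
  have he2z : e ^ (2 : ℤ) = 1 := by rw [zpow_two, he2]
  have hC' : C' * C * C'⁻¹ = e * C := by rw [hC, ← mul_assoc, mul_inv_cancel_right]
  have hC'' : C * C'⁻¹ * C⁻¹ = C'⁻¹ * e := by
    have h4 : C = e * (C'⁻¹ * (C * C')) := by
      calc C = C'⁻¹ * (C' * C) := by group
        _ = e * (C'⁻¹ * (C * C')) := by rw [hC, ← mul_assoc, (he C'⁻¹).eq, mul_assoc]
    calc C * C'⁻¹ * C⁻¹ = (e * (C'⁻¹ * (C * C'))) * C'⁻¹ * C⁻¹ := by rw [← h4]
      _ = e * C'⁻¹ := by group
      _ = C'⁻¹ * e := ((he _).eq).symm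
  have hCk : C' ^ (2 : ℤ) * C * (C' ^ (2 : ℤ))⁻¹ = C := by
    rw [zpow_two, show C' * C' * C * (C' * C')⁻¹ = C' * (C' * C * C'⁻¹) * C'⁻¹ by group, hC',
      show C' * (e * C) * C'⁻¹ = (C' * e * C'⁻¹) * (C' * C * C'⁻¹) by group, (he C').eq, mul_inv_cancel_right, hC',
      ← mul_assoc, he2, one_mul]
  have hcomm : Commute (C' ^ (2 * k)) C := by
    rw [zpow_mul]
    exact Commute.zpow_left (mul_inv_eq_iff_eq_mul.1 hCk) k
  set o := 2 * i + 1 with ho
  set P' := C' ^ (2 * k) with hP'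
  have hPo : Commute P' (C ^ o) := hcomm.zpow_right o
  have hCo : C' * C ^ o * C'⁻¹ = e * C ^ o := by
    rw [← conj_zpow, hC', (he C).symm.mul_zpow, ho, zpow_add, zpow_mul, he2z, one_zpow, one_mul, zpow_one]
  have hLo : A⁻¹ * C ^ o * A = U * (C ^ o)⁻¹ := by
    have := conj_zpow (i := o) (a := A⁻¹) (b := C)
    rw [inv_inv] at this
    rw [← this, h1, (hU C⁻¹).symm.mul_zpow, inv_zpow, ho, zpow_add, zpow_mul, hU2z, one_zpow, one_mul, zpow_one]
  have hLk : A⁻¹ * P' * A = P'⁻¹ := by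
    have := conj_zpow (i := 2 * k) (a := A⁻¹) (b := C')
    rw [inv_inv] at this
    rw [hP', ← this, h2, hC'', (hU _).symm.mul_zpow, (he C'⁻¹).mul_zpow, zpow_mul U, hU2z, one_zpow, one_mul,
      zpow_mul e, he2z, one_zpow, mul_one, inv_zpow]
  have hLl : A⁻¹ * e ^ l * A = e ^ l := by
    rw [((he A⁻¹).zpow_right l).eq, inv_mul_cancel_right]
  have hL : A⁻¹ * C2 * A = U * ((C ^ o)⁻¹ * P'⁻¹ * e ^ l) := by
    rw [hC2, show A⁻¹ * (C ^ o * P' * e ^ l) * A = (A⁻¹ * C ^ o * A) * (A⁻¹ * P' * A) * (A⁻¹ * e ^ l * A) by group,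
      hLo, hLk, hLl, mul_assoc U, mul_assoc U]
  have hinv : C2⁻¹ = (C ^ o)⁻¹ * P'⁻¹ * e ^ l := by
    rw [hC2, mul_inv_rev, mul_inv_rev, hel, ← mul_inv_rev, ← hPo.eq, mul_inv_rev]
    exact (((he _).zpow_right l)).symm.eq
  have hR : C * C' * C2⁻¹ * C'⁻¹ * C⁻¹ = (C ^ o)⁻¹ * P'⁻¹ * e ^ l * e := by
    rw [hinv, show C * C' * ((C ^ o)⁻¹ * P'⁻¹ * e ^ l) * C'⁻¹ * C⁻¹ =
      C * ((C' * C ^ o * C'⁻¹)⁻¹ * (C' * P'⁻¹ * C'⁻¹) * (C' * e ^ l * C'⁻¹)) * C⁻¹ by group, hCo,
      (show Commute C' P'⁻¹ from ((Commute.refl C').zpow_right _).inv_right).eq, mul_inv_cancel_right,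
      ((he C').zpow_right l).eq, mul_inv_cancel_right, mul_inv_rev, hei]
    have e1 : Commute C ((C ^ o)⁻¹ * e * P'⁻¹ * e ^ l) :=
      ((((Commute.refl C).zpow_right o).inv_right.mul_right (he C)).mul_right hcomm.symm.inv_right).mul_right
        ((he C).zpow_right l)
    rw [e1.eq, mul_inv_cancel_right, mul_assoc ((C ^ o)⁻¹) e, ← (he P'⁻¹).eq, ← mul_assoc, mul_assoc _ e,
      ((Commute.refl e).zpow_right l).eq, ← mul_assoc]
  rw [hL, hR, mul_left_cancel_iff, left_eq_mul] at h3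
  exact h3

/-- Moving powers past each other in a group of class two. -/
theorem zpow_swap {C C' e : G} (he : ∀ x, Commute x e) (hC : C' * C = e * (C * C')) (k i : ℤ) :
    C' ^ k * C ^ i = C ^ i * C' ^ k * e ^ (k * i) := by
  have h1 : C' * C ^ i * C'⁻¹ = C ^ i * e ^ i := by
    rw [← conj_zpow, hC, ← mul_assoc, mul_inv_cancel_right, (he C).symm.mul_zpow, ((he (C ^ i)).zpow_right i).eq]
  have h2 : C ^ (-i) * C' * C ^ i = C' * e ^ i := by
    rw [mul_inv_eq_iff_eq_mul] at h1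
    rw [mul_assoc, h1, mul_assoc (C ^ i), ← mul_assoc, ← zpow_add, neg_add_cancel, zpow_zero, one_mul,
      ((he C').zpow_right i).eq]
  have h3 : C ^ (-i) * C' ^ k * C ^ i = C' ^ k * e ^ (k * i) := by
    have := conj_zpow (i := k) (a := C ^ (-i)) (b := C')
    rw [← zpow_neg, neg_neg, h2, ((he C').zpow_right i).mul_zpow, ← zpow_mul, mul_comm i k] at this
    exact this.symm
  rw [mul_assoc, ← h3, ← mul_assoc, ← mul_assoc, ← zpow_add, add_neg_cancel, zpow_zero, one_mul]

/-- Products of normal forms. -/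
theorem form_mul {C C' e : G} (he : ∀ x, Commute x e) (hC : C' * C = e * (C * C')) (i k l i' k' l' : ℤ) :
    C ^ i * C' ^ k * e ^ l * (C ^ i' * C' ^ k' * e ^ l') =
      C ^ (i + i') * C' ^ (k + k') * e ^ (l + l' + k * i') := by
  calc C ^ i * C' ^ k * e ^ l * (C ^ i' * C' ^ k' * e ^ l')
      = C ^ i * (C' ^ k * C ^ i') * C' ^ k' * (e ^ l * e ^ l') := by
        rw [mul_assoc (C ^ i * C' ^ k) (e ^ l), ← mul_assoc (e ^ l) (C ^ i' * C' ^ k'),
          ← ((he (C ^ i' * C' ^ k')).zpow_right l).eq]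
        simp only [mul_assoc]
    _ = C ^ i * C ^ i' * (C' ^ k * C' ^ k') * (e ^ (k * i') * (e ^ l * e ^ l')) := by
        rw [zpow_swap he hC]
        simp only [mul_assoc]
        rw [← mul_assoc (e ^ (k * i')) (C' ^ k'), ← ((he (C' ^ k')).zpow_right _).eq, mul_assoc (C' ^ k')]
    _ = _ := by
        rw [← zpow_add, ← zpow_add, ← zpow_add, ← zpow_add, add_comm (k * i')]

/-- Inverses of normal forms. -/
theorem form_inv {C C' e : G} (he : ∀ x, Commute x e) (hC : C' * C = e * (C * C')) (i k l : ℤ) :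
    (C ^ i * C' ^ k * e ^ l)⁻¹ = C ^ (-i) * C' ^ (-k) * e ^ (k * i - l) := by
  apply inv_eq_of_mul_eq_one_right
  rw [form_mul he hC, add_neg_cancel, add_neg_cancel, show l + (k * i - l) + k * -i = 0 by ring]
  simp

set_option maxHeartbeats 1000000 in
/-- The criterion. -/
theorem commutator_comm_of_rel [Finite G] (hG : IsPGroup 2 G) (hb : Bicyclic G) (hnm : ¬ Cfsg.IsMetacyclic G)
    (hnc : ¬ IsCyclic (_root_.commutator G)) {a b u : G} (hgen : closure ({a, b} : Set G) = ⊤)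
    (hu : ∀ x, Commute x u) (hu2 : u * u = 1)
    (hrel : a⁻¹ * (a⁻¹ * b * a * b⁻¹) * a = u * (a⁻¹ * b * a * b⁻¹)⁻¹) :
    ∀ x ∈ _root_.commutator G, ∀ y ∈ _root_.commutator G, x * y = y * x := by
  classical
  haveI := Fact.mk Nat.prime_two
  set D := _root_.commutator G with hD
  set c := a⁻¹ * b * a * b⁻¹ with hc
  set c' := b * c * b⁻¹ with hc'
  set c2 := b * c' * b⁻¹ with hc2
  set Sq := closure (sqs D) with hSq
  have hDn : D.Normal := inferInstance
  have hcD : c ∈ D := by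
    have : c = ⁅a⁻¹, b⁆ := by rw [hc, commutatorElement_def]; group
    rw [this]
    exact commutator_mem_commutator (mem_top _) (mem_top _)
  have hc'D : c' ∈ D := hDn.conj_mem c hcD b
  have hc2D : c2 ∈ D := hDn.conj_mem c' hc'D b
  have huD : u ∈ D := by
    have h1 := mul_mem (hDn.conj_mem c hcD a⁻¹) hcD
    rwa [inv_inv, hrel, inv_mul_cancel_right] at h1
  have hDm : Cfsg.IsMetacyclic D :=
    MetaTwoFusion.isMetacyclic_of_le (commutator_le_frattini_two hG) (isMetacyclic_frattini hG hb hnm)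
  have hidx := relIndex_sqs_le_of_metacyclic hG hDm
  haveI hSn : Sq.Normal := sqs_closure_normal D
  let π := QuotientGroup.mk' Sq
  have hπ : ∀ x, π x = 1 ↔ x ∈ Sq := fun x => QuotientGroup.eq_one_iff x
  have hπ2 : ∀ x ∈ D, π x * π x = 1 := fun x hx => by rw [← map_mul, hπ]; exact mul_self_mem_sqs hx
  have hπeq : ∀ x y, π x = π y → x⁻¹ * y ∈ Sq := fun x y h => by
    rw [← hπ, map_mul, map_inv, h, inv_mul_cancel]
  have hπcard : ∀ l : List G, (∀ y ∈ l, y ∈ D) → (l.map π).Nodup → l.length ≤ 4 := by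
    intro l hl hnd
    have h6 : Nat.card (D.map π) ≤ 4 := by
      have h7 : π.ker = Sq := QuotientGroup.ker_mk' Sq
      rw [← relIndex_ker D π, h7]
      exact hidx
    have h8 : ((l.map π).toFinset : Set (G ⧸ Sq)).ncard ≤ (D.map π : Set (G ⧸ Sq)).ncard :=
      Set.ncard_le_ncard (fun y hy => by
        obtain ⟨x, hx, rfl⟩ := List.mem_map.1 (List.mem_toFinset.1 (Finset.mem_coe.1 hy))
        exact mem_map_of_mem π (hl x hx)) (Set.toFinite _)
    rw [Set.ncard_coe_finset, List.toFinset_card_of_nodup hnd, List.length_map] at h8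
    exact h8.trans ((Nat.card_coe_set_eq _).ge.trans h6)
  have hcover : ∀ p ∈ D, ∀ q ∈ D, p ∉ Sq → q ∉ Sq → p⁻¹ * q ∉ Sq → ∀ x ∈ D,
      π x = 1 ∨ π x = π p ∨ π x = π q ∨ π x = π (p * q) := by
    intro p hp q hq hp1 hq1 hpq x hx
    by_contra hno
    simp only [not_or] at hno
    have e1 : π p ≠ π q := fun h => hpq (hπeq _ _ h)
    have e3 : π (p * q) ≠ 1 := fun h => e1 (by
      rw [map_mul] at h; exact mul_left_cancel ((hπ2 p hp).trans h.symm))
    have e4 : π p ≠ π (p * q) := fun h => hq1 ((hπ q).1 (by rw [map_mul] at h; exact left_eq_mul.1 h))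
    have e5 : π q ≠ π (p * q) := fun h => hp1 ((hπ p).1 (by rw [map_mul] at h; exact right_eq_mul.1 h))
    have hp' : π p ≠ 1 := fun h => hp1 ((hπ p).1 h)
    have hq' : π q ≠ 1 := fun h => hq1 ((hπ q).1 h)
    have := hπcard [1, p, q, p * q, x] (by
      intro y hy
      simp only [List.mem_cons, List.not_mem_nil, or_false] at hy
      rcases hy with rfl | rfl | rfl | rfl | rfl
      · exact one_mem _
      · exact hp
      · exact hq
      · exact mul_mem hp hq
      · exact hx) (by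
      simp [-map_mul, map_one π, Ne.symm hp', Ne.symm hq', Ne.symm e3, e1, e4, e5, Ne.symm hno.1, Ne.symm hno.2.1,
        Ne.symm hno.2.2.1, Ne.symm hno.2.2.2])
    simp at this
  have hgen2 : ∀ p ∈ D, ∀ q ∈ D, p ∉ Sq → q ∉ Sq → p⁻¹ * q ∉ Sq → D ≤ closure ({p, q} : Set G) := by
    intro p hp q hq hp1 hq1 hpq
    refine le_of_le_sup_sqs hG ((closure_le _).2 (by rintro _ (rfl | rfl) <;> assumption)) fun x hx => ?_
    have hpm : p ∈ closure ({p, q} : Set G) := subset_closure (by simp)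
    have hqm : q ∈ closure ({p, q} : Set G) := subset_closure (by simp)
    have key : ∀ v ∈ closure ({p, q} : Set G), π x = π v → x ∈ closure ({p, q} : Set G) ⊔ Sq := fun v hv he => by
      have := mul_mem (mem_sup_left (T := Sq) hv) (mem_sup_right (S := closure ({p, q} : Set G)) (hπeq _ _ he.symm))
      rwa [mul_inv_cancel_left] at this
    rcases hcover p hp q hq hp1 hq1 hpq x hx with h | h | h | h
    · exact key 1 (one_mem _) (by rw [h, map_one])
    · exact key p hpm h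
    · exact key q hqm h
    · exact key _ (mul_mem hpm hqm) h
  -- `c ∉ D²`
  have habm : ∀ {H : Subgroup G}, H.Normal → c ∈ H → D ≤ H := by
    intro H hH hcH
    refine closure_pair_comm_le hgen ?_
    rw [show a * b * a⁻¹ * b⁻¹ = a * (a⁻¹ * b * a * b⁻¹)⁻¹ * a⁻¹ by group, ← hc]
    exact hH.conj_mem _ (inv_mem hcH) a
  have hcS : c ∉ Sq := fun h => hnc (by
    have hle := le_of_le_sup_sqs hG (L := ⊥) (H := D) bot_le ((habm hSn h).trans le_sup_right)
    exact Subgroup.isCyclic_of_le (H' := zpowers (1 : G)) (hle.trans bot_le))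
  by_cases huL : π u = 1 ∨ π u = π c
  swap
  · rw [not_or] at huL
    have hle := hgen2 c hcD u huD hcS (fun h => huL.1 ((hπ u).2 h)) (fun h => huL.2 (by
      have h1 : π (c⁻¹ * u) = 1 := (hπ _).2 h
      rw [map_mul, map_inv, inv_mul_eq_one] at h1
      exact h1.symm))
    have hcl : IsMulCommutative (closure ({c, u} : Set G)) := isMulCommutative_closure (by
      rintro p (rfl | rfl) q (rfl | rfl)
      · rfl
      · exact (hu c).eq
      · exact (hu c).eq.symm
      · rfl)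
    exact fun x hx y hy => congrArg Subtype.val (hcl.is_comm.comm ⟨x, hle hx⟩ ⟨y, hle hy⟩)
  -- `c'` is independent of `c`
  have hc'c : π c' ≠ π c := by
    intro heq
    refine hnc ?_
    set L := zpowers c ⊔ Sq with hL
    have hmemL : ∀ x, (π x = 1 ∨ π x = π c) → x ∈ L := by
      rintro x (h | h)
      · exact mem_sup_right ((hπ x).1 h)
      · have := mul_mem (mem_sup_left (T := Sq) (mem_zpowers c)) (mem_sup_right (S := zpowers c) (hπeq _ _ h.symm))
        rwa [mul_inv_cancel_left] at this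
    have huLm := hmemL u huL
    have hnorm : ∀ s : G, s * c * s⁻¹ ∈ L → s ∈ normalizer (L : Set G) := by
      intro s hs
      refine mem_normalizer_fintype fun x hx => ?_
      obtain ⟨p, hp, q, hq, rfl⟩ := mem_sup_of_normal_right.1 hx
      obtain ⟨i, rfl⟩ := mem_zpowers_iff.1 hp
      rw [show s * (c ^ i * q) * s⁻¹ = (s * c ^ i * s⁻¹) * (s * q * s⁻¹) by group, ← conj_zpow]
      exact mul_mem (zpow_mem hs i) (mem_sup_right (hSn.conj_mem q hq s))
    have hbn : b ∈ normalizer (L : Set G) := hnorm b (hmemL _ (Or.inr heq))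
    have han : a ∈ normalizer (L : Set G) := by
      refine inv_mem_iff.1 (hnorm a⁻¹ ?_)
      rw [inv_inv, hrel]
      exact mul_mem huLm (inv_mem (mem_sup_left (mem_zpowers c)))
    haveI hLn : L.Normal := normalizer_eq_top_iff.1 (eq_top_iff.2 (hgen ▸ (closure_le _).2 (by
      rintro w (rfl | rfl)
      · exact han
      · exact hbn)))
    exact Subgroup.isCyclic_of_le (H' := zpowers c) (le_of_le_sup_sqs hG (zpowers_le.2 hcD)
      (habm hLn (mem_sup_left (mem_zpowers c))))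
  have hc'S : c' ∉ Sq := fun h => hcS (by
    have := hSn.conj_mem _ h b⁻¹
    rwa [hc', show b⁻¹ * (b * c * b⁻¹) * b⁻¹⁻¹ = c by group] at this)
  have hindep : c⁻¹ * c' ∉ Sq := fun h => hc'c (by
    have h1 : π (c⁻¹ * c') = 1 := (hπ _).2 h
    rw [map_mul, map_inv, inv_mul_eq_one] at h1
    exact h1.symm)
  have hDle : D ≤ closure ({c, c'} : Set G) := hgen2 c hcD c' hc'D hcS hc'S hindep
  -- `b²` fixes the class of `c`
  have hb2 : π c2 = π c := by
    have hpc : ∀ p q, π p = π q → π (b * p * b⁻¹) = π (b * q * b⁻¹) := fun p q h => by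
      simp only [map_mul, h]
    rcases hcover c hcD c' hc'D hcS hc'S hindep c2 hc2D with h | h | h | h
    · exact absurd (hSn.conj_mem _ ((hπ _).1 h) b⁻¹) (by
        rw [hc2, show b⁻¹ * (b * c' * b⁻¹) * b⁻¹⁻¹ = c' by group]; exact hc'S)
    · exact h
    · refine absurd ?_ hc'c
      have := hpc _ _ (hpc _ _ h)
      have h' : π (b⁻¹ * c2 * b) = π (b⁻¹ * c' * b) := by simp only [map_mul, h]
      rwa [hc2, show b⁻¹ * (b * c' * b⁻¹) * b = c' by group, hc', show b⁻¹ * (b * c * b⁻¹) * b = c by group] at h'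
    · exfalso
      refine hc'c ?_
      have h3 : π (b * c2 * b⁻¹) = π c := by
        rw [hpc _ _ h, show b * (c * c') * b⁻¹ = (b * c * b⁻¹) * (b * c' * b⁻¹) by group, ← hc', ← hc2, map_mul π c' c2, h,
          map_mul π c c', ← mul_assoc]
        have hcomm : π c' * π c = π c * π c' := by
          have h4 := hπ2 (c * c') (mul_mem hcD hc'D)
          rw [map_mul] at h4
          calc π c' * π c = (π c * π c) * (π c' * π c) * (π c' * π c') := by
                rw [hπ2 c hcD, hπ2 c' hc'D, one_mul, mul_one]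
            _ = π c * ((π c * π c') * (π c * π c')) * π c' := by group
            _ = π c * π c' := by rw [h4, mul_one]
        rw [hcomm, mul_assoc, hπ2 c' hc'D, mul_one]
      have hmem : b ^ (3 : ℤ) ∈ (centralizer ({π c} : Set (G ⧸ Sq))).comap π := by
        refine mem_centralizer_singleton_iff.2 (mul_inv_eq_iff_eq_mul.1 ?_)
        rw [← map_inv, ← map_mul, ← map_mul, ← h3, hc2, hc', show b ^ (3 : ℤ) = b * b * b from by
          rw [show (3 : ℤ) = 1 + 1 + 1 by norm_num, zpow_add, zpow_add, zpow_one]]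
        congr 1
        simp only [mul_inv_rev, mul_assoc]
      have hbmem := (zpowers_le.2 hmem) (zpowers_zpow_odd hG b (i := 3) ⟨1, rfl⟩)
      rw [hc', map_mul, map_mul, map_inv]
      exact mul_inv_eq_iff_eq_mul.2 (mem_centralizer_singleton_iff.1 hbmem)
  -- modulo `[D',G](D')²`
  set N : Subgroup G := ⁅D, D⁆ with hN
  haveI : N.Normal := Subgroup.commutator_normal D D
  set K := ⁅N, (⊤ : Subgroup G)⁆ ⊔ closure (sqs N) with hK
  haveI : (closure (sqs N)).Normal := sqs_closure_normal N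
  haveI hKn : K.Normal := by rw [hK]; infer_instance
  suffices hle : N ≤ K by
    haveI := hG.isNilpotent
    obtain ⟨m, hm⟩ := Subgroup.nilpotent_iff_lowerCentralSeries.1 (inferInstance : Group.IsNilpotent G)
    have hNN : N ≤ ⁅N, (⊤ : Subgroup G)⁆ := le_of_le_sup_sqs hG (commutator_le_left _ _) hle
    have hdesc : ∀ j, N ≤ (⊤ : Subgroup G).lowerCentralSeries j := by
      intro j
      induction j with
      | zero => rw [Subgroup.lowerCentralSeries_zero]; exact le_top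
      | succ j ih =>
        rw [Subgroup.lowerCentralSeries_succ]
        exact hNN.trans (Subgroup.commutator_mono ih le_top)
    intro x hx y hy
    exact commutatorElement_eq_one_iff_mul_comm.1 (mem_bot.1 (hm ▸ hdesc m (commutator_mem_commutator hx hy)))
  let ρ := QuotientGroup.mk' K
  have hρ : ∀ x, ρ x = 1 ↔ x ∈ K := fun x => QuotientGroup.eq_one_iff x
  set e := ρ ⁅c', c⁆ with he
  have hNcen : ∀ x ∈ N, ∀ q, Commute q (ρ x) := fun x hx q => by
    obtain ⟨y, rfl⟩ := QuotientGroup.mk'_surjective K q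
    refine (Commute.symm ?_)
    refine commutatorElement_eq_one_iff_mul_comm.1 ?_
    rw [← map_commutatorElement, hρ]
    exact mem_sup_left (commutator_mem_commutator hx (mem_top y))
  have heN : ⁅c', c⁆ ∈ N := commutator_mem_commutator hc'D hcD
  have hecen : ∀ q, Commute q e := hNcen _ heN
  have he2 : e * e = 1 := by rw [he, ← map_mul, hρ]; exact mem_sup_right (mul_self_mem_sqs heN)
  have hCC : ρ c' * ρ c = e * (ρ c * ρ c') := by
    rw [he, ← map_mul, ← map_mul, ← map_mul]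
    congr 1
    rw [commutatorElement_def]; group
  have hUc : ∀ q, Commute q (ρ u) := fun q => by
    obtain ⟨y, rfl⟩ := QuotientGroup.mk'_surjective K q
    exact (hu y).map ρ
  -- `D/K` and its squares
  have hDform : ∀ x ∈ D, ∃ i k l : ℤ, ρ x = ρ c ^ i * ρ c' ^ k * e ^ l := by
    let X : Subgroup (G ⧸ K) :=
      { carrier := {q | ∃ i k l : ℤ, q = ρ c ^ i * ρ c' ^ k * e ^ l}
        one_mem' := ⟨0, 0, 0, by simp⟩
        mul_mem' := by
          rintro _ _ ⟨i, k, l, rfl⟩ ⟨i', k', l', rfl⟩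
          exact ⟨_, _, _, form_mul hecen hCC i k l i' k' l'⟩
        inv_mem' := by
          rintro _ ⟨i, k, l, rfl⟩
          exact ⟨_, _, _, form_inv hecen hCC i k l⟩ }
    intro x hx
    have hle : closure ({c, c'} : Set G) ≤ X.comap ρ := (closure_le _).2 (by
      rintro _ (rfl | rfl)
      · exact ⟨1, 0, 0, by simp⟩
      · exact ⟨0, 1, 0, by simp⟩)
    exact hle (hDle hx)
  have hSform : ∀ x ∈ Sq, ∃ i k l : ℤ, ρ x = ρ c ^ (2 * i) * ρ c' ^ (2 * k) * e ^ l := by
    intro x hx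
    induction hx using closure_induction with
    | mem y hy =>
      obtain ⟨d, hd, rfl⟩ := hy
      obtain ⟨i, k, l, hd'⟩ := hDform d hd
      refine ⟨i, k, l + l + k * i, ?_⟩
      show ρ (d ^ 2) = _
      rw [pow_two, map_mul, hd', form_mul hecen hCC, two_mul, two_mul]
    | one => exact ⟨0, 0, 0, by simp⟩
    | mul y z _ _ hy hz =>
      obtain ⟨i, k, l, hy⟩ := hy
      obtain ⟨i', k', l', hz⟩ := hz
      refine ⟨i + i', k + k', l + l' + 2 * k * (2 * i'), ?_⟩
      rw [map_mul, hy, hz, form_mul hecen hCC, mul_add, mul_add]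
    | inv y _ hy =>
      obtain ⟨i, k, l, hy⟩ := hy
      refine ⟨-i, -k, 2 * k * (2 * i) - l, ?_⟩
      rw [map_inv, hy, form_inv hecen hCC, mul_neg, mul_neg]
  obtain ⟨i, k, l, hikl⟩ := hSform _ (hπeq _ _ hb2.symm)
  have hC2 : ρ c2 = ρ c ^ (2 * i + 1) * ρ c' ^ (2 * k) * e ^ l := by
    rw [map_mul, map_inv, inv_mul_eq_iff_eq_mul] at hikl
    rw [hikl, add_comm (2 * i) 1, zpow_one_add]
    simp only [mul_assoc]
  have e1 : ρ a⁻¹ * ρ c * ρ a = ρ u * (ρ c)⁻¹ := by rw [← map_mul, ← map_mul, hrel, map_mul, map_inv]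
  have r2 : a⁻¹ * c' * a = u * (c * c'⁻¹ * c⁻¹) := by
    calc a⁻¹ * c' * a = c * (b * (a⁻¹ * c * a) * b⁻¹) * c⁻¹ := by rw [hc', hc]; group
      _ = c * (b * (u * c⁻¹) * b⁻¹) * c⁻¹ := by rw [hrel]
      _ = u * (c * c'⁻¹ * c⁻¹) := by
        rw [← mul_assoc b u, (hu b).eq, hc']
        rw [show c * (u * b * c⁻¹ * b⁻¹) * c⁻¹ = c * u * (b * c * b⁻¹)⁻¹ * c⁻¹ by group, (hu c).eq]
        group
  have r3 : a⁻¹ * c2 * a = u * (c * c' * c2⁻¹ * c'⁻¹ * c⁻¹) := by
    calc a⁻¹ * c2 * a = c * (b * (a⁻¹ * c' * a) * b⁻¹) * c⁻¹ := by rw [hc2, hc', hc]; group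
      _ = c * (b * (u * (c * c'⁻¹ * c⁻¹)) * b⁻¹) * c⁻¹ := by rw [r2]
      _ = u * (c * c' * c2⁻¹ * c'⁻¹ * c⁻¹) := by
        rw [← mul_assoc b u, (hu b).eq, hc2, hc',
          show c * (u * b * (c * (b * c * b⁻¹)⁻¹ * c⁻¹) * b⁻¹) * c⁻¹ =
            c * u * (b * c * b⁻¹) * (b * (b * c * b⁻¹) * b⁻¹)⁻¹ * (b * c * b⁻¹)⁻¹ * c⁻¹ by group, (hu c).eq]
        group
  rw [map_inv] at e1
  have he1 : e = 1 := eq_one_of_rels hecen he2 hUc (by rw [← map_mul, hu2, map_one]) hCC e1
    (by rw [← map_inv, ← map_mul, ← map_mul, r2]; simp only [map_mul, map_inv])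
    (by rw [← map_inv, ← map_mul, ← map_mul, r3]; simp only [map_mul, map_inv]) hC2
  rw [hN, commutator_le]
  intro x hx y hy
  rw [← hρ, map_commutatorElement, commutatorElement_eq_one_iff_mul_comm]
  have hcl : IsMulCommutative (closure ({ρ c, ρ c'} : Set (G ⧸ K))) := isMulCommutative_closure (by
    have h1 : ρ c' * ρ c = ρ c * ρ c' := by rw [hCC, he1, one_mul]
    rintro p (rfl | rfl) q (rfl | rfl)
    · rfl
    · exact h1.symm
    · exact h1
    · rfl)
  have hmem : ∀ z ∈ D, ρ z ∈ closure ({ρ c, ρ c'} : Set (G ⧸ K)) := fun z hz => by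
    rw [← Set.image_pair, ← MonoidHom.map_closure]; exact mem_map_of_mem ρ (hDle hz)
  exact congrArg Subtype.val (hcl.is_comm.comm ⟨_, hmem x hx⟩ ⟨_, hmem y hy⟩)

end CfsgLib.Bicyclic19
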