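import Cfsg.Agent.Lib.Bicyclic19.CaseOne
import Cfsg.Agent.Lib.Bicyclic19.Derived
import Cfsg.Agent.Lib.MinimalNonCA.CentralSylow

/-!
# The case `[P, θ] ⊄ Φ(G)` with `θ` centralising `Φ([P, θ])`

It forces a cyclic commutator subgroup, so it does not occur when that subgroup is not cyclic.
-/

set_option autoImplicit false
set_option linter.style.haveILetI false
set_option linter.unusedSectionVars false

namespace CfsgLib.Bicyclic19

open Subgroup
open scoped commutatorElement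

universe u

variable {G : Type u} [Group G]

theorem eq_one_or_of_mem_zpowers {z v : G} (hz : z * z = 1) (hv : v ∈ zpowers z) : v = 1 ∨ v = z := by
  obtain ⟨i, rfl⟩ := mem_zpowers_iff.1 hv
  have h2 : z ^ (2 : ℤ) = 1 := by rw [zpow_two, hz]
  rcases Int.even_or_odd i with ⟨k, rfl⟩ | ⟨k, rfl⟩
  · left; rw [← two_mul, zpow_mul, h2, one_zpow]
  · right; rw [zpow_add, zpow_mul, h2, one_zpow, one_mul, zpow_one]

namespace Ctx

variable {P : Subgroup G} {g : G} {θ : G → G} (h : Ctx P g θ) [Finite G] (hG : IsPGroup 2 G) (hb : Bicyclic G)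
  (hnm : ¬ Cfsg.IsMetacyclic G)

include h hG hb hnm

theorem B_central (hfixB : ∀ v ∈ closure (sqs (T P θ)), θ v = v) {v : G} (hv : v ∈ closure (sqs (T P θ)))
    {x : G} (hx : x ∈ T P θ) : x * v = v * x := by
  have hle : T P θ ≤ centralizer {v} := by
    refine (h.T_gen hG).trans ((closure_le _).2 ?_)
    rintro _ ⟨y, hy, rfl⟩
    refine mem_centralizer_singleton_iff.2 ?_
    have hyP := h.T_le hy
    have hvP := h.T_le (sqs_closure_le _ hv)
    have h1 := hfixB _ (h.B_conj hG hyP hv)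
    rw [h.mul _ (mul_mem hyP hvP) _ (inv_mem hyP), h.mul _ hyP _ hvP, h.map_inv hyP, hfixB v hv] at h1
    calc y⁻¹ * θ y * v = y⁻¹ * (θ y * v * (θ y)⁻¹) * θ y := by group
      _ = y⁻¹ * (y * v * y⁻¹) * θ y := by rw [h1]
      _ = v * (y⁻¹ * θ y) := by group
  exact mem_centralizer_singleton_iff.1 (hle hx)

/-- `T` is quaternion of order eight or a four group. -/
theorem T_small (hfixB : ∀ v ∈ closure (sqs (T P θ)), θ v = v) {t : G} (ht : t ∈ T P θ)
    (htB : t ∉ closure (sqs (T P θ))) :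
    closure (sqs (T P θ)) ≤ zpowers (t * t) ∧ t * t * (t * t) = 1 ∧ t * θ t * t⁻¹ = t * t * θ t := by
  set B := closure (sqs (T P θ)) with hB
  obtain ⟨hlfix, hlay⟩ := h.layer hG hb hnm
  have hθt := h.T_map ht
  have hθθt := h.T_map hθt
  have hcen : ∀ {v}, v ∈ B → ∀ {x}, x ∈ T P θ → x * v = v * x := fun {v} hv {x} hx =>
    h.B_central hG hb hnm hfixB hv hx
  set z := t * θ t * t⁻¹ * (θ t)⁻¹ with hzdef
  have hzB : z ∈ B := comm_mem_sqs ht hθt
  have hsB : t * t ∈ B := mul_self_mem_sqs ht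
  have hs1 : θ t * θ t = t * t := by rw [← h.mul _ (h.T_le ht) _ (h.T_le ht), hfixB _ hsB]
  have hs2 : θ (θ t) * θ (θ t) = t * t := by
    rw [← h.mul _ (h.T_le hθt) _ (h.T_le hθt), hs1, hfixB _ hsB]
  have hconj : t * θ t * t⁻¹ = z * θ t := by rw [hzdef, inv_mul_cancel_right]
  have hz2 : z * z = 1 := by
    have h1 : t * t * θ t * (t * t)⁻¹ = z * z * θ t := by
      calc t * t * θ t * (t * t)⁻¹ = t * (t * θ t * t⁻¹) * t⁻¹ := by group
        _ = t * (z * θ t) * t⁻¹ := by rw [hconj]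
        _ = z * (t * θ t * t⁻¹) := by rw [← mul_assoc, hcen hzB ht]; group
        _ = z * z * θ t := by rw [hconj, ← mul_assoc]
    rw [← hcen hsB hθt, mul_inv_cancel_right, eq_comm, mul_eq_right] at h1
    exact h1
  have hzi : z⁻¹ = z := inv_eq_of_mul_eq_one_right hz2
  set b' := t * θ t * θ (θ t) with hb'
  have hb'B : b' ∈ B := (hlay t ht htB).1
  have hrev : θ t * t = z * (t * θ t) := by
    have h1 : t * θ t = z * (θ t * t) := by rw [← mul_assoc, ← hconj, inv_mul_cancel_right]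
    rw [h1, ← mul_assoc, hz2, one_mul]
  have hsq : (t * θ t) * (t * θ t) = z * (t * t) * (t * t) := by
    calc (t * θ t) * (t * θ t) = t * (θ t * t) * θ t := by group
      _ = (t * z) * t * (θ t * θ t) := by rw [hrev]; group
      _ = z * (t * t) * (t * t) := by rw [hcen hzB ht, hs1]; group
  have hbb : b' * b' = z * ((t * t) * (t * t) * (t * t)) := by
    calc b' * b' = (t * θ t) * (θ (θ t) * b') := by rw [hb']; group
      _ = (t * θ t) * (b' * θ (θ t)) := by rw [hcen hb'B hθθt]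
      _ = (t * θ t) * (t * θ t) * (θ (θ t) * θ (θ t)) := by rw [hb']; group
      _ = z * ((t * t) * (t * t) * (t * t)) := by rw [hsq, hs2]; group
  set S := closure (sqs B) with hS
  have hbbS : b' * b' ∈ S := mul_self_mem_sqs hb'B
  have hzS : z ∈ zpowers z ⊔ S := mem_sup_left (mem_zpowers z)
  have hsL : t * t ∈ zpowers z ⊔ S := by
    have h1 : (t * t) * (t * t) * (t * t) ∈ zpowers z ⊔ S := by
      have := mul_mem (inv_mem hzS) (mem_sup_right (S := zpowers z) hbbS)
      rwa [hbb, inv_mul_cancel_left] at this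
    have h3 : (t * t) ^ (3 : ℤ) ∈ zpowers z ⊔ S := by
      rwa [show (3 : ℤ) = 1 + 1 + 1 by norm_num, zpow_add, zpow_add, zpow_one]
    exact (zpowers_le.2 h3) (zpowers_zpow_odd hG (t * t) ⟨1, rfl⟩)
  have hBz : B ≤ zpowers z := by
    refine le_of_le_sup_sqs hG (zpowers_le.2 hzB) ((closure_le _).2 ?_)
    rintro _ ⟨x, hx, rfl⟩
    show x ^ 2 ∈ zpowers z ⊔ S
    rw [pow_two]
    have key : ∀ r ∈ T P θ, r * r = t * t → Rel B r x → x * x ∈ zpowers z ⊔ S := fun r hr hr2 hrel => by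
      have e : x * x = (t * t) * ((r⁻¹ * x) * (r⁻¹ * x)) := by
        calc x * x = r * ((r⁻¹ * x) * r) * (r⁻¹ * x) := by group
          _ = r * (r * (r⁻¹ * x)) * (r⁻¹ * x) := by rw [hcen hrel hr]
          _ = r * r * ((r⁻¹ * x) * (r⁻¹ * x)) := by group
          _ = _ := by rw [hr2]
      rw [e]
      exact mul_mem hsL (mem_sup_right (mul_self_mem_sqs hrel))
    rcases (hlay t ht htB).2 x hx with e | e | e | e
    · exact mem_sup_right (mul_self_mem_sqs e)
    · exact key t ht rfl e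
    · exact key _ hθt hs1 e
    · exact key _ hθθt hs2 e
  have h2 : ∀ v ∈ B, v * v = 1 := fun v hv => by
    rcases eq_one_or_of_mem_zpowers hz2 (hBz hv) with rfl | rfl
    · exact one_mul 1
    · exact hz2
  have hsz : t * t = z := by
    have h1 := hbb
    rw [h2 b' hb'B, h2 (t * t) hsB, one_mul] at h1
    exact (inv_eq_of_mul_eq_one_right h1.symm).symm.trans hzi
  rw [hsz]
  exact ⟨hBz, hz2, hconj⟩

/-- This case does not occur. -/
theorem case_two_false (hnc : ¬ IsCyclic (_root_.commutator G)) (hTF : ¬ T P θ ≤ frattini G)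
    (hfixB : ∀ v ∈ closure (sqs (T P θ)), θ v = v) : False := by
  classical
  haveI := Fact.mk Nat.prime_two
  set B := closure (sqs (T P θ)) with hB
  obtain ⟨hlfix, hlay⟩ := h.layer hG hb hnm
  have hTP := h.T_le
  have hBF : B ≤ frattini G := sqs_le_frattini hG _
  have hBT : B ≤ T P θ := sqs_closure_le _
  have hBfix : ∀ v ∈ B, θ v = v := hfixB
  have hθB : ∀ {x}, x ∈ T P θ → θ x ∈ B → x ∈ B := fun {x} hx hθx => by
    have := h.B_map hG (h.B_map hG hθx)
    rwa [h.cube _ (hTP hx)] at this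
  -- the class inside the Frattini subgroup
  obtain ⟨j, hj, hjB, hjF, haF⟩ : ∃ j ∈ T P θ, j ∉ B ∧ j ∈ frattini G ∧ θ j ∉ frattini G := by
    obtain ⟨t, ht, htF⟩ := SetLike.not_le_iff_exists.1 hTF
    have htB : t ∉ B := fun e => htF (hBF e)
    have hθt := h.T_map ht
    have hθtB : θ t ∉ B := fun e => htB (hθB ht e)
    have hb' := hBF (hlay t ht htB).1
    by_cases hθF : θ t ∈ frattini G
    · refine ⟨θ t, hθt, hθtB, hθF, fun h2 => htF ?_⟩
      have := mul_mem hb' (inv_mem (mul_mem hθF h2))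
      rwa [show t * θ t * θ (θ t) * (θ t * θ (θ t))⁻¹ = t by group] at this
    · refine ⟨θ (θ t), h.T_map hθt, fun e => hθtB (hθB hθt e), ?_, by rwa [h.cube _ (hTP ht)]⟩
      have h1 := mul_mem_frattini_of_proper hG hb h.gP (hTP ht) (hTP hθt) htF hθF
      have := mul_mem (inv_mem h1) hb'
      rwa [inv_mul_cancel_left] at this
  set a := θ j with hadef
  have ha : a ∈ T P θ := h.T_map hj
  have haP := hTP ha
  have hjP := hTP hj
  have hθa : θ a ∈ T P θ := h.T_map ha
  set z := j * j with hzdef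
  obtain ⟨hBz, hz2, hjaj⟩ := h.T_small hG hb hnm hfixB hj hjB
  rw [← hadef] at hjaj
  have hzi : z⁻¹ = z := inv_eq_of_mul_eq_one_right hz2
  have hzB : z ∈ B := mul_self_mem_sqs hj
  have hB2 : ∀ v ∈ B, v = 1 ∨ v = z := fun v hv => eq_one_or_of_mem_zpowers hz2 (hBz hv)
  have hBsq : ∀ v ∈ B, v * v = 1 := fun v hv => by
    rcases hB2 v hv with rfl | rfl
    · exact one_mul 1
    · exact hz2
  have hzT : ∀ {x}, x ∈ T P θ → x * z = z * x := fun {x} hx => h.B_central hG hb hnm hfixB hzB hx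
  have ha2 : a * a = z := by rw [hadef, ← h.mul _ hjP _ hjP, hBfix _ hzB]
  have hai : a⁻¹ = z * a := inv_eq_of_mul_eq_one_left (by rw [mul_assoc, ha2, hz2])
  have haj : a⁻¹ * j * a = j * z := by
    have h1 : j * a * j⁻¹ = z * a := hjaj
    have h2 : j * a = z * a * j := mul_inv_eq_iff_eq_mul.1 h1
    calc a⁻¹ * j * a = a⁻¹ * (j * a) := mul_assoc _ _ _
      _ = a⁻¹ * (z * a * j) := by rw [h2]
      _ = a⁻¹ * (a * z * j) := by rw [hzT ha]
      _ = z * j := by group
      _ = j * z := (hzT hj).symm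
  have hTgen : T P θ ≤ closure ({j, a} : Set G) := by
    refine le_of_le_sup_sqs hG ((closure_le _).2 (by rintro _ (rfl | rfl) <;> assumption)) fun x hx => ?_
    have hjm : j ∈ closure ({j, a} : Set G) ⊔ B := mem_sup_left (subset_closure (by simp))
    have ham : a ∈ closure ({j, a} : Set G) ⊔ B := mem_sup_left (subset_closure (by simp))
    have hθam : θ a ∈ closure ({j, a} : Set G) ⊔ B := by
      have := mul_mem (inv_mem (mul_mem hjm ham)) (mem_sup_right (hlay j hj hjB).1)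
      rwa [← hadef, inv_mul_cancel_left] at this
    rcases (hlay j hj hjB).2 x hx with e | e | e | e
    · exact mem_sup_right e
    · simpa using mul_mem hjm (mem_sup_right (S := closure ({j, a} : Set G)) e)
    · have := mul_mem ham (mem_sup_right (S := closure ({j, a} : Set G)) e)
      rwa [← hadef, mul_inv_cancel_left] at this
    · have := mul_mem hθam (mem_sup_right (S := closure ({j, a} : Set G)) e)
      rwa [← hadef, mul_inv_cancel_left] at this
  -- the action of `g` on the classes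
  have hjne : g * j * g⁻¹ ∉ B := fun e => by
    have h1 := hBsq _ e
    rw [show g * j * g⁻¹ * (g * j * g⁻¹) = g * (j * j) * g⁻¹ by group, conj_eq_one_iff] at h1
    rcases hB2 _ e with h2 | h2
    · exact hjB (conj_eq_one_iff.1 h2 ▸ one_mem B)
    · rw [hzdef, h1, conj_eq_one_iff] at h2
      exact hjB (h2 ▸ one_mem B)
  have hθaF : θ a ∉ frattini G := fun e => haF (by
    have h1 := mul_mem (mul_mem (inv_mem hjF) (hBF (hlay j hj hjB).1)) (inv_mem e)
    rwa [← hadef, ← mul_assoc, inv_mul_cancel_left, mul_inv_cancel_right] at h1)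
  have hgj : Rel B j (g * j * g⁻¹) := by
    have hgjF : g * j * g⁻¹ ∈ frattini G := (inferInstance : (frattini G).Normal).conj_mem j hjF g
    have key : ∀ r, r ∉ frattini G → ¬ Rel B r (g * j * g⁻¹) := fun r hr e => hr (by
      have := mul_mem hgjF (inv_mem (hBF e))
      rwa [mul_inv_rev, inv_inv, mul_inv_cancel_left] at this)
    rcases (hlay j hj hjB).2 _ (h.g_mem_T hG hj) with e | e | e | e
    · exact absurd e hjne
    · exact e
    · exact absurd e (key _ haF)
    · exact absurd e (key _ hθaF)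
  have haθ : Rel B (a * j) (θ a) := by
    set b' := j * a * θ a with hb'
    have hb'B : b' ∈ B := (hlay j hj hjB).1
    show (a * j)⁻¹ * θ a ∈ B
    have e : (a * j)⁻¹ * θ a = z⁻¹ * z⁻¹ * b' := by
      calc (a * j)⁻¹ * θ a = j⁻¹ * (a * a)⁻¹ * j⁻¹ * b' := by rw [hb']; group
        _ = z * j⁻¹ * j⁻¹ * b' := by rw [ha2, hzi, hzT (inv_mem hj)]
        _ = z⁻¹ * z⁻¹ * b' := by rw [mul_assoc z, show j⁻¹ * j⁻¹ = z⁻¹ from (mul_inv_rev j j).symm, hzi]
    rw [e]
    exact mul_mem (mul_mem (inv_mem hzB) (inv_mem hzB)) hb'B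
  have hga : Rel B (a * j) (g * a * g⁻¹) := by
    have e1 := h.rel_map hG hjP (hTP (h.g_mem_T hG hj)) hgj
    have e2 := h.rel_map hG (h.mem _ hjP) (h.mem _ (hTP (h.g_mem_T hG hj))) e1
    exact (haθ.trans e2).trans (h.g_theta hG hb hnm hj)
  -- `j` lies in the commutator subgroup
  set D := _root_.commutator G with hD
  have hjD : j ∈ D := by
    have hv : j⁻¹ * (a⁻¹ * (g * a * g⁻¹)) ∈ B := by
      have : (a * j)⁻¹ * (g * a * g⁻¹) ∈ B := hga
      rwa [mul_inv_rev, mul_assoc] at this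
    set v := j⁻¹ * (a⁻¹ * (g * a * g⁻¹)) with hvdef
    have hjv : j * v ∈ D := by
      rw [hvdef, mul_inv_cancel_left, show a⁻¹ * (g * a * g⁻¹) = ⁅a⁻¹, g⁆ by rw [commutatorElement_def]; group]
      exact commutator_mem_commutator (mem_top _) (mem_top _)
    rcases hB2 v hv with e | e
    · rwa [e, mul_one] at hjv
    · have h2 := mul_mem hjv hjv
      have e3 : j * v * (j * v) = z := by
        rw [e, (show Commute z j from (hzT hj).symm).mul_mul_mul_comm, hz2, mul_one]
      rw [e3] at h2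
      rw [e] at hjv
      have := mul_mem hjv (inv_mem h2)
      rwa [mul_inv_cancel_right] at this
  -- fixed points of `θ` centralise `T`
  have hcentT : ∀ c ∈ P, θ c = c → ∀ x ∈ T P θ, x * c = c * x := by
    intro c hc hcθ
    have hcm : ∀ {w}, w ∈ T P θ → θ (w⁻¹ * (c * w * c⁻¹)) = (θ w)⁻¹ * (c * θ w * c⁻¹) := fun {w} hw => by
      rw [h.mul _ (inv_mem (hTP hw)) _ (mul_mem (mul_mem hc (hTP hw)) (inv_mem hc)), h.map_inv (hTP hw),
        h.mul _ (mul_mem hc (hTP hw)) _ (inv_mem hc), h.mul _ hc _ (hTP hw), h.map_inv hc, hcθ]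
    set v := j⁻¹ * (c * j * c⁻¹) with hv
    have hvB : v ∈ B := h.P_triv hG hb hnm hc hj
    have hva : a⁻¹ * (c * a * c⁻¹) = v := by rw [hadef, ← hcm hj, hBfix v hvB]
    have hvθa : (θ a)⁻¹ * (c * θ a * c⁻¹) = v := by rw [← hcm ha, hva, hBfix v hvB]
    have e1 : c * j * c⁻¹ = j * v := by rw [hv, mul_inv_cancel_left]
    have e2 : c * a * c⁻¹ = a * v := by rw [← hva, mul_inv_cancel_left]
    have e3 : c * θ a * c⁻¹ = θ a * v := by rw [← hvθa, mul_inv_cancel_left]
    have hvT : ∀ {x}, x ∈ T P θ → x * v = v * x := fun {x} hx => h.B_central hG hb hnm hfixB hvB hx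
    have hcz : c * z * c⁻¹ = z := by
      calc c * z * c⁻¹ = (c * j * c⁻¹) * (c * j * c⁻¹) := by rw [hzdef]; group
        _ = j * v * (j * v) := by rw [e1]
        _ = z := by rw [(show Commute v j from (hvT hj).symm).mul_mul_mul_comm, hBsq v hvB, mul_one]
    set b' := j * a * θ a with hb'
    have hb'B : b' ∈ B := (hlay j hj hjB).1
    have h1 : c * b' * c⁻¹ = b' := by
      rcases hB2 b' hb'B with e | e <;> rw [e]
      · group
      · exact hcz
    have h2 : c * b' * c⁻¹ = b' * v := by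
      calc c * b' * c⁻¹ = (c * j * c⁻¹) * (c * a * c⁻¹) * (c * θ a * c⁻¹) := by rw [hb']; group
        _ = j * (v * a) * v * (θ a * v) := by rw [e1, e2, e3]; group
        _ = j * a * (v * v) * (θ a * v) := by rw [← hvT ha]; group
        _ = b' * v := by rw [hBsq v hvB, hb']; group
    rw [h1, left_eq_mul] at h2
    rw [h2, mul_one] at e1 e2
    intro x hx
    exact mem_centralizer_singleton_iff.1 ((hTgen.trans ((closure_le _).2 (by
      rintro w (e | e) <;> rw [e]
      · exact mem_centralizer_singleton_iff.2 (mul_inv_eq_iff_eq_mul.1 e1).symm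
      · exact mem_centralizer_singleton_iff.2 (mul_inv_eq_iff_eq_mul.1 e2).symm))) hx)
  -- the fixed points commute with one another
  let Fx : Subgroup G :=
    { carrier := {x | x ∈ P ∧ θ x = x}
      one_mem' := ⟨one_mem _, h.map_one⟩
      mul_mem' := fun {x y} hx hy => ⟨mul_mem hx.1 hy.1, by rw [h.mul _ hx.1 _ hy.1, hx.2, hy.2]⟩
      inv_mem' := fun {x} hx => ⟨inv_mem hx.1, by rw [h.map_inv hx.1, hx.2]⟩ }
  have hSFx : closure (sqs P) ≤ Fx := by
    refine (closure_le _).2 ?_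
    rintro _ ⟨p, hp, rfl⟩
    obtain ⟨t, ht, c, hc, hcθ, rfl⟩ := h.decomp hG hp
    show (t * c) ^ 2 ∈ Fx
    rw [pow_two, (show Commute c t from (hcentT c hc hcθ t ht).symm).mul_mul_mul_comm]
    exact mul_mem (show t * t ∈ Fx from ⟨mul_mem (hTP ht) (hTP ht), hBfix _ (mul_self_mem_sqs ht)⟩)
      (mul_mem (show c ∈ Fx from ⟨hc, hcθ⟩) ⟨hc, hcθ⟩)
  set Y := P ⊓ frattini G with hY
  have hjY : j ∈ Y := ⟨hjP, hjF⟩
  set S := closure (sqs Y) with hS
  have hjS : j ∉ S := fun e => hjB (hlfix j hj (by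
    rw [(hSFx (sqs_mono inf_le_left e)).2]; exact Rel.refl j))
  obtain ⟨y, hyY, hYle⟩ : ∃ y ∈ Y, Y ≤ closure ({j, y} : Set G) := by
    by_cases hle : Y ≤ zpowers j ⊔ S
    · refine ⟨1, one_mem _, ?_⟩
      exact (le_of_le_sup_sqs hG (zpowers_le.2 hjY) hle).trans (zpowers_le.2 (subset_closure (by simp)))
    obtain ⟨y, hy, hyM⟩ := SetLike.not_le_iff_exists.1 hle
    refine ⟨y, hy, le_of_le_sup_sqs hG ((closure_le _).2 (by rintro _ (rfl | rfl) <;> assumption)) ?_⟩
    set M := zpowers j ⊔ S with hM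
    set L := closure ({j, y} : Set G) ⊔ S with hL
    have hML : M ≤ L := sup_le ((zpowers_le.2 (subset_closure (by simp))).trans le_sup_left) le_sup_right
    have hLY : L ≤ Y := sup_le ((closure_le _).2 (by rintro _ (rfl | rfl) <;> assumption)) (sqs_closure_le Y)
    have h4 : S.relIndex Y ≤ 4 := relIndex_sqs_le_of_metacyclic hG
      (MetaTwoFusion.isMetacyclic_of_le inf_le_right (isMetacyclic_frattini hG hb hnm))
    have h5 := relIndex_mul_relIndex S M Y le_sup_right (hML.trans hLY)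
    have h6 := relIndex_mul_relIndex M L Y hML hLY
    have two : ∀ {H K : Subgroup G}, ¬ K ≤ H → 2 ≤ H.relIndex K := fun {H K} hn => by
      have h0 : H.relIndex K ≠ 0 := index_ne_zero_of_finite
      have h1 : H.relIndex K ≠ 1 := fun e => hn (relIndex_eq_one.1 e)
      omega
    have a1 : 2 ≤ S.relIndex M := two fun e => hjS (e (mem_sup_left (mem_zpowers j)))
    have a2 : 2 ≤ M.relIndex L := two fun e => hyM (e (mem_sup_left (subset_closure (by simp))))
    have a3 : L.relIndex Y ≠ 0 := index_ne_zero_of_finite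
    refine relIndex_eq_one.1 ?_
    rw [← h5, ← h6] at h4
    by_contra hc
    have := Nat.mul_le_mul a1 (Nat.mul_le_mul a2 (show 2 ≤ L.relIndex Y by omega))
    omega
  obtain ⟨t₀, ht₀, c₀, hc₀, hc₀θ, hy0⟩ := h.decomp hG hyY.1
  have hnorm₀ : zpowers c₀ ≤ normalizer (T P θ : Set G) :=
    zpowers_le.2 (mem_normalizer_fintype fun x hx => h.T_conj hc₀ hx)
  have hPX : ∀ p ∈ P, ∃ t ∈ T P θ, ∃ k : ℤ, p = t * c₀ ^ k := by
    have hYX : Y ≤ T P θ ⊔ zpowers c₀ := hYle.trans ((closure_le _).2 (by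
      rintro w (e | e) <;> rw [e]
      · exact mem_sup_left hj
      · rw [hy0]; exact mul_mem (mem_sup_left ht₀) (mem_sup_right (mem_zpowers c₀))))
    intro p hp
    have hpX : p ∈ T P θ ⊔ zpowers c₀ := by
      by_cases hpF : p ∈ frattini G
      · exact hYX ⟨hp, hpF⟩
      · have h1 : a * p ∈ T P θ ⊔ zpowers c₀ :=
          hYX ⟨mul_mem haP hp, mul_mem_frattini_of_proper hG hb h.gP haP hp haF hpF⟩
        have := mul_mem (mem_sup_left (T := zpowers c₀) (inv_mem ha)) h1
        rwa [inv_mul_cancel_left] at this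
    rw [← SetLike.mem_coe, coe_mul_of_right_le_normalizer_left _ _ hnorm₀] at hpX
    obtain ⟨t, ht, w, hw, rfl⟩ := hpX
    obtain ⟨k, rfl⟩ := mem_zpowers_iff.1 hw
    exact ⟨t, ht, k, rfl⟩
  have hFxc : ∀ c ∈ P, θ c = c → ∀ p ∈ P, p * c = c * p := by
    intro c hc hcθ p hp
    obtain ⟨t, ht, k, rfl⟩ := hPX p hp
    obtain ⟨t', ht', k', hc'⟩ := hPX c hc
    have hk' : c₀ ^ k' ∈ Fx := zpow_mem (show c₀ ∈ Fx from ⟨hc₀, hc₀θ⟩) k'
    have ht'B : t' ∈ B := by
      refine hlfix t' ht' ?_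
      have h1 : θ t' * c₀ ^ k' = t' * c₀ ^ k' := by
        rw [← hc']
        conv_rhs => rw [← hcθ, hc', h.mul _ (hTP ht') _ hk'.1, hk'.2]
      rw [mul_right_cancel h1]; exact Rel.refl t'
    have hcc0 : c₀ * c = c * c₀ := by
      rw [hc', ← mul_assoc, ← hcentT c₀ hc₀ hc₀θ t' ht', mul_assoc, mul_assoc, ((Commute.refl c₀).zpow_right k').eq]
    have hk : c₀ ^ k * c = c * c₀ ^ k := (Commute.zpow_left hcc0 k).eq
    rw [mul_assoc, hk, ← mul_assoc, hcentT c hc hcθ t ht, mul_assoc]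
  -- the centraliser of `T`
  set W : Subgroup G := centralizer (T P θ : Set G) with hW
  have hWmem : ∀ {x}, x ∈ W ↔ ∀ t ∈ T P θ, t * x = x * t := fun {x} => mem_centralizer_iff
  have hPW : P ≤ normalizer (W : Set G) := fun p hp => mem_normalizer_fintype fun w hw => by
    refine hWmem.2 fun t ht => ?_
    have ht' : p⁻¹ * t * p ∈ T P θ := by simpa using h.T_conj (inv_mem hp) ht
    have := hWmem.1 hw _ ht'
    calc t * (p * w * p⁻¹) = p * (p⁻¹ * t * p * w) * p⁻¹ := by group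
      _ = p * w * p⁻¹ * t := by rw [this]; group
  have hWP : W ≤ P := by
    have heq : P = P ⊔ W := by
      by_contra hne
      obtain ⟨s, hsK, hsP, hsN⟩ := exists_normalizing hG le_sup_left hne
      have hsmem : s ∈ (↑(P ⊔ W) : Set G) := hsK
      rw [coe_mul_of_left_le_normalizer_right P W hPW] at hsmem
      obtain ⟨p, hp, w, hw, hsw⟩ := hsmem
      have hsa : Rel B a (s * a * s⁻¹) := by
        have : w * a * w⁻¹ = a := by rw [← hWmem.1 hw a ha, mul_inv_cancel_right]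
        rw [← hsw, show p * w * a * (p * w)⁻¹ = p * (w * a * w⁻¹) * p⁻¹ by group, this]
        exact h.P_triv hG hb hnm hp ha
      rcases h.norm s hsN with h0 | h0
      · exact hsP h0
      · have e1 := Rel.conj (fun b hb => h.B_g hG hb) (h.P_triv hG hb hnm h0 ha)
        rw [show g * (g⁻¹ * s * a * (g⁻¹ * s)⁻¹) * g⁻¹ = s * a * s⁻¹ by group] at e1
        have e2 := ((hga.trans e1).trans hsa.symm)
        refine hjB (inv_mem_iff.1 ?_)
        show j⁻¹ ∈ B
        rwa [Rel, mul_inv_rev, inv_mul_cancel_right] at e2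
    exact fun x hx => heq ▸ (mem_sup_right hx : x ∈ P ⊔ W)
  have hWc : ∀ w ∈ W, ∀ p ∈ P, p * w = w * p := by
    intro w hw p hp
    obtain ⟨t, ht, c, hc, hcθ, rfl⟩ := h.decomp hG hp
    rw [mul_assoc, ← hFxc c hc hcθ w (hWP hw), ← mul_assoc, hWmem.1 hw t ht, mul_assoc]
  have hFxW : ∀ c ∈ P, θ c = c → c ∈ W := fun c hc hcθ => hWmem.2 (hcentT c hc hcθ)
  -- a second generator
  obtain ⟨b, hgen⟩ : ∃ b, closure ({a, b} : Set G) = ⊤ := by
    by_contra hno
    push Not at hno
    refine hnm ?_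
    have htop : zpowers a ⊔ frattini G = ⊤ := eq_top_iff.2 fun s _ => by
      by_cases hs : s ∈ frattini G
      · exact mem_sup_right hs
      · have h1 : a * s ∈ frattini G := by
          by_contra h2
          exact hno s (gen_of_independent hG hb haF hs h2)
        have := mul_mem (mem_sup_left (T := frattini G) (inv_mem (mem_zpowers a)))
          (mem_sup_right (S := zpowers a) h1)
        rwa [inv_mul_cancel_left] at this
    haveI : IsCyclic G := isCyclic_iff_exists_zpowers_eq_top.2 ⟨a, frattini_nongenerating htop⟩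
    exact isMetacyclic_of_isCyclic
  have hΦ : (frattini G).Normal := inferInstance
  have hzΩ : z ∈ omega hG hb hnm := ⟨hBF hzB, hz2⟩
  set z' := b * z * b⁻¹ with hz'
  have hz'Ω : z' ∈ omega hG hb hnm := (omega_normal hG hb hnm).conj_mem z hzΩ b
  have hz'a : a * z' = z' * a := by
    have h1 : (b * a * b⁻¹) * z' = z' * (b * a * b⁻¹) := by
      rw [hz', show b * a * b⁻¹ * (b * z * b⁻¹) = b * (a * z) * b⁻¹ by group, hzT ha]; group
    have h2 : ⁅b, a⁆ * z' = z' * ⁅b, a⁆ := commute_omega hG hb hnm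
      (commutator_le_frattini_two hG (commutator_mem_commutator (mem_top _) (mem_top _))) hz'Ω
    have e : b * a * b⁻¹ = ⁅b, a⁆ * a := by rw [commutatorElement_def]; group
    rw [e, mul_assoc, ← mul_assoc z', ← h2, mul_assoc] at h1
    exact mul_left_cancel h1
  set u := z * z' with hu
  have huΩ : u ∈ omega hG hb hnm := mul_mem hzΩ hz'Ω
  have hbz'' : b * z' * b⁻¹ = z := by
    have h1 := commute_omega hG hb hnm (x := b * b) (by rw [← pow_two]; exact CfsgLib.PGroup.pow_mem_frattini hG b) hzΩ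
    rw [hz', show b * (b * z * b⁻¹) * b⁻¹ = (b * b) * z * (b * b)⁻¹ by group, h1, mul_inv_cancel_right]
  have hzz' : z * z' = z' * z := involutions_commute hG hb hnm hzΩ.1 hz'Ω.1 hz2 hz'Ω.2
  have hucen : ∀ x, Commute x u := by
    have hle : closure ({a, b} : Set G) ≤ centralizer {u} := (closure_le _).2 (by
      rintro w (e | e) <;> rw [e]
      · refine mem_centralizer_singleton_iff.2 ?_
        exact ((show Commute a z from hzT ha).mul_right (show Commute a z' from hz'a)).eq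
      · refine mem_centralizer_singleton_iff.2 (mul_inv_eq_iff_eq_mul.1 ?_)
        rw [hu, show b * (z * z') * b⁻¹ = (b * z * b⁻¹) * (b * z' * b⁻¹) by group, ← hz', hbz'', hzz'])
    exact fun x => mem_centralizer_singleton_iff.1 ((hgen ▸ hle) (mem_top x))
  have hu2 : u * u = 1 := huΩ.2
  set c := a⁻¹ * b * a * b⁻¹ with hcdef
  have hrel : a⁻¹ * c * a = u * c⁻¹ := by
    have h1 : b * a * b⁻¹ = z' * (b * a⁻¹ * b⁻¹) := by
      rw [hz', hai, show b * z * b⁻¹ * (b * (z * a) * b⁻¹) = b * (z * z) * a * b⁻¹ by group, hz2, mul_one]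
    calc a⁻¹ * c * a = (a * a)⁻¹ * (b * a * b⁻¹) * a := by rw [hcdef]; group
      _ = z * (z' * (b * a⁻¹ * b⁻¹)) * a := by rw [ha2, hzi, h1]
      _ = u * c⁻¹ := by rw [hu, hcdef]; group
  have hDc := commutator_comm_of_rel hG hb hnm hnc hgen hucen hu2 hrel
  rw [← hD] at hDc
  have hDn : D.Normal := inferInstance
  have hcD : c ∈ D := by
    rw [hcdef, show a⁻¹ * b * a * b⁻¹ = ⁅a⁻¹, b⁆ by rw [commutatorElement_def]; group]
    exact commutator_mem_commutator (mem_top _) (mem_top _)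
  have hDF : D ≤ frattini G := commutator_le_frattini_two hG
  have hzD : z ∈ D := mul_mem hjD hjD
  have hz'D : z' ∈ D := hDn.conj_mem z hzD b
  have hconjD : ∀ {x}, x ∈ D → a⁻¹ * x * a ∈ D := fun {x} hx => by
    simpa using hDn.conj_mem x hx a⁻¹
  -- the twisted norm
  set χ : G → G := fun x => a⁻¹ * x * a * x with hχ
  have hχm : ∀ {x y}, x ∈ D → y ∈ D → χ (x * y) = χ x * χ y := fun {x y} hx hy => by
    show a⁻¹ * (x * y) * a * (x * y) = a⁻¹ * x * a * x * (a⁻¹ * y * a * y)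
    rw [(show Commute x (a⁻¹ * y * a) from hDc _ hx _ (hconjD hy)).mul_mul_mul_comm]
    group
  have hχb : ∀ {x}, x ∈ D → χ (b * x * b⁻¹) = b * χ x * b⁻¹ := fun {x} hx => by
    set d := a⁻¹ * b⁻¹ * a * b with hd
    have hdD : d ∈ D := by
      rw [hd, show a⁻¹ * b⁻¹ * a * b = ⁅a⁻¹, b⁻¹⁆ by rw [commutatorElement_def]; group]
      exact commutator_mem_commutator (mem_top _) (mem_top _)
    show a⁻¹ * (b * x * b⁻¹) * a * (b * x * b⁻¹) = b * (a⁻¹ * x * a * x) * b⁻¹
    calc a⁻¹ * (b * x * b⁻¹) * a * (b * x * b⁻¹) = b * (d⁻¹ * (a⁻¹ * x * a) * d * x) * b⁻¹ := by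
          rw [hd]; group
      _ = _ := by rw [mul_assoc d⁻¹, hDc _ (hconjD hx) _ hdD, inv_mul_cancel_left]
  have hχj : χ j = 1 := by
    show a⁻¹ * j * a * j = 1
    rw [haj, mul_assoc, ← hzT hj, ← mul_assoc, ← hzdef, hz2]
  -- the main step
  have hkey : ∀ {s u₁ w₁}, s * a * s⁻¹ = a * u₁ → s * j * s⁻¹ = j * w₁ → u₁ ∈ W → w₁ ∈ W →
      u₁ ∈ B ∨ j⁻¹ * u₁ ∈ B := by
    intro s u₁ w₁ hsa hsj hu₁ hw₁
    have hsT : ∀ x ∈ T P θ, s * x * s⁻¹ ∈ P := by
      have hle : T P θ ≤ P.comap (MulAut.conj s).toMonoidHom := hTgen.trans ((closure_le _).2 (by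
        rintro w (e | e) <;> rw [e]
        · show s * j * s⁻¹ ∈ P
          rw [hsj]; exact mul_mem hjP (hWP hw₁)
        · show s * a * s⁻¹ ∈ P
          rw [hsa]; exact mul_mem haP (hWP hu₁)))
      exact fun x hx => hle hx
    have hsW' : s⁻¹ ∈ normalizer (W : Set G) := mem_normalizer_fintype fun w hw => by
      rw [inv_inv]
      have comm : ∀ x, s * x * s⁻¹ * w = w * (s * x * s⁻¹) → x ∈ centralizer ({s⁻¹ * w * s} : Set G) :=
        fun x hx => mem_centralizer_singleton_iff.2 (by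
          calc x * (s⁻¹ * w * s) = s⁻¹ * (s * x * s⁻¹ * w) * s := by group
            _ = s⁻¹ * w * s * x := by rw [hx]; group)
      have hle : T P θ ≤ centralizer {s⁻¹ * w * s} := hTgen.trans ((closure_le _).2 (by
        rintro x (e | e) <;> rw [e]
        · refine comm j ?_
          rw [hsj]
          exact hWc w hw _ (mul_mem hjP (hWP hw₁))
        · refine comm a ?_
          rw [hsa]
          exact hWc w hw _ (mul_mem haP (hWP hu₁))))
      exact hWmem.2 fun t ht => mem_centralizer_singleton_iff.1 (hle ht)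
    have hsW : s ∈ normalizer (W : Set G) := inv_mem_iff.1 hsW'
    have hsN : s ∈ normalizer (P : Set G) := mem_normalizer_fintype fun p hp => by
      obtain ⟨t, ht, d, hd, hdθ, rfl⟩ := h.decomp hG hp
      rw [show s * (t * d) * s⁻¹ = (s * t * s⁻¹) * (s * d * s⁻¹) by group]
      exact mul_mem (hsT t ht) (hWP ((mem_normalizer_iff.1 hsW d).1 (hFxW d hd hdθ)))
    rcases h.norm s hsN with h0 | h0
    · left
      have e := h.P_triv hG hb hnm h0 ha
      rwa [hsa, Rel, inv_mul_cancel_left] at e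
    · right
      have e1 := Rel.conj (fun b hb => h.B_g hG hb) (h.P_triv hG hb hnm h0 ha)
      rw [show g * (g⁻¹ * s * a * (g⁻¹ * s)⁻¹) * g⁻¹ = s * a * s⁻¹ by group, hsa] at e1
      have e2 := hga.trans e1
      rwa [Rel, mul_inv_rev, mul_assoc, inv_mul_cancel_left] at e2
  -- involutions of `D`
  have hWinv : ∀ {x}, x ∈ D → a * x = x * a → x ∈ W := fun {x} hx hax => hWmem.2 fun t ht =>
    mem_centralizer_singleton_iff.1 ((hTgen.trans ((closure_le _).2 (by
      rintro w (e | e) <;> rw [e]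
      · exact mem_centralizer_singleton_iff.2 (hDc _ hjD _ hx)
      · exact mem_centralizer_singleton_iff.2 hax))) ht)
  have hBneq : ∀ {x}, x ∈ B → x = 1 ∨ x = z := fun {x} hx => hB2 x hx
  have hjmul : ∀ {x}, j⁻¹ * x ∈ B → x * x = z ∧ (z = 1 → x = j) := fun {x} hx => by
    refine ⟨?_, fun hz1 => ?_⟩
    · have e : x = j * (j⁻¹ * x) := (mul_inv_cancel_left j x).symm
      rw [e, (show Commute (j⁻¹ * x) j from (h.B_central hG hb hnm hfixB hx hj).symm).mul_mul_mul_comm, hBsq _ hx,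
        mul_one]
    · rcases hB2 _ hx with e | e
      · exact (inv_mul_eq_one.1 e).symm
      · rw [hz1, inv_mul_eq_one] at e; exact e.symm
  by_cases hu1 : u = 1
  swap
  · -- `z` is not central
    have hz1 : z ≠ 1 := fun e => hu1 (by rw [hu, hz', e]; group)
    have hz'1 : z' ≠ 1 := fun e => hz1 (conj_eq_one_iff.1 e)
    have hz'z : z' ≠ z := fun e => hu1 (by rw [hu, e, hz2])
    set y₁ := b * j * b⁻¹ with hy₁
    have hy₁D : y₁ ∈ D := hDn.conj_mem j hjD b
    have hy₁χ : χ y₁ = 1 := by rw [hy₁, hχb hjD, hχj]; group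
    have hy₁2 : y₁ * y₁ = z' := by rw [hy₁, hz', hzdef]; group
    have hsa : y₁ * a * y₁⁻¹ = a * z' := by
      have e1 : a⁻¹ * y₁ * a = y₁⁻¹ := eq_inv_of_mul_eq_one_left hy₁χ
      calc y₁ * a * y₁⁻¹ = a * (a⁻¹ * y₁ * a) * y₁⁻¹ := by group
        _ = a * (y₁ * y₁)⁻¹ := by rw [e1]; group
        _ = a * z' := by rw [hy₁2, inv_eq_of_mul_eq_one_right hz'Ω.2]
    have hsj : y₁ * j * y₁⁻¹ = j * 1 := by rw [hDc _ hy₁D _ hjD, mul_inv_cancel_right, mul_one]
    rcases hkey hsa hsj (hWinv hz'D hz'a) (one_mem W) with e | e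
    · rcases hBneq e with e' | e'
      · exact hz'1 e'
      · exact hz'z e'
    · exact hz1 ((hjmul e).1.symm.trans hz'Ω.2)
  -- `z` is central and `a` inverts `D`
  have hz'eq : z' = z := by rw [hu] at hu1; exact (inv_eq_of_mul_eq_one_right hu1).symm.trans hzi
  let I : Subgroup G :=
    { carrier := {x | x ∈ D ∧ χ x = 1}
      one_mem' := ⟨one_mem _, by show a⁻¹ * 1 * a * 1 = 1; group⟩
      mul_mem' := fun {x y} hx hy => ⟨mul_mem hx.1 hy.1, by rw [hχm hx.1 hy.1, hx.2, hy.2, one_mul]⟩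
      inv_mem' := fun {x} hx => ⟨inv_mem hx.1, by
        show a⁻¹ * x⁻¹ * a * x⁻¹ = 1
        have h1 : a⁻¹ * x * a = x⁻¹ := eq_inv_of_mul_eq_one_left hx.2
        rw [show a⁻¹ * x⁻¹ * a = (a⁻¹ * x * a)⁻¹ by group, h1, inv_inv, mul_inv_cancel]⟩ }
  haveI hIn : I.Normal := normalizer_eq_top_iff.1 (eq_top_iff.2 (hgen ▸ (closure_le _).2 (by
    rintro w (e | e) <;> rw [e]
    · refine mem_normalizer_fintype fun x hx => ⟨hDn.conj_mem x hx.1 a, ?_⟩
      show a⁻¹ * (a * x * a⁻¹) * a * (a * x * a⁻¹) = 1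
      have h1 : a⁻¹ * x * a = x⁻¹ := eq_inv_of_mul_eq_one_left hx.2
      calc a⁻¹ * (a * x * a⁻¹) * a * (a * x * a⁻¹) = a * ((a⁻¹ * x * a) * x) * a⁻¹ := by group
        _ = 1 := by rw [h1]; group
    · refine mem_normalizer_fintype fun x hx => ⟨hDn.conj_mem x hx.1 b, ?_⟩
      rw [hχb hx.1, hx.2]; group)))
  have hcI : c ∈ I := ⟨hcD, by show a⁻¹ * c * a * c = 1; rw [hrel, hu1, one_mul, inv_mul_cancel]⟩
  have hinv : ∀ x ∈ D, a⁻¹ * x * a = x⁻¹ := fun x hx => by
    have hxI : x ∈ I := closure_pair_comm_le hgen (H := I) (by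
      rw [show a * b * a⁻¹ * b⁻¹ = a * (a⁻¹ * b * a * b⁻¹)⁻¹ * a⁻¹ by group, ← hcdef]
      exact hIn.conj_mem _ (inv_mem hcI) a) hx
    exact eq_inv_of_mul_eq_one_left hxI.2
  have hzcen : ∀ s, s * z * s⁻¹ = z := by
    have hle : closure ({a, b} : Set G) ≤ centralizer {z} := (closure_le _).2 (by
      rintro w (e | e) <;> rw [e]
      · exact mem_centralizer_singleton_iff.2 (hzT ha)
      · exact mem_centralizer_singleton_iff.2 (mul_inv_eq_iff_eq_mul.1 hz'eq))
    intro s
    have h1 : s ∈ centralizer {z} := hle (hgen.symm ▸ mem_top s)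
    rw [show s * z = z * s from mem_centralizer_singleton_iff.1 h1, mul_inv_cancel_right]
  -- classes modulo squares
  set Sd := closure (sqs D) with hSd
  haveI hSn : Sd.Normal := sqs_closure_normal D
  set π := QuotientGroup.mk' Sd with hπdef
  have hπ : ∀ x, π x = 1 ↔ x ∈ Sd := fun x => QuotientGroup.eq_one_iff x
  have hπ2 : ∀ x ∈ D, π x * π x = 1 := fun x hx => by rw [← _root_.map_mul, hπ]; exact mul_self_mem_sqs hx
  have hsquare : ∀ v ∈ Sd, ∃ d ∈ D, d * d = v := by
    intro v hv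
    induction hv using closure_induction with
    | mem y hy => obtain ⟨d, hd, rfl⟩ := hy; exact ⟨d, hd, (pow_two d).symm⟩
    | one => exact ⟨1, one_mem _, one_mul 1⟩
    | mul y y' _ _ hy hy' =>
      obtain ⟨d, hd, rfl⟩ := hy
      obtain ⟨d', hd', rfl⟩ := hy'
      exact ⟨d * d', mul_mem hd hd', (show Commute d' d from hDc _ hd' _ hd).mul_mul_mul_comm _ _⟩
    | inv y _ hy =>
      obtain ⟨d, hd, rfl⟩ := hy
      exact ⟨d⁻¹, inv_mem hd, (mul_inv_rev d d).symm⟩
  set c' := b * c * b⁻¹ with hc'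
  have hc'D : c' ∈ D := hDn.conj_mem c hcD b
  have habm : ∀ {H : Subgroup G}, H.Normal → c ∈ H → D ≤ H := by
    intro H hH hcH
    refine closure_pair_comm_le hgen ?_
    rw [show a * b * a⁻¹ * b⁻¹ = a * (a⁻¹ * b * a * b⁻¹)⁻¹ * a⁻¹ by group, ← hcdef]
    exact hH.conj_mem _ (inv_mem hcH) a
  have hcS : c ∉ Sd := fun e => hnc (by
    have hle := le_of_le_sup_sqs hG (L := ⊥) (H := D) bot_le ((habm hSn e).trans le_sup_right)
    exact Subgroup.isCyclic_of_le (H' := zpowers (1 : G)) (hle.trans bot_le))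
  have hπc : orderOf (π c) = 2 :=
    orderOf_eq_prime (by rw [pow_two]; exact hπ2 c hcD) fun e => hcS ((hπ c).1 e)
  have hcard : Nat.card (D.map π) = 4 := by
    have hle4 : Nat.card (D.map π) ≤ 4 := by
      rw [← relIndex_ker D π, hπdef, QuotientGroup.ker_mk']
      exact relIndex_sqs_le_of_metacyclic hG
        (MetaTwoFusion.isMetacyclic_of_le hDF (isMetacyclic_frattini hG hb hnm))
    have hdvd : 2 ∣ Nat.card (D.map π) := by
      rw [← hπc, ← Nat.card_zpowers]
      exact card_dvd_of_le (zpowers_le.2 (mem_map_of_mem π hcD))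
    have hne2 : Nat.card (D.map π) ≠ 2 := fun e => hnc (by
      have heq : zpowers (π c) = D.map π :=
        eq_of_le_of_card_ge (zpowers_le.2 (mem_map_of_mem π hcD)) (by rw [Nat.card_zpowers, hπc, e])
      refine Subgroup.isCyclic_of_le (H' := zpowers c) (le_of_le_sup_sqs hG (zpowers_le.2 hcD) fun x hx => ?_)
      obtain ⟨i, hi⟩ := mem_zpowers_iff.1 (heq.symm ▸ mem_map_of_mem π hx : π x ∈ zpowers (π c))
      have h1 : (c ^ i)⁻¹ * x ∈ Sd := by rw [← hπ, _root_.map_mul, _root_.map_inv, map_zpow, hi, inv_mul_cancel]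
      have := mul_mem (mem_sup_left (T := Sd) (zpow_mem (mem_zpowers c) i)) (mem_sup_right (S := zpowers c) h1)
      rwa [mul_inv_cancel_left] at this)
    have hpos : 0 < Nat.card (D.map π) := Nat.card_pos
    omega
  haveI : (D.map π).Normal := hDn.map π (QuotientGroup.mk'_surjective Sd)
  have hb2c : π (b * c' * b⁻¹) = π c := by
    have h1 : π (b * b) * π c = π c * π (b * b) := commute_of_normal_four (hG.to_quotient Sd) hcard (by
      rw [_root_.map_mul, ← pow_two]
      exact CfsgLib.PGroup.pow_mem_frattini (hG.to_quotient Sd) _) (mem_map_of_mem π hcD)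
    rw [hc', show b * (b * c * b⁻¹) * b⁻¹ = b * b * c * (b * b)⁻¹ by group, _root_.map_mul, _root_.map_mul, h1, _root_.map_inv,
      mul_inv_cancel_right]
  have hcomm : π c * π c' = π c' * π c := by rw [← _root_.map_mul, ← _root_.map_mul, hDc _ hcD _ hc'D]
  let K : Subgroup (G ⧸ Sd) :=
    { carrier := {q | ∃ i k : ℤ, q = π c ^ i * π c' ^ k}
      one_mem' := ⟨0, 0, by simp⟩
      mul_mem' := by
        rintro _ _ ⟨i, k, rfl⟩ ⟨i', k', rfl⟩
        exact ⟨i + i', k + k', by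
          rw [((Commute.symm hcomm).zpow_zpow k i').mul_mul_mul_comm, ← zpow_add, ← zpow_add]⟩
      inv_mem' := by
        rintro _ ⟨i, k, rfl⟩
        exact ⟨-i, -k, by rw [mul_inv_rev, ← zpow_neg, ← zpow_neg, ((Commute.symm hcomm).zpow_zpow _ _).eq]⟩ }
  have hcov : ∀ x ∈ D, ∃ i k : ℤ, π x = π c ^ i * π c' ^ k := by
    haveI hKn : (K.comap π).Normal := normalizer_eq_top_iff.1 (eq_top_iff.2 (hgen ▸ (closure_le _).2 (by
      rintro w (e | e) <;> rw [e]
      · refine mem_normalizer_fintype fun x hx => ?_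
        obtain ⟨i, k, hik⟩ := (hx : π x ∈ K)
        refine ⟨-i, -k, ?_⟩
        have hconj : ∀ d ∈ D, π a * π d * (π a)⁻¹ = (π d)⁻¹ := fun d hd => by
          have h1 : a * d * a⁻¹ = d⁻¹ := by
            have := hinv _ (hDn.conj_mem d hd a)
            rw [show a⁻¹ * (a * d * a⁻¹) * a = d by group] at this
            rw [← inv_inj, inv_inv, ← this]
          rw [← _root_.map_inv, ← _root_.map_mul, ← _root_.map_mul, h1, _root_.map_inv]
        rw [_root_.map_mul, _root_.map_mul, _root_.map_inv, hik,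
          show π a * (π c ^ i * π c' ^ k) * (π a)⁻¹ = (π a * π c ^ i * (π a)⁻¹) * (π a * π c' ^ k * (π a)⁻¹) by group,
          ← conj_zpow, ← conj_zpow, hconj c hcD, hconj c' hc'D, inv_zpow', inv_zpow']
      · refine mem_normalizer_fintype fun x hx => ?_
        obtain ⟨i, k, hik⟩ := (hx : π x ∈ K)
        refine ⟨k, i, ?_⟩
        rw [_root_.map_mul, _root_.map_mul, _root_.map_inv, hik,
          show π b * (π c ^ i * π c' ^ k) * (π b)⁻¹ = (π b * π c ^ i * (π b)⁻¹) * (π b * π c' ^ k * (π b)⁻¹) by group,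
          ← conj_zpow, ← conj_zpow,
          show π b * π c * (π b)⁻¹ = π c' from by rw [← _root_.map_inv, ← _root_.map_mul, ← _root_.map_mul],
          show π b * π c' * (π b)⁻¹ = π c from by rw [← _root_.map_inv, ← _root_.map_mul, ← _root_.map_mul, hb2c],
          ((Commute.symm hcomm).zpow_zpow i k).eq])))
    intro x hx
    exact habm hKn (show π c ∈ K from ⟨1, 0, by simp⟩) hx
  -- every class is in the orbit of `a`
  have horb : ∀ x ∈ D, ∃ s, s * a * s⁻¹ = a * x := by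
    intro x hx
    have step : ∀ {s x₀}, s * a * s⁻¹ = a * x₀ → π x₀ = π x → ∃ s, s * a * s⁻¹ = a * x := by
      intro s x₀ hs hπx
      have hv : x₀⁻¹ * x ∈ Sd := by rw [← hπ, _root_.map_mul, _root_.map_inv, hπx, inv_mul_cancel]
      obtain ⟨d, hd, hdd⟩ := hsquare _ (inv_mem (hSn.conj_mem _ hv s⁻¹))
      refine ⟨s * d, ?_⟩
      have h1 : d * a * d⁻¹ = a * (d * d)⁻¹ := by
        calc d * a * d⁻¹ = a * (a⁻¹ * d * a) * d⁻¹ := by group
          _ = a * (d * d)⁻¹ := by rw [hinv d hd]; group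
      calc s * d * a * (s * d)⁻¹ = s * (d * a * d⁻¹) * s⁻¹ := by group
        _ = s * a * s⁻¹ * (s * (d * d)⁻¹ * s⁻¹) := by rw [h1]; group
        _ = a * x := by rw [hs, hdd]; group
    have hb1 : b * a * b⁻¹ = a * c := by rw [hcdef]; group
    have hb2 : b * b * a * (b * b)⁻¹ = a * (c * c') := by
      rw [show b * b * a * (b * b)⁻¹ = b * (b * a * b⁻¹) * b⁻¹ by group, hb1,
        show b * (a * c) * b⁻¹ = (b * a * b⁻¹) * (b * c * b⁻¹) by group, hb1, mul_assoc]
    have hb3 : b * b * b * a * (b * b * b)⁻¹ = a * (c * c' * (b * c' * b⁻¹)) := by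
      rw [show b * b * b * a * (b * b * b)⁻¹ = b * (b * b * a * (b * b)⁻¹) * b⁻¹ by group, hb2,
        show b * (a * (c * c')) * b⁻¹ = (b * a * b⁻¹) * (b * c * b⁻¹) * (b * c' * b⁻¹) by group, hb1, mul_assoc a,
        mul_assoc a]
    have par : ∀ (d : G), d ∈ D → ∀ i : ℤ, π d ^ i = 1 ∨ π d ^ i = π d := fun d hd i =>
      eq_one_or_of_mem_zpowers (hπ2 d hd) (zpow_mem (mem_zpowers _) i)
    obtain ⟨i, k, hik⟩ := hcov x hx
    rcases par c hcD i with hi | hi <;> rcases par c' hc'D k with hk | hk <;> rw [hi, hk] at hik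
    · exact step (s := 1) (x₀ := 1) (by group) (by rw [_root_.map_one, hik, one_mul])
    · refine step hb3 ?_
      rw [_root_.map_mul, _root_.map_mul, hb2c, mul_assoc, ← hcomm, ← mul_assoc, hπ2 c hcD, hik]
    · exact step hb1 (by rw [hik, mul_one])
    · exact step hb2 (by rw [_root_.map_mul, hik])
  -- a second involution
  set e₁ := if z = 1 then j else z with he₁
  obtain ⟨u₁, hu₁D, hu₁2, hu₁1, hu₁e⟩ : ∃ x ∈ D, x * x = 1 ∧ x ≠ 1 ∧ x ≠ e₁ := by
    by_contra hno
    push Not at hno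
    refine hnc (CfsgLib.MinimalNonCA.isCyclic_of_unique (hG.to_subgroup D)
      (fun x y => Subtype.ext (hDc _ x.2 _ y.2)) fun x y hx hy hx1 hy1 => Subtype.ext ?_)
    rw [hno x x.2 (congrArg Subtype.val hx) (fun e => hx1 (Subtype.ext e)),
      hno y y.2 (congrArg Subtype.val hy) (fun e => hy1 (Subtype.ext e))]
  have hinvW : ∀ {x}, x ∈ D → x * x = 1 → x ∈ W := fun {x} hx hx2 => hWinv hx (by
    have h1 := hinv x hx
    rw [inv_eq_of_mul_eq_one_right hx2, mul_assoc, inv_mul_eq_iff_eq_mul] at h1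
    exact h1.symm)
  obtain ⟨s, hs⟩ := horb u₁ hu₁D
  set w₁ := j⁻¹ * (s * j * s⁻¹) with hw₁
  have hw₁D : w₁ ∈ D := mul_mem (inv_mem hjD) (hDn.conj_mem j hjD s)
  have hw₁2 : w₁ * w₁ = 1 := by
    rw [hw₁, (show Commute (s * j * s⁻¹) j⁻¹ from hDc _ (hDn.conj_mem j hjD s) _ (inv_mem hjD)).mul_mul_mul_comm,
      show s * j * s⁻¹ * (s * j * s⁻¹) = s * (j * j) * s⁻¹ by group, ← hzdef, hzcen s, ← mul_inv_rev, ← hzdef,
      inv_mul_cancel]
  rcases hkey hs (mul_inv_cancel_left j _).symm (hinvW hu₁D hu₁2) (hinvW hw₁D hw₁2) with e | e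
  · rcases hBneq e with e' | e'
    · exact hu₁1 e'
    · by_cases hz1 : z = 1
      · exact hu₁1 (e'.trans hz1)
      · exact hu₁e (by rw [he₁, if_neg hz1, e'])
  · obtain ⟨q1, q2⟩ := hjmul e
    have hz1 : z = 1 := q1.symm.trans hu₁2
    exact hu₁e (by rw [he₁, if_pos hz1]; exact q2 hz1)

end Ctx

end CfsgLib.Bicyclic19
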