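import Cfsg.Agent.Lib.Bicyclic19.NecBasic

/-!
# An automorphism of order three of `P` inverted by an outside element

`T = [P, θ]`, `P = T C_P(θ)`, and `T / Φ(T)` is a four group permuted transitively by `θ`.
-/

set_option autoImplicit false
set_option linter.style.haveILetI false
set_option linter.unusedSectionVars false
set_option linter.deprecated false

namespace CfsgLib.Bicyclic19

open Subgroup
open scoped commutatorElement

universe u

variable {G : Type u} [Group G]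

/-- The setting. -/
structure Ctx (P : Subgroup G) (g : G) (θ : G → G) : Prop where
  gN : g ∈ normalizer (P : Set G)
  gP : g ∉ P
  cen : ∀ x, (∀ y ∈ P, y * x = x * y) → x ∈ P
  norm : ∀ s ∈ normalizer (P : Set G), s ∈ P ∨ g⁻¹ * s ∈ P
  mem : ∀ x ∈ P, θ x ∈ P
  mul : ∀ x ∈ P, ∀ y ∈ P, θ (x * y) = θ x * θ y
  cube : ∀ x ∈ P, θ (θ (θ x)) = x
  inv : ∃ p ∈ P, ∀ x ∈ P, g * θ x * g⁻¹ = p * θ (θ (g * x * g⁻¹)) * p⁻¹
  moved : ∃ x ∈ P, θ x ≠ x

namespace Ctx

/-- The subgroup `[P, θ]`. -/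
def T (P : Subgroup G) (θ : G → G) : Subgroup G := closure ((fun x => x⁻¹ * θ x) '' (P : Set G))

/-- Congruence modulo a subgroup. -/
def Rel (B : Subgroup G) (x y : G) : Prop := x⁻¹ * y ∈ B

theorem Rel.refl {B : Subgroup G} (x : G) : Rel B x x := by rw [Rel, inv_mul_cancel]; exact one_mem _

theorem Rel.symm {B : Subgroup G} {x y : G} (h : Rel B x y) : Rel B y x := by
  have := inv_mem h; rwa [mul_inv_rev, inv_inv] at this

theorem Rel.trans {B : Subgroup G} {x y z : G} (h : Rel B x y) (h' : Rel B y z) : Rel B x z := by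
  have h2 := mul_mem h h'
  rwa [mul_assoc, mul_inv_cancel_left] at h2

theorem Rel.conj {B : Subgroup G} {x y u : G} (hu : ∀ b ∈ B, u * b * u⁻¹ ∈ B) (h : Rel B x y) :
    Rel B (u * x * u⁻¹) (u * y * u⁻¹) := by
  have := hu _ h
  show (u * x * u⁻¹)⁻¹ * (u * y * u⁻¹) ∈ B
  rwa [show (u * x * u⁻¹)⁻¹ * (u * y * u⁻¹) = u * (x⁻¹ * y) * u⁻¹ by group]

variable {P : Subgroup G} {g : G} {θ : G → G}

section
variable (h : Ctx P g θ)
include h

theorem map_one : θ 1 = 1 := by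
  have h1 := h.mul 1 (one_mem _) 1 (one_mem _)
  rw [mul_one] at h1
  exact left_eq_mul.1 h1

theorem map_inv {x : G} (hx : x ∈ P) : θ x⁻¹ = (θ x)⁻¹ := eq_inv_of_mul_eq_one_left (by
  rw [← h.mul _ (inv_mem hx) _ hx, inv_mul_cancel, h.map_one])

theorem T_le : T P θ ≤ P := by
  refine (closure_le _).2 ?_
  rintro _ ⟨x, hx, rfl⟩
  exact mul_mem (inv_mem hx) (h.mem x hx)

omit h in
theorem gen_mem {x : G} (hx : x ∈ P) : x⁻¹ * θ x ∈ T P θ := subset_closure ⟨x, hx, rfl⟩

theorem T_conj {y : G} (hy : y ∈ P) {v : G} (hv : v ∈ T P θ) : y * v * y⁻¹ ∈ T P θ := by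
  have hle : T P θ ≤ (T P θ).comap (MulAut.conj y).toMonoidHom := by
    refine (closure_le _).2 ?_
    rintro _ ⟨x, hx, rfl⟩
    show y * (x⁻¹ * θ x) * y⁻¹ ∈ T P θ
    have h1 := gen_mem (θ := θ) (mul_mem hx (inv_mem hy))
    have h2 := inv_mem (gen_mem (θ := θ) (inv_mem hy))
    rw [h.mul _ hx _ (inv_mem hy), h.map_inv hy] at h1
    rw [h.map_inv hy] at h2
    have h3 := mul_mem h1 h2
    convert h3 using 1
    group
  exact hle hv

theorem T_map {v : G} (hv : v ∈ T P θ) : θ v ∈ T P θ := by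
  have key : v ∈ P ∧ θ v ∈ T P θ := by
    induction hv using closure_induction with
    | mem x hx =>
      obtain ⟨x, hx, rfl⟩ := hx
      refine ⟨mul_mem (inv_mem hx) (h.mem x hx), ?_⟩
      rw [h.mul _ (inv_mem hx) _ (h.mem x hx), h.map_inv hx]
      exact gen_mem (h.mem x hx)
    | one => exact ⟨one_mem _, by rw [h.map_one]; exact one_mem _⟩
    | mul x y _ _ hx hy => exact ⟨mul_mem hx.1 hy.1, by rw [h.mul _ hx.1 _ hy.1]; exact mul_mem hx.2 hy.2⟩
    | inv x _ hx => exact ⟨inv_mem hx.1, by rw [h.map_inv hx.1]; exact inv_mem hx.2⟩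
  exact key.2

variable [Finite G] (hG : IsPGroup 2 G)
include hG

/-- Every coset of `T` contains a fixed point. -/
theorem exists_fixed {x : G} (hx : x ∈ P) : ∃ t ∈ T P θ, θ (x * t) = x * t := by
  classical
  let X := {y : G // y ∈ P ∧ x⁻¹ * y ∈ T P θ}
  have := Fintype.ofFinite X
  let f : X → X := fun y => ⟨θ y.1, h.mem _ y.2.1, by
    have := mul_mem y.2.2 (gen_mem (θ := θ) y.2.1)
    rwa [mul_assoc, mul_inv_cancel_left] at this⟩
  let σ : Equiv.Perm X :=
    { toFun := f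
      invFun := fun y => f (f y)
      left_inv := fun y => Subtype.ext (h.cube _ y.2.1)
      right_inv := fun y => Subtype.ext (h.cube _ y.2.1) }
  let e : T P θ ≃ X :=
    { toFun := fun t => ⟨x * t, mul_mem hx (h.T_le t.2), by rw [inv_mul_cancel_left]; exact t.2⟩
      invFun := fun y => ⟨x⁻¹ * y.1, y.2.2⟩
      left_inv := fun t => Subtype.ext (inv_mul_cancel_left x t)
      right_inv := fun y => Subtype.ext (mul_inv_cancel_left x y.1) }
  haveI := Fact.mk Nat.prime_three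
  have hcard : ¬ 3 ∣ Fintype.card X := by
    rw [← Nat.card_eq_fintype_card, ← Nat.card_congr e]
    obtain ⟨k, hk⟩ := IsPGroup.iff_card.1 (hG.to_subgroup (T P θ))
    rw [hk]
    intro h3
    have := Nat.prime_three.dvd_of_dvd_pow h3
    norm_num at this
  have hσ : σ ^ 3 ^ 1 = 1 := Equiv.ext fun y => Subtype.ext (by
    show ((σ (σ (σ y))) : X).1 = y.1
    exact h.cube _ y.2.1)
  obtain ⟨y, hy⟩ := Equiv.Perm.exists_fixed_point_of_prime hcard hσ
  exact ⟨x⁻¹ * y.1, y.2.2, by rw [mul_inv_cancel_left]; exact congrArg Subtype.val hy⟩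

/-- `P = T C_P(θ)`. -/
theorem decomp {x : G} (hx : x ∈ P) : ∃ t ∈ T P θ, ∃ c ∈ P, θ c = c ∧ x = t * c := by
  obtain ⟨t, ht, hfix⟩ := h.exists_fixed hG hx
  refine ⟨x * t⁻¹ * x⁻¹, h.T_conj hx (inv_mem ht), x * t, mul_mem hx (h.T_le ht), hfix, ?_⟩
  group

theorem T_gen : T P θ ≤ closure ((fun x => x⁻¹ * θ x) '' (T P θ : Set G)) := by
  refine (closure_le _).2 ?_
  rintro _ ⟨x, hx, rfl⟩
  obtain ⟨t, ht, hfix⟩ := h.exists_fixed hG hx
  refine subset_closure ⟨t⁻¹, inv_mem ht, ?_⟩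
  show t⁻¹⁻¹ * θ t⁻¹ = x⁻¹ * θ x
  rw [h.mul _ hx _ (h.T_le ht), ← eq_mul_inv_iff_mul_eq] at hfix
  rw [hfix, h.map_inv (h.T_le ht)]
  group

theorem T_ne : ¬ T P θ ≤ closure (sqs (T P θ)) := by
  intro hle
  obtain ⟨x, hx, hne⟩ := h.moved
  have hbot := le_of_le_sup_sqs hG (L := ⊥) bot_le (hle.trans le_sup_right)
  exact hne (inv_mul_eq_one.1 (mem_bot.1 (hbot (gen_mem (θ := θ) hx)))).symm

theorem g_mem_T {v : G} (hv : v ∈ T P θ) : g * v * g⁻¹ ∈ T P θ := by
  obtain ⟨p, hp, hrel⟩ := h.inv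
  have hgc : ∀ x ∈ P, g * x * g⁻¹ ∈ P := fun x hx => (mem_normalizer_iff.1 h.gN x).1 hx
  -- `p` is central modulo `T`
  let Z : Subgroup G :=
    { carrier := {w | w ∈ P ∧ ∀ y ∈ P, y * w * y⁻¹ * w⁻¹ ∈ T P θ}
      one_mem' := ⟨one_mem _, fun y _ => by simp⟩
      mul_mem' := fun {w w'} hw hw' => ⟨mul_mem hw.1 hw'.1, fun y hy => by
        have := mul_mem (hw.2 y hy) (h.T_conj hw.1 (hw'.2 y hy))
        convert this using 1
        group⟩
      inv_mem' := fun {w} hw => ⟨inv_mem hw.1, fun y hy => by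
        have := h.T_conj (inv_mem hw.1) (inv_mem (hw.2 y hy))
        convert this using 1
        group⟩ }
  have hTZ : ∀ t ∈ T P θ, t ∈ Z := fun t ht => ⟨h.T_le ht, fun y hy => mul_mem (h.T_conj hy ht) (inv_mem ht)⟩
  have hq : ∀ y ∈ P, p * θ (θ p) * θ p * y = y * (p * θ (θ p) * θ p) := by
    intro y hy
    have hy' : g⁻¹ * y * g ∈ P := (mem_normalizer_iff''.1 h.gN y).1 hy
    set x := g⁻¹ * y * g with hxdef
    have hxy : g * x * g⁻¹ = y := by rw [hxdef]; group
    have e1 := hrel x hy'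
    rw [hxy] at e1
    have hθy := h.mem _ hy
    have hθθy := h.mem _ hθy
    have hm1 : θ (θ (g * θ x * g⁻¹)) = θ (θ p) * θ y * θ (θ p⁻¹) := by
      rw [e1, h.mul _ (mul_mem hp hθθy) _ (inv_mem hp), h.mul _ hp _ hθθy,
        h.mul _ (mul_mem (h.mem _ hp) (h.mem _ hθθy)) _ (h.mem _ (inv_mem hp)),
        h.mul _ (h.mem _ hp) _ (h.mem _ hθθy), h.cube _ hθy]
    have e2 := hrel (θ x) (h.mem _ hy')
    rw [hm1] at e2
    have hA : θ (θ p) ∈ P := h.mem _ (h.mem _ hp)
    have hA' : θ (θ p⁻¹) ∈ P := h.mem _ (h.mem _ (inv_mem hp))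
    have hm2 : θ (θ (g * θ (θ x) * g⁻¹)) =
        θ (θ p) * (θ p * y * θ p⁻¹) * θ (θ p⁻¹) := by
      rw [e2, h.mul _ (mul_mem hp (mul_mem (mul_mem hA hθy) hA')) _ (inv_mem hp),
        h.mul _ hp _ (mul_mem (mul_mem hA hθy) hA'), h.mul _ (mul_mem hA hθy) _ hA', h.mul _ hA _ hθy,
        h.cube _ hp, h.cube _ (inv_mem hp)]
      have hB : p * θ (θ y) * p⁻¹ ∈ P := mul_mem (mul_mem hp hθθy) (inv_mem hp)
      rw [h.mul _ (mul_mem (h.mem _ hp) hB) _ (h.mem _ (inv_mem hp)), h.mul _ (h.mem _ hp) _ hB,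
        h.mul _ (mul_mem hp hθθy) _ (inv_mem hp), h.mul _ hp _ hθθy, h.cube _ hy]
    have e3 := hrel (θ (θ x)) (h.mem _ (h.mem _ hy'))
    rw [hm2, h.cube _ hy', hxy] at e3
    rw [h.map_inv hp, h.map_inv (h.mem _ hp)] at e3
    conv_rhs => rw [e3]
    group
  have hp3 : p ^ (3 : ℤ) ∈ Z := by
    have hqZ : p * θ (θ p) * θ p ∈ Z := ⟨mul_mem (mul_mem hp (h.mem _ (h.mem _ hp))) (h.mem _ hp), fun y hy => by
      rw [← hq y hy, mul_inv_cancel_right, mul_inv_cancel]; exact one_mem _⟩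
    have t1 : p⁻¹ * θ p ∈ T P θ := gen_mem hp
    have t2 : p⁻¹ * θ (θ p) ∈ T P θ := by
      have := mul_mem t1 (gen_mem (θ := θ) (h.mem _ hp))
      rwa [mul_assoc, mul_inv_cancel_left] at this
    have t3 : p⁻¹ * (p⁻¹ * θ (θ p)) * p ∈ T P θ := by
      have := h.T_conj (inv_mem hp) t2
      rwa [inv_inv] at this
    have := mul_mem hqZ (inv_mem (mul_mem (hTZ _ t3) (hTZ _ t1)))
    convert this using 1
    group
  have hpZ : p ∈ Z := (zpowers_le.2 hp3) (zpowers_zpow_odd hG p ⟨1, rfl⟩)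
  have hle : T P θ ≤ (T P θ).comap (MulAut.conj g).toMonoidHom := by
    refine (closure_le _).2 ?_
    rintro _ ⟨x, hx, rfl⟩
    show g * (x⁻¹ * θ x) * g⁻¹ ∈ T P θ
    set y := g * x * g⁻¹ with hy
    have e : g * (x⁻¹ * θ x) * g⁻¹ = (y⁻¹ * p * y⁻¹⁻¹ * p⁻¹) * (p * (y⁻¹ * θ (θ y)) * p⁻¹) := by
      calc g * (x⁻¹ * θ x) * g⁻¹ = y⁻¹ * (g * θ x * g⁻¹) := by rw [hy]; group
        _ = _ := by rw [hrel x hx, ← hy]; group
    rw [e]
    have hyP : y ∈ P := hgc x hx
    refine mul_mem (hpZ.2 _ (inv_mem hyP)) (h.T_conj hp ?_)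
    have := mul_mem (gen_mem (θ := θ) hyP) (gen_mem (θ := θ) (h.mem _ hyP))
    rwa [mul_assoc, mul_inv_cancel_left] at this
  exact hle hv

theorem B_conj {y : G} (hy : y ∈ P) {v : G} (hv : v ∈ closure (sqs (T P θ))) :
    y * v * y⁻¹ ∈ closure (sqs (T P θ)) :=
  conj_mem_sqs (fun x hx => h.T_conj hy hx) hv

theorem B_g {v : G} (hv : v ∈ closure (sqs (T P θ))) : g * v * g⁻¹ ∈ closure (sqs (T P θ)) :=
  conj_mem_sqs (fun x hx => h.g_mem_T hG hx) hv

theorem B_map {v : G} (hv : v ∈ closure (sqs (T P θ))) : θ v ∈ closure (sqs (T P θ)) := by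
  have key : v ∈ P ∧ θ v ∈ closure (sqs (T P θ)) := by
    induction hv using closure_induction with
    | mem x hx =>
      obtain ⟨c, hc, rfl⟩ := hx
      refine ⟨pow_mem (h.T_le hc) 2, ?_⟩
      show θ (c ^ 2) ∈ _
      rw [pow_two, h.mul _ (h.T_le hc) _ (h.T_le hc)]
      exact mul_self_mem_sqs (h.T_map hc)
    | one => exact ⟨one_mem _, by rw [h.map_one]; exact one_mem _⟩
    | mul x y _ _ hx hy => exact ⟨mul_mem hx.1 hy.1, by rw [h.mul _ hx.1 _ hy.1]; exact mul_mem hx.2 hy.2⟩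
    | inv x _ hx => exact ⟨inv_mem hx.1, by rw [h.map_inv hx.1]; exact inv_mem hx.2⟩
  exact key.2

theorem rel_map {x y : G} (hx : x ∈ P) (hy : y ∈ P) (hr : Rel (closure (sqs (T P θ))) x y) :
    Rel (closure (sqs (T P θ))) (θ x) (θ y) := by
  have := h.B_map hG hr
  rwa [h.mul _ (inv_mem hx) _ hy, h.map_inv hx] at this

variable (hb : Bicyclic G) (hnm : ¬ Cfsg.IsMetacyclic G)
include hb hnm

theorem index_B_le : (closure (sqs (T P θ))).relIndex (T P θ) ≤ 8 := by
  set Y := T P θ ⊓ frattini G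
  have hY : Y.relIndex (T P θ) ≤ 2 := frattini_inter_index hG hb fun hgT => h.gP (h.T_le hgT)
  have hm : (closure (sqs Y)).relIndex Y ≤ 4 := relIndex_sqs_le_of_metacyclic hG
    (MetaTwoFusion.isMetacyclic_of_le inf_le_right (isMetacyclic_frattini hG hb hnm))
  have h1 := relIndex_mul_relIndex (closure (sqs Y)) Y (T P θ) (sqs_closure_le Y) inf_le_left
  have hsub : closure (sqs Y) ≤ closure (sqs (T P θ)) := sqs_mono inf_le_left
  have h2 := relIndex_mul_relIndex (closure (sqs Y)) _ (T P θ) hsub (sqs_closure_le _)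
  have h3 : (closure (sqs Y)).relIndex (T P θ) ≤ 8 := by
    rw [← h1]; exact Nat.mul_le_mul hm hY
  have hpos : 0 < (closure (sqs Y)).relIndex (closure (sqs (T P θ))) :=
    Nat.pos_of_ne_zero index_ne_zero_of_finite
  calc (closure (sqs (T P θ))).relIndex (T P θ)
      ≤ (closure (sqs Y)).relIndex (closure (sqs (T P θ))) * (closure (sqs (T P θ))).relIndex (T P θ) :=
        Nat.le_mul_of_pos_left _ hpos
    _ ≤ 8 := by rw [h2]; exact h3

/-- `θ` is fixed-point-free on `T/Φ(T)`, which has order four. -/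
theorem layer : (∀ x ∈ T P θ, Rel (closure (sqs (T P θ))) x (θ x) → x ∈ closure (sqs (T P θ))) ∧
    ∀ t ∈ T P θ, t ∉ closure (sqs (T P θ)) →
      t * θ t * θ (θ t) ∈ closure (sqs (T P θ)) ∧
      ∀ x ∈ T P θ, x ∈ closure (sqs (T P θ)) ∨ Rel (closure (sqs (T P θ))) t x ∨
        Rel (closure (sqs (T P θ))) (θ t) x ∨ Rel (closure (sqs (T P θ))) (θ (θ t)) x := by
  classical
  set B := closure (sqs (T P θ)) with hB
  set B' := B.subgroupOf (T P θ) with hB'
  haveI : B'.Normal := ⟨fun b hb' y => h.B_conj hG (h.T_le y.2) hb'⟩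
  let V := ↥(T P θ) ⧸ B'
  let π : ↥(T P θ) →* V := QuotientGroup.mk' B'
  have hπ : ∀ u, π u = 1 ↔ (u : G) ∈ B := fun u => QuotientGroup.eq_one_iff u
  have hexp : ∀ v : V, v * v = 1 := fun v => by
    obtain ⟨u, rfl⟩ := QuotientGroup.mk'_surjective B' v
    exact (hπ (u * u)).2 (mul_self_mem_sqs u.2)
  have hinvV : ∀ v : V, v⁻¹ = v := fun v => inv_eq_of_mul_eq_one_right (hexp v)
  letI : CommGroup V :=
    { (inferInstance : Group V) with
      mul_comm := fun a b => by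
        have h1 := inv_eq_of_mul_eq_one_right (hexp (a * b))
        rw [mul_inv_rev, hinvV, hinvV] at h1
        exact h1.symm }
  let θT : ↥(T P θ) →* ↥(T P θ) :=
    { toFun := fun u => ⟨θ u, h.T_map u.2⟩
      map_one' := Subtype.ext h.map_one
      map_mul' := fun u w => Subtype.ext (h.mul _ (h.T_le u.2) _ (h.T_le w.2)) }
  let φ : V →* V := QuotientGroup.map B' B' θT fun u hu => h.B_map hG hu
  have hφ : ∀ u, φ (π u) = π (θT u) := fun u => rfl
  have hφ3 : ∀ v, φ (φ (φ v)) = v := fun v => by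
    obtain ⟨u, rfl⟩ := QuotientGroup.mk'_surjective B' v
    show π (θT (θT (θT u))) = π u
    congr 1
    exact Subtype.ext (h.cube _ (h.T_le u.2))
  let δ : V →* V :=
    { toFun := fun v => v * φ v
      map_one' := by rw [_root_.map_one, one_mul]
      map_mul' := fun v w => by rw [_root_.map_mul, mul_mul_mul_comm] }
  have hδs : Function.Surjective δ := by
    have hall : ∀ x, ∀ hx : x ∈ T P θ, π ⟨x, hx⟩ ∈ δ.range := by
      intro x hx
      have key : ∀ y ∈ closure ((fun x => x⁻¹ * θ x) '' (T P θ : Set G)),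
          ∃ hy : y ∈ T P θ, π ⟨y, hy⟩ ∈ δ.range := by
        intro y hy
        induction hy using closure_induction with
        | mem y hy =>
          obtain ⟨u, hu, rfl⟩ := hy
          refine ⟨mul_mem (inv_mem hu) (h.T_map hu), π ⟨u, hu⟩, ?_⟩
          show π ⟨u, hu⟩ * φ (π ⟨u, hu⟩) = _
          rw [hφ, ← hinvV (π ⟨u, hu⟩), ← _root_.map_inv, ← _root_.map_mul]
          rfl
        | one => exact ⟨one_mem _, by
            rw [show (⟨1, one_mem _⟩ : T P θ) = 1 from rfl, _root_.map_one]; exact one_mem _⟩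
        | mul y z _ _ hy hz =>
          obtain ⟨hy1, hy2⟩ := hy
          obtain ⟨hz1, hz2⟩ := hz
          refine ⟨mul_mem hy1 hz1, ?_⟩
          have := mul_mem hy2 hz2
          rwa [← _root_.map_mul] at this
        | inv y _ hy =>
          obtain ⟨hy1, hy2⟩ := hy
          refine ⟨inv_mem hy1, ?_⟩
          have := inv_mem hy2
          rwa [← _root_.map_inv] at this
      exact (key x (h.T_gen hG hx)).2
    intro v
    obtain ⟨⟨x, hx⟩, rfl⟩ := QuotientGroup.mk'_surjective B' v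
    exact hall x hx
  have hδi : Function.Injective δ := Finite.injective_iff_surjective.2 hδs
  have hfix : ∀ v, φ v = v → v = 1 := fun v hv => hδi (by
    show v * φ v = δ 1
    rw [hv, hexp, _root_.map_one])
  refine ⟨fun x hx hr => ?_, fun t ht htB => ?_⟩
  · refine (hπ ⟨x, hx⟩).1 (hfix _ ?_)
    rw [hφ]
    refine ((QuotientGroup.eq).2 ?_).symm
    exact hr
  set v := π ⟨t, ht⟩ with hv
  have hv1 : v ≠ 1 := fun e => htB ((hπ _).1 e)
  have hprod : v * φ v * φ (φ v) = 1 := hfix _ (by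
    rw [_root_.map_mul, _root_.map_mul, hφ3, mul_comm, ← mul_assoc])
  have hφφ : φ (φ v) = v * φ v := by rw [← hinvV (v * φ v)]; exact eq_inv_of_mul_eq_one_right hprod
  refine ⟨?_, fun x hx => ?_⟩
  · exact (hπ (⟨t, ht⟩ * θT ⟨t, ht⟩ * θT (θT ⟨t, ht⟩))).1 hprod
  · set K : Subgroup V :=
      { carrier := {w | w = 1 ∨ w = v ∨ w = φ v ∨ w = v * φ v}
        one_mem' := Or.inl rfl
        mul_mem' := by
          rintro p q (rfl | rfl | rfl | rfl) (rfl | rfl | rfl | rfl) <;>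
            simp only [Set.mem_setOf_eq, one_mul, mul_one, hexp, true_or, or_true] <;>
            first
            | (left; rfl)
            | (right; left; rw [mul_left_comm, hexp, mul_one])
            | (right; left; rw [mul_assoc, hexp, mul_one])
            | (right; right; left; rw [← mul_assoc, hexp, one_mul])
            | (right; right; left; rw [mul_comm, ← mul_assoc, hexp, one_mul])
            | (right; right; right; rw [mul_comm])
        inv_mem' := fun {p} hp => by rw [Set.mem_setOf_eq, hinvV]; exact hp } with hK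
    have h8 : Nat.card V ≤ 8 := by
      rw [← Subgroup.index_eq_card]; exact h.index_B_le hG hb hnm
    have hK4 : 4 ≤ Nat.card K := by
      have := Fintype.ofFinite K
      rw [Nat.card_eq_fintype_card]
      have n1 : φ v ≠ 1 := fun e => hv1 (by rw [← hφ3 v, e, _root_.map_one, _root_.map_one])
      have n2 : φ v ≠ v := fun e => hv1 (hfix v e)
      have n3 : v * φ v ≠ 1 := fun e => n2 ((eq_inv_of_mul_eq_one_right e).trans (hinvV v))
      have hnd : [(⟨1, one_mem K⟩ : K), ⟨v, Or.inr (Or.inl rfl)⟩, ⟨φ v, Or.inr (Or.inr (Or.inl rfl))⟩,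
          ⟨v * φ v, Or.inr (Or.inr (Or.inr rfl))⟩].Nodup := by
        simp [← Subtype.coe_inj, Ne.symm hv1, Ne.symm n1, Ne.symm n3, Ne.symm n2, left_eq_mul, right_eq_mul, hv1, n1]
      exact hnd.length_le_card
    have hidx : K.index ≤ 2 := by
      have := K.card_mul_index
      nlinarith
    have hkK : ∀ w, φ w * w ∈ K := by
      intro w
      rcases (show K.index = 1 ∨ K.index = 2 from by
        have := (index_ne_zero_of_finite : K.index ≠ 0); omega) with h1 | h2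
      · rw [Subgroup.index_eq_one] at h1; rw [h1]; exact mem_top _
      · refine (mul_mem_iff_of_index_two h2).2 ⟨fun hw => ?_, fun hw => ?_⟩
        · have hmap : ∀ u ∈ K, φ u ∈ K := by
            rintro u (rfl | rfl | rfl | rfl)
            · exact Or.inl (_root_.map_one φ)
            · exact Or.inr (Or.inr (Or.inl rfl))
            · exact Or.inr (Or.inr (Or.inr hφφ))
            · refine Or.inr (Or.inl ?_)
              rw [_root_.map_mul, hφφ, mul_left_comm, hexp, mul_one]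
          have := hmap _ (hmap _ hw)
          rwa [hφ3] at this
        · rcases hw with rfl | rfl | rfl | rfl
          · exact Or.inl (_root_.map_one φ)
          · exact Or.inr (Or.inr (Or.inl rfl))
          · exact Or.inr (Or.inr (Or.inr hφφ))
          · refine Or.inr (Or.inl ?_)
            rw [_root_.map_mul, hφφ, mul_left_comm, hexp, mul_one]
    set w := π ⟨x, hx⟩ with hw
    have hd : δ w ∈ K := by show w * φ w ∈ K; rw [mul_comm]; exact hkK w
    have hwK : w = 1 ∨ w = v ∨ w = φ v ∨ w = v * φ v := by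
      rcases hd with e | e | e | e
      · exact Or.inl (hδi (e.trans (_root_.map_one δ).symm))
      · refine Or.inr (Or.inr (Or.inl (hδi (e.trans ?_))))
        show v = φ v * φ (φ v)
        rw [hφφ, mul_left_comm, hexp, mul_one]
      · refine Or.inr (Or.inr (Or.inr (hδi (e.trans ?_))))
        show φ v = (v * φ v) * φ (v * φ v)
        rw [_root_.map_mul, hφφ, mul_comm (φ v) (v * φ v), ← mul_assoc, hexp, one_mul]
      · exact Or.inr (Or.inl (hδi (e.trans rfl)))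
    have key : ∀ u : ↥(T P θ), π u = w → Rel B (u : G) x := fun u hu => (QuotientGroup.eq (s := B')).1 hu
    rcases hwK with e | e | e | e
    · exact Or.inl ((hπ _).1 e)
    · exact Or.inr (Or.inl (key ⟨t, ht⟩ e.symm))
    · exact Or.inr (Or.inr (Or.inl (key (θT ⟨t, ht⟩) e.symm)))
    · exact Or.inr (Or.inr (Or.inr (key (θT (θT ⟨t, ht⟩)) (hφφ.trans e.symm))))

/-- The elements of `P` act trivially on `T/Φ(T)`. -/
theorem P_triv {y : G} (hy : y ∈ P) {x : G} (hx : x ∈ T P θ) :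
    Rel (closure (sqs (T P θ))) x (y * x * y⁻¹) := by
  set B := closure (sqs (T P θ))
  obtain ⟨hfpf, hlay⟩ := h.layer hG hb hnm
  let St : Subgroup G :=
    { carrier := {u | u ∈ P ∧ Rel B x (u * x * u⁻¹)}
      one_mem' := ⟨one_mem _, by simpa using Rel.refl x⟩
      mul_mem' := fun {u w} hu hw => ⟨mul_mem hu.1 hw.1, by
        have := hu.2.trans (Rel.conj (fun b => h.B_conj hG hu.1) hw.2)
        convert this using 1
        group⟩
      inv_mem' := fun {u} hu => ⟨inv_mem hu.1, by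
        have := (Rel.conj (fun b => h.B_conj hG (inv_mem hu.1)) hu.2).symm
        convert this using 1 <;> group⟩ }
  suffices hsuff : y ∈ St from hsuff.2
  by_cases hxB : x ∈ B
  · exact ⟨hy, mul_mem (inv_mem hxB) (h.B_conj hG hy hxB)⟩
  obtain ⟨t, ht, c, hc, hcθ, rfl⟩ := h.decomp hG hy
  refine mul_mem ⟨h.T_le ht, ?_⟩ ?_
  · show x⁻¹ * (t * x * t⁻¹) ∈ B
    rw [show x⁻¹ * (t * x * t⁻¹) = x⁻¹ * t * x⁻¹⁻¹ * t⁻¹ by group]
    exact comm_mem_sqs (inv_mem hx) ht
  · -- `c` commutes with `θ`, so its cube fixes the class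
    have hcx : c * x * c⁻¹ ∈ T P θ := h.T_conj hc hx
    have hcm : ∀ v ∈ T P θ, θ (c * v * c⁻¹) = c * θ v * c⁻¹ := fun v hv => by
      rw [h.mul _ (mul_mem hc (h.T_le hv)) _ (inv_mem hc), h.mul _ hc _ (h.T_le hv), h.map_inv hc, hcθ]
    have hθx := h.T_map hx
    have hθθx := h.T_map hθx
    have hcB : ∀ b ∈ B, c * b * c⁻¹ ∈ B := fun b => h.B_conj hG hc
    rcases (hlay x hx hxB).2 _ hcx with e | e | e | e
    · exfalso
      have h5 := h.B_conj hG (inv_mem hc) e
      exact hxB (by convert h5 using 1; group)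
    · exact ⟨hc, e⟩
    all_goals
      refine (zpowers_le.2 ?_) (zpowers_zpow_odd hG c (i := 3) ⟨1, rfl⟩)
      refine ⟨zpow_mem hc 3, ?_⟩
      have e2 := h.rel_map hG (h.T_le (by first | exact hθx | exact hθθx)) (h.T_le hcx) e
      rw [hcm x hx] at e2
      have e3 := h.rel_map hG (h.T_le (h.T_map (by first | exact hθx | exact hθθx)))
        (h.T_le (h.T_conj hc hθx)) e2
      rw [hcm _ hθx] at e3
      simp only [h.cube _ (h.T_le hx), h.cube _ (h.T_le hθx)] at e2 e3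
      rw [show (3 : ℤ) = ((3 : ℕ) : ℤ) from rfl, zpow_natCast, pow_succ, pow_two,
        show c * c * c * x * (c * c * c)⁻¹ = c * (c * (c * x * c⁻¹) * c⁻¹) * c⁻¹ by group]
      first
      | exact (e3.trans (Rel.conj hcB e2)).trans (Rel.conj hcB (Rel.conj hcB e))
      | exact (e2.trans (Rel.conj hcB e3)).trans (Rel.conj hcB (Rel.conj hcB e))

/-- `g` inverts the action of `θ` on `T/Φ(T)`. -/
theorem g_theta {x : G} (hx : x ∈ T P θ) :
    Rel (closure (sqs (T P θ))) (θ (θ (g * x * g⁻¹))) (g * θ x * g⁻¹) := by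
  obtain ⟨p, hp, hrel⟩ := h.inv
  rw [hrel x (h.T_le hx)]
  exact h.P_triv hG hb hnm hp (h.T_map (h.T_map (h.g_mem_T hG hx)))

theorem exists_swap : ∃ t ∈ T P θ, t ∉ closure (sqs (T P θ)) ∧
    Rel (closure (sqs (T P θ))) (θ t) (g * t * g⁻¹) ∧
    Rel (closure (sqs (T P θ))) t (g * θ t * g⁻¹) := by
  set B := closure (sqs (T P θ))
  obtain ⟨hfpf, hlay⟩ := h.layer hG hb hnm
  obtain ⟨t₀, ht₀, ht₀B⟩ := SetLike.not_le_iff_exists.1 (h.T_ne hG)
  have hm : ∀ v ∈ T P θ, v ∉ B → θ v ∉ B := fun v hv hvB hθ => hvB (by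
    have := h.B_map hG (h.B_map hG hθ)
    rwa [h.cube _ (h.T_le hv)] at this)
  suffices hex : ∃ t ∈ T P θ, t ∉ B ∧ Rel B (θ t) (g * t * g⁻¹) by
    obtain ⟨t, ht, htB, hr⟩ := hex
    refine ⟨t, ht, htB, hr, ?_⟩
    have e := h.rel_map hG (h.mem _ (h.T_le ht)) (h.T_le (h.g_mem_T hG ht)) hr
    have e2 := h.rel_map hG (h.mem _ (h.mem _ (h.T_le ht))) (h.mem _ (h.T_le (h.g_mem_T hG ht))) e
    rw [h.cube _ (h.T_le ht)] at e2
    exact e2.trans (h.g_theta hG hb hnm ht)
  have hgt := h.g_mem_T hG ht₀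
  rcases (hlay t₀ ht₀ ht₀B).2 _ hgt with e | e | e | e
  · exfalso
    obtain ⟨p, hp, hrel⟩ := h.inv
    have hgg : g * g ∈ P := by
      rcases h.norm _ ((normalizer (P : Set G)).mul_mem h.gN h.gN) with h1 | h1
      · exact h1
      · rw [inv_mul_cancel_left] at h1; exact absurd h1 h.gP
    have e1 := h.B_g hG e
    refine ht₀B ?_
    have e4 := h.P_triv hG hb hnm hgg ht₀
    rw [show g * g * t₀ * (g * g)⁻¹ = g * (g * t₀ * g⁻¹) * g⁻¹ by group] at e4
    have e5 := mul_mem e4 (inv_mem e1)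
    rw [mul_inv_cancel_right] at e5
    exact inv_mem_iff.1 e5
  · refine ⟨θ t₀, h.T_map ht₀, hm _ ht₀ ht₀B, ?_⟩
    have e' := h.rel_map hG (h.T_le ht₀) (h.T_le hgt) e
    exact (h.rel_map hG (h.mem _ (h.T_le ht₀)) (h.mem _ (h.T_le hgt)) e').trans (h.g_theta hG hb hnm ht₀)
  · exact ⟨t₀, ht₀, ht₀B, e⟩
  · refine ⟨θ (θ t₀), h.T_map (h.T_map ht₀), hm _ (h.T_map ht₀) (hm _ ht₀ ht₀B), ?_⟩
    rw [h.cube _ (h.T_le ht₀)]
    have hθt := h.T_map ht₀
    have hgθt := h.g_mem_T hG hθt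
    -- `g θ t ≡ θ² (g t) ≡ θ t`
    have e1 := h.rel_map hG (h.mem _ (h.mem _ (h.T_le ht₀))) (h.T_le hgt) e
    rw [h.cube _ (h.T_le ht₀)] at e1
    have e2 := (h.rel_map hG (h.T_le ht₀) (h.mem _ (h.T_le hgt)) e1).trans (h.g_theta hG hb hnm ht₀)
    -- `g θ² t ≡ θ² (g θ t) ≡ t`
    have e3 := h.rel_map hG (h.mem _ (h.T_le ht₀)) (h.T_le hgθt) e2
    have e4 := h.rel_map hG (h.mem _ (h.mem _ (h.T_le ht₀))) (h.mem _ (h.T_le hgθt)) e3
    rw [h.cube _ (h.T_le ht₀)] at e4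
    exact e4.trans (h.g_theta hG hb hnm hθt)

end

end Ctx

end CfsgLib.Bicyclic19
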