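import Cfsg.Agent.Lib.Bicyclic19.Frattini

/-!
# Bicyclic nonmetacyclic 2-groups with cyclic commutator subgroup
-/

set_option autoImplicit false
set_option linter.style.haveILetI false

namespace CfsgLib.Bicyclic19

open Subgroup
open scoped commutatorElement

universe u

variable {G : Type u} [Group G]

/-- A 2-power divisibility. -/
theorem two_pow_dvd_of_odd_mul {n : ℕ} {a o : ℤ} (ho : Odd o) (h : (2 : ℤ) ^ n ∣ a * o) : (2 : ℤ) ^ n ∣ a := by
  refine IsCoprime.dvd_of_dvd_mul_right ?_ h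
  exact ((Int.prime_two.coprime_iff_not_dvd).2 fun h2 => Int.not_even_iff_odd.2 ho (even_iff_two_dvd.2 h2)).pow_left

/-- The arithmetic of the exponents. -/
theorem exponent_facts {n : ℕ} {k r l : ℤ} (hk : Odd k) (hr : Odd r)
    (h1 : (2 : ℤ) ^ (n + 1) ∣ 2 * l * (k - 1)) (h2 : (2 : ℤ) ^ (n + 1) ∣ k + 1 - 2 * l * (r - 1)) :
    (2 : ℤ) ^ (n + 1) ∣ k + 1 ∧ (2 : ℤ) ^ n ∣ 2 * l := by
  obtain ⟨r', rfl⟩ := hr
  obtain ⟨k', rfl⟩ := hk
  rcases n with _ | n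
  · exact ⟨⟨k' + 1, by ring⟩, one_dvd _⟩
  have h4 : (4 : ℤ) ∣ 2 ^ (n + 2) := ⟨2 ^ n, by ring⟩
  obtain ⟨d, hd⟩ := h4.trans h2
  have hko : Odd k' := ⟨d + l * r' - 1, by linarith⟩
  have h5 : (2 : ℤ) ^ (n + 2) ∣ 4 * l := by
    refine two_pow_dvd_of_odd_mul hko ?_
    have e : 2 * l * (2 * k' + 1 - 1) = 4 * l * k' := by ring
    rwa [e] at h1
  refine ⟨?_, ?_⟩
  · have h6 := dvd_add h2 (h5.mul_right r')
    have e : 2 * k' + 1 + 1 - 2 * l * (2 * r' + 1 - 1) + 4 * l * r' = 2 * k' + 1 + 1 := by ring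
    rwa [e] at h6
  · obtain ⟨d', hd'⟩ := h5
    exact ⟨d', by rw [pow_succ] at hd'; linarith⟩

/-- Generators and relations in the cyclic case. -/
structure Cyc (a b c : G) (n : ℕ) : Prop where
  gen : closure ({a, b} : Set G) = ⊤
  ord : orderOf c = 2 ^ (n + 1)
  com : commutator G = zpowers c
  bab : b * a * b⁻¹ = a * c
  aca : a * c * a⁻¹ = c⁻¹
  aa : a * a = 1 ∨ a * a = c ^ (2 ^ n)
  a_not : a ∉ frattini G

theorem exists_cyc [Finite G] (hG : IsPGroup 2 G) (hb : Bicyclic G) (hnm : ¬ Cfsg.IsMetacyclic G)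
    (hcyc : IsCyclic (commutator G)) : ∃ (a b c : G) (n : ℕ), Cyc a b c n := by
  haveI := Fact.mk Nat.prime_two
  obtain ⟨a, b, hgen, ha⟩ := exists_gens hG hb hnm
  set c := a⁻¹ * (b * a * b⁻¹) with hcdef
  have hbab : b * a * b⁻¹ = a * c := by rw [hcdef, mul_inv_cancel_left]
  obtain ⟨g, hg⟩ := hcyc.exists_generator
  have hgm : ∀ x ∈ commutator G, ∃ i : ℤ, (g : G) ^ i = x := fun x hx => by
    obtain ⟨i, hi⟩ := mem_zpowers_iff.1 (hg ⟨x, hx⟩)
    exact ⟨i, congrArg Subtype.val hi⟩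
  have hcG : c ∈ commutator G := by
    rw [show c = ⁅a⁻¹, b⁆ by rw [hcdef, commutatorElement_def]; group]
    exact commutator_mem_commutator (mem_top _) (mem_top _)
  have hconj : ∀ x : G, ∃ r : ℤ, x * c * x⁻¹ = c ^ r := by
    intro x
    obtain ⟨i, hi⟩ := hgm c hcG
    obtain ⟨r, hr⟩ := hgm _ ((inferInstance : (commutator G).Normal).conj_mem g g.2 x)
    exact ⟨r, by rw [← hi, ← conj_zpow, ← hr, ← zpow_mul, ← zpow_mul, mul_comm]⟩
  haveI hcn : (zpowers c).Normal := ⟨fun y hy x => by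
    obtain ⟨i, rfl⟩ := mem_zpowers_iff.1 hy
    obtain ⟨r, hr⟩ := hconj x
    rw [← conj_zpow, hr, ← zpow_mul]
    exact mem_zpowers_iff.2 ⟨_, rfl⟩⟩
  have hcom : commutator G = zpowers c := by
    refine le_antisymm (closure_pair_comm_le hgen ?_) (zpowers_le.2 hcG)
    have h2 : a * b * a⁻¹ * b⁻¹ = a * (b * a⁻¹ * b⁻¹) := by group
    rw [h2, show b * a⁻¹ * b⁻¹ = (b * a * b⁻¹)⁻¹ by group, hbab, mul_inv_rev, ← mul_assoc]
    exact hcn.conj_mem _ (inv_mem (mem_zpowers c)) a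
  obtain ⟨n, hn⟩ := IsPGroup.iff_orderOf.1 hG c
  rcases n with _ | n
  · refine absurd (TwoGroups85.isMetacyclic_of_pair hgen ?_) hnm
    have hc1 : c = 1 := orderOf_eq_one_iff.1 (by simpa using hn)
    rw [hcom, hc1, zpowers_one_eq_bot]
    exact bot_le
  have hN : ∀ {x : ℤ}, c ^ x = 1 ↔ (2 : ℤ) ^ (n + 1) ∣ x := fun {x} => by
    rw [← orderOf_dvd_iff_zpow_eq_one, hn]; norm_num
  have hNeq : ∀ {x y : ℤ}, c ^ x = c ^ y → (2 : ℤ) ^ (n + 1) ∣ x - y := fun {x y} h =>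
    hN.1 (by rw [zpow_sub, h, mul_inv_cancel])
  have hodd : ∀ {x : G} {r : ℤ}, x * c * x⁻¹ = c ^ r → Odd r := by
    intro x r hr
    by_contra hev
    obtain ⟨r', rfl⟩ := Int.not_odd_iff_even.1 hev
    have h1 : x * c ^ (2 ^ n : ℤ) * x⁻¹ = 1 := by
      rw [← conj_zpow, hr, ← zpow_mul]
      exact hN.2 ⟨r', by ring⟩
    have h2 : c ^ (2 ^ n : ℤ) = 1 := by simpa [mul_inv_eq_one] using h1
    have h3 := Int.le_of_dvd (by positivity) (hN.1 h2)
    rw [pow_succ] at h3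
    have h4 : (0 : ℤ) < 2 ^ n := by positivity
    linarith
  haveI hc2 : (zpowers (c ^ (2 : ℤ))).Normal := ⟨fun y hy x => by
    obtain ⟨i, rfl⟩ := mem_zpowers_iff.1 hy
    obtain ⟨r, hr⟩ := hconj x
    rw [← zpow_mul, ← conj_zpow, hr, ← zpow_mul]
    exact mem_zpowers_iff.2 ⟨r * i, by rw [← zpow_mul]; congr 1; ring⟩⟩
  have hrad : derRad G ≤ zpowers (c ^ (2 : ℤ)) := by
    refine sup_le (commutator_le.2 fun y hy x _ => ?_) ((closure_le _).2 ?_)
    · obtain ⟨i, rfl⟩ := mem_zpowers_iff.1 (hcom.le hy)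
      obtain ⟨r, hr⟩ := hconj x
      obtain ⟨r', rfl⟩ := hodd hr
      refine mem_zpowers_iff.2 ⟨-(r' * i), ?_⟩
      rw [commutatorElement_def, show c ^ i * x * (c ^ i)⁻¹ * x⁻¹ = c ^ i * (x * (c ^ i)⁻¹ * x⁻¹) by group,
        ← zpow_neg, ← conj_zpow, hr, ← zpow_mul, ← zpow_mul, ← zpow_add]
      congr 1; ring
    · rintro _ ⟨y, hy, rfl⟩
      obtain ⟨i, rfl⟩ := mem_zpowers_iff.1 (hcom.le hy)
      exact mem_zpowers_iff.2 ⟨i, by dsimp only; rw [← zpow_natCast, ← zpow_mul, ← zpow_mul, mul_comm]; rfl⟩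
  obtain ⟨l, hl⟩ := mem_zpowers_iff.1 (hrad ha)
  rw [← zpow_mul, pow_two] at hl
  obtain ⟨k, hk⟩ := hconj a
  obtain ⟨r, hr⟩ := hconj b
  have hinv : a⁻¹ * c * a = c ^ k := by
    calc a⁻¹ * c * a = (a * a)⁻¹ * (a * c * a⁻¹) * (a * a) := by group
      _ = (c ^ (2 * l))⁻¹ * c ^ k * c ^ (2 * l) := by rw [hk, hl]
      _ = c ^ k := by rw [← zpow_neg, ← zpow_add, ← zpow_add]; congr 1; ring
  have e1 : (2 : ℤ) ^ (n + 1) ∣ 2 * l * (k - 1) := by
    have h1 : c ^ (k * (2 * l)) = c ^ (2 * l) := by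
      rw [zpow_mul, ← hk, conj_zpow, hl]; group
    have h2 := hNeq h1
    rwa [show 2 * l * (k - 1) = k * (2 * l) - 2 * l by ring]
  have e2 : (2 : ℤ) ^ (n + 1) ∣ k + 1 - 2 * l * (r - 1) := by
    have h1 : c ^ (r * (2 * l)) = c ^ (2 * l + k + 1) := by
      rw [zpow_mul, ← hr, conj_zpow, hl, show b * (a * a) * b⁻¹ = (b * a * b⁻¹) * (b * a * b⁻¹) by group, hbab,
        show a * c * (a * c) = (a * a) * (a⁻¹ * c * a) * c by group, hinv, ← hl, ← zpow_add, ← zpow_add_one]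
    have h2 := hNeq h1
    rw [← dvd_neg]
    rwa [show -(k + 1 - 2 * l * (r - 1)) = r * (2 * l) - (2 * l + k + 1) by ring]
  obtain ⟨hk1, hl1⟩ := exponent_facts (hodd hk) (hodd hr) e1 e2
  refine ⟨a, b, c, n, hgen, hn, hcom, hbab, ?_, ?_, ?_⟩
  · rw [hk, ← zpow_neg_one, eq_comm, ← mul_inv_eq_one, ← zpow_neg, ← zpow_add]
    exact hN.2 (by rw [show (-1 : ℤ) + -k = -(k + 1) by ring, dvd_neg]; exact hk1)
  · obtain ⟨j, hj⟩ := hl1
    rw [← hl, hj, zpow_mul, show ((2 : ℤ) ^ n) = ((2 ^ n : ℕ) : ℤ) by push_cast; rfl, zpow_natCast]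
    refine zpowers_cases_two ?_ (mem_zpowers_iff.2 ⟨j, rfl⟩)
    rw [← pow_mul, ← pow_succ, ← hn]; exact pow_orderOf_eq_one c
  · intro h
    refine hnm (@isMetacyclic_of_isCyclic _ _ (isCyclic_iff_exists_zpowers_eq_top.2
      ⟨b, frattini_nongenerating (eq_top_iff.2 (hgen ▸ (closure_le _).2 ?_))⟩))
    rintro w (rfl | rfl)
    · exact mem_sup_right h
    · exact mem_sup_left (mem_zpowers w)

namespace Cyc

variable {a b c : G} {n : ℕ}

/-- The central involution of the commutator subgroup. -/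
def zed (c : G) (n : ℕ) : G := c ^ (2 ^ n)

theorem one_iff (h : Cyc a b c n) {x : ℤ} : c ^ x = 1 ↔ (2 : ℤ) ^ (n + 1) ∣ x := by
  rw [← orderOf_dvd_iff_zpow_eq_one, h.ord]; norm_num

theorem zed_mul (h : Cyc a b c n) : zed c n * zed c n = 1 := by
  rw [zed, ← pow_add, ← two_mul, ← pow_succ', ← h.ord]; exact pow_orderOf_eq_one c

theorem zed_ne (h : Cyc a b c n) : zed c n ≠ 1 :=
  pow_ne_one_of_lt_orderOf (by positivity) (by rw [h.ord]; exact Nat.pow_lt_pow_right (by norm_num) (by omega))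

theorem conj_c (h : Cyc a b c n) (g : G) : ∃ r : ℤ, Odd r ∧ g * c * g⁻¹ = c ^ r := by
  have hm : g * c * g⁻¹ ∈ zpowers c := h.com ▸
    (inferInstance : (commutator G).Normal).conj_mem c (h.com ▸ mem_zpowers c) g
  obtain ⟨r, hr⟩ := mem_zpowers_iff.1 hm
  refine ⟨r, ?_, hr.symm⟩
  by_contra hev
  obtain ⟨r', rfl⟩ := Int.not_odd_iff_even.1 hev
  refine h.zed_ne ?_
  have h1 : g * zed c n * g⁻¹ = 1 := by
    rw [zed, ← conj_pow, ← hr, ← zpow_natCast, ← zpow_mul]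
    exact h.one_iff.2 ⟨r', by push_cast; ring⟩
  simpa [mul_inv_eq_one] using h1

theorem zed_comm (h : Cyc a b c n) (g : G) : Commute g (zed c n) := by
  obtain ⟨r, ⟨r', rfl⟩, hr⟩ := h.conj_c g
  refine mul_inv_eq_iff_eq_mul.1 ?_
  rw [zed, ← conj_pow, hr, ← zpow_natCast, ← zpow_mul, ← zpow_natCast c (2 ^ n),
    show (2 * r' + 1) * ((2 ^ n : ℕ) : ℤ) = 2 ^ (n + 1) * r' + ((2 ^ n : ℕ) : ℤ) by push_cast; ring,
    zpow_add, h.one_iff.2 (dvd_mul_right _ _), one_mul]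

theorem c_sq_one (h : Cyc a b c n) {x : ℤ} (hx : c ^ (2 * x) = 1) : c ^ x = 1 ∨ c ^ x = zed c n := by
  have h1 := h.one_iff.1 hx
  rw [pow_succ'] at h1
  obtain ⟨j, hj⟩ := Int.dvd_of_mul_dvd_mul_left two_ne_zero h1
  rw [hj, zpow_mul, show ((2 : ℤ) ^ n) = ((2 ^ n : ℕ) : ℤ) by push_cast; rfl, zpow_natCast]
  refine zpowers_cases_two ?_ (mem_zpowers_iff.2 ⟨j, rfl⟩)
  rw [pow_two]; exact h.zed_mul

/-- Conjugates differ by powers of `c`. -/
theorem conj_eq (h : Cyc a b c n) (g x : G) : ∃ i : ℤ, g * x * g⁻¹ = c ^ i * x := by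
  obtain ⟨i, hi⟩ := mem_zpowers_iff.1 (h.com.le (commutator_mem_commutator (mem_top g) (mem_top x)))
  exact ⟨i, by rw [hi, commutatorElement_def, inv_mul_cancel_right]⟩

/-- The subgroup `⟨a, c⟩`. -/
def base (a c : G) : Subgroup G := zpowers c ⊔ zpowers a

theorem base_normal (h : Cyc a b c n) : (base a c).Normal := ⟨fun x hx g => by
  obtain ⟨i, hi⟩ := h.conj_eq g x
  rw [hi]
  exact mul_mem (mem_sup_left (mem_zpowers_iff.2 ⟨i, rfl⟩)) hx⟩

theorem c_normal (h : Cyc a b c n) : (zpowers c).Normal := h.com ▸ inferInstance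

theorem mem_base (h : Cyc a b c n) {g : G} (hg : g ∈ base a c) : ∃ i e : ℤ, g = c ^ i * a ^ e := by
  haveI := h.c_normal
  obtain ⟨y, hy, z, hz, rfl⟩ := Subgroup.mem_sup_of_normal_left.1 hg
  obtain ⟨i, rfl⟩ := mem_zpowers_iff.1 hy
  obtain ⟨e, rfl⟩ := mem_zpowers_iff.1 hz
  exact ⟨i, e, rfl⟩

theorem decomp (h : Cyc a b c n) (g : G) : ∃ i e l : ℤ, g = c ^ i * a ^ e * b ^ l := by
  haveI := h.base_normal
  have htop : base a c ⊔ zpowers b = ⊤ := eq_top_iff.2 (h.gen ▸ (closure_le _).2 (by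
    rintro w (rfl | rfl)
    · exact mem_sup_left (mem_sup_right (mem_zpowers w))
    · exact mem_sup_right (mem_zpowers w)))
  obtain ⟨y, hy, z, hz, rfl⟩ := Subgroup.mem_sup_of_normal_left.1 (htop.ge (mem_top g))
  obtain ⟨l, rfl⟩ := mem_zpowers_iff.1 hz
  obtain ⟨i, e, rfl⟩ := h.mem_base hy
  exact ⟨i, e, l, rfl⟩

theorem a_zpow_comm (h : Cyc a b c n) {e : ℤ} (he : Even e) : Commute (a ^ e) c := by
  obtain ⟨e, rfl⟩ := he
  rw [← two_mul, zpow_mul, zpow_two]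
  refine Commute.zpow_left ?_ _
  rcases h.aa with h1 | h1 <;> rw [h1]
  · exact Commute.one_left c
  · exact (Commute.refl c).pow_left _

/-- A subgroup has cyclic image modulo `⟨a, c⟩`. -/
theorem exists_gen_mod (h : Cyc a b c n) (C : Subgroup G) :
    ∃ w ∈ C, ∀ x ∈ C, ∃ j : ℤ, x * (w ^ j)⁻¹ ∈ base a c := by
  haveI := h.base_normal
  haveI : IsCyclic (G ⧸ base a c) := by
    refine isCyclic_iff_exists_zpowers_eq_top.2 ⟨QuotientGroup.mk' _ b, eq_top_iff.2 fun q _ => ?_⟩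
    obtain ⟨g, rfl⟩ := QuotientGroup.mk'_surjective _ q
    obtain ⟨i, e, l, rfl⟩ := h.decomp g
    refine mem_zpowers_iff.2 ⟨l, ?_⟩
    have h1 : QuotientGroup.mk' (base a c) (c ^ i * a ^ e) = 1 :=
      (QuotientGroup.eq_one_iff _).2 (mul_mem (mem_sup_left (mem_zpowers_iff.2 ⟨i, rfl⟩))
        (mem_sup_right (mem_zpowers_iff.2 ⟨e, rfl⟩)))
    rw [map_mul _ (c ^ i * a ^ e), h1, one_mul, map_zpow]
  obtain ⟨⟨gw, hgw⟩, hgen⟩ := (Subgroup.isCyclic (C.map (QuotientGroup.mk' (base a c)))).exists_generator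
  obtain ⟨w, hw, rfl⟩ := hgw
  refine ⟨w, hw, fun x hx => ?_⟩
  obtain ⟨j, hj⟩ := mem_zpowers_iff.1 (hgen ⟨_, mem_map_of_mem _ hx⟩)
  refine ⟨j, (QuotientGroup.eq_one_iff _).1 ?_⟩
  show QuotientGroup.mk' (base a c) (x * (w ^ j)⁻¹) = 1
  have hj' : (QuotientGroup.mk' (base a c) w) ^ j = QuotientGroup.mk' (base a c) x :=
    congrArg Subtype.val hj
  rw [map_mul, map_inv, map_zpow, hj', mul_inv_cancel]

/-- An element `c^i a^e b^l` commuting with `a` has even `l` when `c ≠ ±1` modulo the centre. -/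
theorem even_of_comm [Finite G] (h : Cyc a b c n) (hG : IsPGroup 2 G) (hn : n ≤ 1) {i e l : ℤ}
    (hw : Commute a (c ^ i * a ^ e * b ^ l)) : Even l := by
  by_contra hodd
  rw [Int.not_even_iff_odd] at hodd
  -- modulo `⟨c²⟩` the element `c` is central
  set N : Subgroup G := zpowers (c ^ (2 : ℤ)) with hN
  haveI hNn : N.Normal := ⟨fun y hy g => by
    obtain ⟨j, rfl⟩ := mem_zpowers_iff.1 hy
    obtain ⟨r, -, hr⟩ := h.conj_c g
    rw [← zpow_mul, ← conj_zpow, hr, ← zpow_mul]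
    exact mem_zpowers_iff.2 ⟨r * j, by rw [← zpow_mul]; congr 1; ring⟩⟩
  let π := QuotientGroup.mk' N
  have hac : Commute (π a) (π c) := by
    have h1 : π (a * c * a⁻¹) = π c := by
      rw [h.aca, map_inv, inv_eq_iff_mul_eq_one, ← map_mul]
      exact (QuotientGroup.eq_one_iff _).2 (mem_zpowers_iff.2 ⟨1, by rw [zpow_one, zpow_two]⟩)
    rw [map_mul, map_mul, map_inv] at h1
    exact mul_inv_eq_iff_eq_mul.1 h1
  have hl : Commute (π a) (π b ^ l) := by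
    have h2 := hw.map π
    rw [map_mul, map_mul, map_zpow, map_zpow, map_zpow] at h2
    have h3 : Commute (π a) (π c ^ i * π a ^ e) :=
      (hac.zpow_right i).mul_right ((Commute.refl _).zpow_right e)
    have h4 := h3.inv_right.mul_right h2
    rwa [inv_mul_cancel_left] at h4
  have hb : Commute (π a) (π b) := by
    obtain ⟨j, hj⟩ := mem_zpowers_iff.1 (zpowers_zpow_odd (hG.to_quotient N) (π b) hodd)
    rw [← hj]; exact hl.zpow_right j
  have h5 : π c = 1 := by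
    have h6 : π (b * a * b⁻¹) = π a * π c := by rw [h.bab, map_mul]
    rw [map_mul, map_mul, map_inv, ← hb.eq, mul_inv_cancel_right] at h6
    simpa using h6.symm
  obtain ⟨j, hj⟩ := mem_zpowers_iff.1 ((QuotientGroup.eq_one_iff _).1 h5 : c ∈ N)
  rw [← zpow_mul] at hj
  have h7 : (2 : ℤ) ^ (n + 1) ∣ 2 * j - 1 :=
    h.one_iff.1 (by rw [zpow_sub_one, hj, mul_inv_cancel])
  have h8 : (2 : ℤ) ∣ 2 * j - 1 := (dvd_pow_self 2 (by omega)).trans h7
  omega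

end Cyc

end CfsgLib.Bicyclic19
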