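import Cfsg.Agent.Lib.Bicyclic19.ExistsQuat

/-!
# The case of an elementary abelian four group, and the conclusion
-/

set_option autoImplicit false
set_option linter.style.haveILetI false

namespace CfsgLib.Bicyclic19

open Subgroup Cfsg Cfsg.FusionSystem CfsgLib.Fusion

universe u

variable {G : Type u} [Group G] [Finite G] {a b c : G} {n : ℕ}

/-- The case of an abelian centraliser `C(a)`. -/
theorem exists_system_four (hG : IsPGroup 2 G) (h : Cyc a b c n) (ha : a * a = 1)
    (hno : ∀ w : G, Commute a w → w * w ≠ Cyc.zed c n) :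
    ∃ F : FusionSystem (⊤ : Subgroup G), F.IsSaturated 2 ∧
      ¬ ∀ P : Subgroup G, F.Hom P = (innerFusionSystem (⊤ : Subgroup G)).Hom P := by
  haveI := Fact.mk Nat.prime_two
  set z := Cyc.zed c n with hzdef
  have hz : ∀ g : G, Commute g z := h.zed_comm
  have hzz : z * z = 1 := h.zed_mul
  have hzinv : z⁻¹ = z := inv_eq_of_mul_eq_one_right hzz
  have hza : a * z * a⁻¹ = z⁻¹ := by rw [(hz a).eq, mul_inv_cancel_right, hzinv]
  have hz4 : z ^ 4 = 1 := by rw [show 4 = 2 * 2 from rfl, pow_mul, pow_two, pow_two, hzz, one_mul]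
  have hu : a * a = z * z := by rw [ha, hzz]
  have hcF : ∀ i : ℤ, c ^ i ∈ frattini G := fun i =>
    commutator_le_frattini_two hG (h.com ▸ mem_zpowers_iff.2 ⟨i, rfl⟩)
  have hzF : z ∈ frattini G := by
    rw [hzdef, Cyc.zed, ← zpow_natCast]; exact hcF _
  -- the centraliser of `a` in `⟨a, c⟩`
  have hDa : ∀ g ∈ Cyc.base a c, Commute a g → g = 1 ∨ g = z ∨ g = a ∨ g = z * a := by
    intro g hg hag
    obtain ⟨i, e, rfl⟩ := h.mem_base hg
    have h1 : Commute a (c ^ i) := by
      have := hag.mul_right ((Commute.refl a).zpow_right e).inv_right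
      rwa [mul_inv_cancel_right] at this
    have h2 : c ^ i = c ^ (-i) := by
      calc c ^ i = a * c ^ i * a⁻¹ := by rw [h1.eq, mul_inv_cancel_right]
        _ = c ^ (-i) := by rw [← conj_zpow, h.aca, inv_zpow']
    have h3 : c ^ (2 * i) = 1 := by
      rw [two_mul, zpow_add]
      nth_rewrite 1 [h2]
      rw [← zpow_add, neg_add_cancel, zpow_zero]
    have h4 : a ^ e = 1 ∨ a ^ e = a := zpowers_cases_two (by rw [pow_two, ha]) (mem_zpowers_iff.2 ⟨e, rfl⟩)
    rcases h.c_sq_one h3 with h5 | h5 <;> rcases h4 with h6 | h6 <;> rw [h5, h6]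
    · exact Or.inl (one_mul 1)
    · exact Or.inr (Or.inr (Or.inl (one_mul a)))
    · exact Or.inr (Or.inl (mul_one z))
    · exact Or.inr (Or.inr (Or.inr rfl))
  -- the element outside
  obtain ⟨t, ht⟩ : ∃ t : G, t * a * t⁻¹ = a * z := by
    rcases n with _ | m
    · exact ⟨b, by rw [h.bab, hzdef, Cyc.zed, pow_zero, pow_one]⟩
    · refine ⟨c ^ (2 ^ m), ?_⟩
      have h1 : a⁻¹ * c * a = c⁻¹ := by
        rw [show a⁻¹ = a from inv_eq_of_mul_eq_one_right ha]
        nth_rewrite 2 [show a = a⁻¹ from (inv_eq_of_mul_eq_one_right ha).symm]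
        exact h.aca
      calc c ^ (2 ^ m) * a * (c ^ (2 ^ m))⁻¹ = a * ((a⁻¹ * c * a⁻¹⁻¹) ^ (2 ^ m) * (c ^ (2 ^ m))⁻¹) := by
            rw [conj_pow]; group
        _ = a * z := by
          rw [inv_inv, h1, inv_pow, ← mul_inv_rev, ← pow_add, ← two_mul, ← pow_succ', hzdef]
          show a * z⁻¹ = _
          rw [hzinv]
  have haz : a * z ≠ a := fun he => h.zed_ne (mul_eq_left.1 he)
  have htz : t * z * t⁻¹ = z := by rw [(hz t).eq, mul_inv_cancel_right]
  have hmove : ∀ x : G, Commute a x → ∃ y : G, (y = 1 ∨ y = z) ∧ t * x * t⁻¹ = y * x := by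
    intro x hx
    obtain ⟨i, hi⟩ := h.conj_eq t x
    have h1 : Commute (t * a * t⁻¹) (t * x * t⁻¹) := hx.map (MulAut.conj t).toMonoidHom
    rw [ht] at h1
    have h2 : Commute a (t * x * t⁻¹) := by
      have := h1.mul_left (hz (t * x * t⁻¹)).symm.inv_left
      rwa [mul_inv_cancel_right] at this
    have h3 : Commute a (c ^ i) := by
      have := h2.mul_right hx.inv_right
      rwa [hi, mul_inv_cancel_right] at this
    refine ⟨c ^ i, ?_, hi⟩
    rcases hDa _ (mem_sup_left (mem_zpowers_iff.2 ⟨i, rfl⟩)) h3 with h4 | h4 | h4 | h4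
    · exact Or.inl h4
    · exact Or.inr h4
    · exact absurd (h4 ▸ hcF i) h.a_not
    · refine absurd ?_ h.a_not
      have := mul_mem (inv_mem hzF) (h4 ▸ hcF i : z * a ∈ frattini G)
      rwa [inv_mul_cancel_left] at this
  -- the cyclic complement
  obtain ⟨w, hwa, hwfix, hwgen, hwdis⟩ : ∃ w : G, Commute a w ∧ t * w * t⁻¹ = w ∧
      (∀ x, Commute a x → ∃ j : ℤ, x * (w ^ j)⁻¹ ∈ Cyc.base a c) ∧
      ∀ j : ℤ, w ^ j ∈ Cyc.base a c → w ^ j = 1 := by
    obtain ⟨w₀, hw₀, hgen₀⟩ := h.exists_gen_mod (centralizer {a})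
    have hw₀a : Commute a w₀ := (mem_centralizer_singleton_iff.1 hw₀).symm
    have hgen₀' : ∀ x, Commute a x → ∃ j : ℤ, x * (w₀ ^ j)⁻¹ ∈ Cyc.base a c :=
      fun x hx => hgen₀ x (mem_centralizer_singleton_iff.2 hx.symm.eq)
    by_cases hw₀D : w₀ ∈ Cyc.base a c
    · refine ⟨1, Commute.one_right a, by rw [mul_one, mul_inv_cancel], fun x hx => ?_, fun j _ => one_zpow j⟩
      obtain ⟨j, hj⟩ := hgen₀' x hx
      refine ⟨0, ?_⟩
      have := mul_mem hj (zpow_mem hw₀D j)
      rw [inv_mul_cancel_right] at this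
      rwa [zpow_zero, inv_one, mul_one]
    obtain ⟨w, hwa, hwfix, hwgen, hwD⟩ : ∃ w : G, Commute a w ∧ t * w * t⁻¹ = w ∧
        (∀ x, Commute a x → ∃ j : ℤ, x * (w ^ j)⁻¹ ∈ Cyc.base a c) ∧ w ∉ Cyc.base a c := by
      obtain ⟨y, hy, hmv⟩ := hmove w₀ hw₀a
      rcases hy with rfl | rfl
      · exact ⟨w₀, hw₀a, by rw [hmv, one_mul], hgen₀', hw₀D⟩
      · refine ⟨a * w₀, (Commute.refl a).mul_right hw₀a, ?_, fun x hx => ?_, fun hD => hw₀D ?_⟩
        · calc t * (a * w₀) * t⁻¹ = (t * a * t⁻¹) * (t * w₀ * t⁻¹) := by group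
            _ = a * w₀ := by rw [ht, hmv, mul_assoc, ← mul_assoc z, hzz, one_mul]
        · obtain ⟨j, hj⟩ := hgen₀' x hx
          refine ⟨j, ?_⟩
          have h5 := mul_mem hj (inv_mem (mem_sup_right (mem_zpowers_iff.2 ⟨j, rfl⟩) : a ^ j ∈ Cyc.base a c))
          rwa [mul_assoc, ← mul_inv_rev, ← hw₀a.mul_zpow] at h5
        · have := mul_mem (inv_mem (mem_sup_right (mem_zpowers a) : a ∈ Cyc.base a c)) hD
          rwa [inv_mul_cancel_left] at this
    refine ⟨w, hwa, hwfix, hwgen, fun j hj => ?_⟩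
    rcases hDa _ hj (hwa.zpow_right j) with h1 | h1
    · exact h1
    rcases Int.even_or_odd j with ⟨j', rfl⟩ | hodd
    · rcases h1 with h1 | h1 | h1
      · exact absurd (by rw [← zpow_add, h1]) (hno (w ^ j') (hwa.zpow_right j'))
      all_goals
        refine absurd ?_ h.a_not
        have h2 : w ^ (j' + j') ∈ frattini G := by
          rw [← two_mul, mul_comm, zpow_mul, zpow_two, ← pow_two]
          exact CfsgLib.PGroup.pow_mem_frattini hG _
        rw [h1] at h2
        first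
        | exact h2
        | (have h3 := mul_mem (inv_mem hzF) h2; rwa [inv_mul_cancel_left] at h3)
    · exact absurd (zpowers_le.2 hj (zpowers_zpow_odd hG w hodd)) hwD
  set f := quatHom a z hu hz4 hza with hf
  have hfD : ∀ q, f q ∈ Cyc.base a c := by
    intro q
    have hzD : z ∈ Cyc.base a c := mem_sup_left (pow_mem (mem_zpowers c) _)
    cases q with
    | a i => exact pow_mem hzD _
    | xa i => exact mul_mem (mem_sup_right (mem_zpowers a)) (pow_mem hzD _)
  have hwz : ∀ x ∈ zpowers w, Commute a x ∧ Commute z x := by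
    intro x hx
    obtain ⟨j, rfl⟩ := mem_zpowers_iff.1 hx
    exact ⟨hwa.zpow_right j, (hz _).symm⟩
  have hcomm : ∀ q (x : zpowers w), Commute (f q) x :=
    fun q x => quatHom_commute hu hz4 hza (hwz x x.2).1 (hwz x x.2).2 q
  set P : Subgroup G := (f.noncommCoprod (zpowers w).subtype hcomm).range with hPdef
  have hP : ∀ g, g ∈ P ↔ ∃ q, ∃ x ∈ zpowers w, g = f q * x := by
    intro g
    constructor
    · rintro ⟨⟨q, x⟩, rfl⟩
      exact ⟨q, x, x.2, MonoidHom.noncommCoprod_apply ..⟩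
    · rintro ⟨q, x, hx, rfl⟩
      exact ⟨(q, ⟨x, hx⟩), MonoidHom.noncommCoprod_apply ..⟩
  have hfa : f (.xa 0) = a := quatHom_u hu hz4 hza
  have hfz : f (.a 1) = z := quatHom_v hu hz4 hza
  have hPa : ∀ g, g ∈ P ↔ Commute a g := by
    intro g
    constructor
    · intro hg
      obtain ⟨q, x, hx, rfl⟩ := (hP g).1 hg
      exact (quatHom_commute hu hz4 hza (Commute.refl a) (hz a).symm q).symm.mul_right (hwz x hx).1
    · intro hg
      obtain ⟨j, hj⟩ := hwgen g hg
      rw [hP]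
      have hx : w ^ j ∈ zpowers w := mem_zpowers_iff.2 ⟨j, rfl⟩
      rcases hDa _ hj (hg.mul_right (hwz _ hx).1.inv_right) with h1 | h1 | h1 | h1
      · exact ⟨1, _, hx, by rw [map_one, ← h1, inv_mul_cancel_right]⟩
      · exact ⟨.a 1, _, hx, by rw [hfz, ← h1, inv_mul_cancel_right]⟩
      · exact ⟨.xa 0, _, hx, by rw [hfa, ← h1, inv_mul_cancel_right]⟩
      · exact ⟨.a 1 * .xa 0, _, hx, by rw [map_mul, hfz, hfa, ← h1, inv_mul_cancel_right]⟩
  have hker : ∀ q, f q = 1 → q = 1 ∨ q = .a 2 := by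
    intro q hq
    cases q with
    | a i =>
      have h1 : z ^ i.val = 1 := hq
      fin_cases i
      · exact Or.inl rfl
      · exact absurd h1 (by show z ^ 1 ≠ 1; rw [pow_one]; exact h.zed_ne)
      · exact Or.inr rfl
      · exact absurd h1 (by show z ^ 3 ≠ 1; rw [pow_succ, pow_two, hzz, one_mul]; exact h.zed_ne)
    | xa i =>
      have h1 : a * z ^ i.val = 1 := hq
      refine absurd ?_ h.a_not
      rw [eq_inv_of_mul_eq_one_left h1]
      exact inv_mem (pow_mem hzF _)
  have hnorm : ∀ s ∈ normalizer (P : Set G), s ∈ P ∨ t⁻¹ * s ∈ P := by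
    intro s hs
    obtain ⟨i, hi⟩ := h.conj_eq s a
    have h1 : Commute a (c ^ i) := by
      have h2 := (hPa _).1 ((mem_normalizer_iff.1 hs a).1 ((hPa a).2 (Commute.refl a)))
      rw [hi] at h2
      have := h2.mul_right (Commute.refl a).inv_right
      rwa [mul_inv_cancel_right] at this
    rcases hDa _ (mem_sup_left (mem_zpowers_iff.2 ⟨i, rfl⟩)) h1 with h4 | h4 | h4 | h4
    · left
      rw [h4, one_mul] at hi
      exact (hPa s).2 (mul_inv_eq_iff_eq_mul.1 hi).symm
    · right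
      refine (hPa _).2 (Commute.symm ?_)
      refine mul_inv_eq_iff_eq_mul.1 ?_
      rw [h4] at hi
      calc t⁻¹ * s * a * (t⁻¹ * s)⁻¹ = t⁻¹ * (s * a * s⁻¹) * t := by group
        _ = t⁻¹ * (a * z) * t := by rw [hi, (hz a).eq]
        _ = a := by rw [← ht]; group
    · exact absurd (h4 ▸ hcF i) h.a_not
    · refine absurd ?_ h.a_not
      have := mul_mem (inv_mem hzF) (h4 ▸ hcF i : z * a ∈ frattini G)
      rwa [inv_mul_cancel_left] at this
  obtain ⟨d, -⟩ := exists_twist (u := a) (v := z) (t := t) (C := zpowers w) (P := P) hu hz4 hza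
    (fun x hx => (hwz x hx).1) (fun x hx => (hwz x hx).2)
    (fun q hq hne => absurd (by
      obtain ⟨j, hj⟩ := mem_zpowers_iff.1 hq
      rw [← hj]; exact hwdis j (hj ▸ hfD q)) hne)
    hker hP
    (fun s hs => by
      refine h.a_not ?_
      rw [← hs, (hz s).eq, mul_inv_cancel_right]
      exact hzF)
    (ε := 1) (o := 1) (Or.inl rfl) (Or.inl rfl)
    (htz.trans (pow_one z).symm) (ht.trans (by rw [show (1 : ZMod (2 * 2)).val = 1 from rfl, pow_one]))
    (fun x hx => by
      obtain ⟨j, rfl⟩ := mem_zpowers_iff.1 hx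
      left; rw [← conj_zpow, hwfix])
    (fun htP => haz (by rw [← ht, ← ((hPa t).1 htP).eq, mul_inv_cancel_right]))
    (fun g hg => (hPa g).2 (hg a ((hPa a).2 (Commute.refl a))))
    hnorm
  refine d.exists_system (hG.to_subgroup ⊤) (d.small_of_comm fun x hx y hy => ?_)
  obtain ⟨q, x', hx', rfl⟩ := (hP x).1 hx
  obtain ⟨q', y', hy', rfl⟩ := (hP y).1 hy
  have hxx : Commute x' y' := by
    obtain ⟨i, rfl⟩ := mem_zpowers_iff.1 hx'
    obtain ⟨j, rfl⟩ := mem_zpowers_iff.1 hy'
    exact (Commute.refl w).zpow_zpow i j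
  have hqq : Commute (f q) (f q') :=
    quatHom_commute hu hz4 hza
      (quatHom_commute hu hz4 hza (Commute.refl a) (hz a).symm q').symm
      (hz _).symm q
  exact (Commute.mul_left (hqq.mul_right (hcomm q ⟨_, hy'⟩))
    ((hcomm q' ⟨_, hx'⟩).symm.mul_right hxx)).eq

/-- A cyclic commutator subgroup gives a noninner saturated system. -/
theorem exists_noninner_of_cyclic (hG : IsPGroup 2 G) (hb : Bicyclic G) (hnm : ¬ Cfsg.IsMetacyclic G)
    (hcyc : IsCyclic (_root_.commutator G)) :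
    ∃ F : FusionSystem (⊤ : Subgroup G), F.IsSaturated 2 ∧
      ¬ ∀ P : Subgroup G, F.Hom P = (innerFusionSystem (⊤ : Subgroup G)).Hom P := by
  obtain ⟨a, b, c, n, h⟩ := exists_cyc hG hb hnm hcyc
  rcases n with _ | m
  · have ha : a * a = 1 := by
      rcases h.aa with h1 | h1
      · exact h1
      exfalso
      refine hnm (TwoGroups85.isMetacyclic_of_pair h.gen (h.com.le.trans (zpowers_le.2 ?_)))
      rw [show c = a * a by rw [h1, pow_zero, pow_one]]
      exact mul_mem (mem_zpowers a) (mem_zpowers a)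
    refine exists_system_four hG h ha fun w hw hwz => ?_
    have hzc : Cyc.zed c 0 = c := by rw [Cyc.zed, pow_zero, pow_one]
    have hc : ∀ g, Commute g c := fun g => hzc ▸ h.zed_comm g
    have hcc : c * c = 1 := by rw [← hzc]; exact h.zed_mul
    obtain ⟨i, e, l, rfl⟩ := h.decomp w
    obtain ⟨l, rfl⟩ := h.even_of_comm hG zero_le_one hw
    have hab : Commute a (b ^ (l + l)) := by
      rw [← two_mul, zpow_mul]
      refine Commute.zpow_right (Commute.symm (mul_inv_eq_iff_eq_mul.1 ?_)) _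
      rw [zpow_two]
      calc b * b * a * (b * b)⁻¹ = b * (b * a * b⁻¹) * b⁻¹ := by group
        _ = b * (a * c) * b⁻¹ := by rw [h.bab]
        _ = (b * a * b⁻¹) * (b * c * b⁻¹) := by group
        _ = a := by rw [h.bab, (hc b).eq, mul_inv_cancel_right, mul_assoc, hcc, mul_one]
    have hC1 : Commute (c ^ i) (a ^ e * b ^ (l + l)) := ((hc _).symm.zpow_left i)
    have h2c : c ^ i * c ^ i = 1 := by
      rw [← (Commute.refl c).mul_zpow, hcc, one_zpow]
    have h2a : a ^ e * a ^ e = 1 := by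
      rw [← (Commute.refl a).mul_zpow, ha, one_zpow]
    rw [mul_assoc (c ^ i), hC1.symm.mul_mul_mul_comm, h2c, one_mul, (hab.zpow_left e).symm.mul_mul_mul_comm, h2a,
      one_mul, hzc, ← zpow_add] at hwz
    refine hnm (TwoGroups85.isMetacyclic_of_pair (y := b) (w := a) ?_
      (h.com.le.trans (zpowers_le.2 (mem_zpowers_iff.2 ⟨_, hwz⟩))))
    rw [Set.pair_comm]; exact h.gen
  · by_cases hq : a * a = Cyc.zed c (m + 1)
    · refine exists_system_quat hG h rfl hq ?_ (Commute.refl a)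
      rw [← conj_pow, h.aca, inv_pow]
    have ha : a * a = 1 := h.aa.resolve_right hq
    by_cases hw : ∃ w, Commute a w ∧ w * w = Cyc.zed c (m + 1)
    · obtain ⟨w, haw, hww⟩ := hw
      set y := c ^ (2 ^ m) with hy
      have hay : a * y * a⁻¹ = y⁻¹ := by rw [hy, ← conj_pow, h.aca, inv_pow]
      obtain ⟨r, hr, hre⟩ := h.conj_c w
      have hwy : w * y * w⁻¹ = y ∨ w * y * w⁻¹ = y⁻¹ := by
        have hy4 : y ^ 4 = 1 := by
          rw [hy, ← pow_mul, show 2 ^ m * 4 = 2 ^ (m + 1 + 1) by ring, ← h.ord]; exact pow_orderOf_eq_one c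
        obtain ⟨o, ho, he⟩ := zpow_odd_four hy4 hr
        have h1 : w * y * w⁻¹ = y ^ o.val := by
          rw [← he, hy, ← conj_pow, hre, ← zpow_natCast, ← zpow_natCast, ← zpow_mul, ← zpow_mul, mul_comm]
        rcases ho with rfl | rfl
        · left; exact h1.trans (pow_one y)
        · right
          rw [h1]
          refine eq_inv_of_mul_eq_one_left ?_
          rw [← pow_succ]; exact hy4
      rcases hwy with h1 | h1
      · refine exists_system_quat hG h rfl (i0 := a * w) ?_ ?_ ((Commute.refl a).mul_right haw)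
        · rw [haw.symm.mul_mul_mul_comm, ha, one_mul, hww]
        · rw [show a * w * y * (a * w)⁻¹ = a * (w * y * w⁻¹) * a⁻¹ by group, h1, hay]
      · exact exists_system_quat hG h rfl hww h1 haw
    · exact exists_system_four hG h ha fun w h1 h2 => hw ⟨w, h1, h2⟩

end CfsgLib.Bicyclic19
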