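import Cfsg.Agent.Lib.Bicyclic19.Model
import Mathlib.GroupTheory.SpecificGroups.Quaternion
import Mathlib.GroupTheory.NoncommCoprod

/-!
# The automorphism of order three of `Q C` and of `(E₄) C`

For elements `u`, `v` with `u v u⁻¹ = v⁻¹`, `u² = v²`, `v⁴ = 1` and a subgroup `C` centralising
both, the subgroup `⟨u, v⟩ C` has an automorphism `v ↦ u ↦ v u` fixing `C`, and it is inverted
modulo inner automorphisms by every element acting suitably.
-/

set_option autoImplicit false

namespace CfsgLib.Bicyclic19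

open Cfsg Cfsg.FusionSystem CfsgLib.Fusion

/-- The images of the eight elements under the rotation. -/
def rotFun : QuaternionGroup 2 → QuaternionGroup 2
  | .a i => if i = 0 then .a 0 else if i = 1 then .xa 0 else if i = 2 then .a 2 else .xa 2
  | .xa i => if i = 0 then .xa 3 else if i = 1 then .a 3 else if i = 2 then .xa 1 else .a 1

/-- The rotation of the quaternion group. -/
def rotHom : QuaternionGroup 2 →* QuaternionGroup 2 where
  toFun := rotFun
  map_one' := by decide
  map_mul' := by decide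

theorem rot_cube : ∀ q, rotHom (rotHom (rotHom q)) = q := by decide

theorem rot_two : rotHom (.a 2) = .a 2 := by decide

/-- The action of `t` on the eight elements. -/
def actFun (ε o : ZMod (2 * 2)) : QuaternionGroup 2 → QuaternionGroup 2
  | .a i => .a (ε * i)
  | .xa i => .xa (o + ε * i)

set_option synthInstance.maxSize 4096 in
set_option synthInstance.maxHeartbeats 200000 in
set_option maxRecDepth 10000 in
theorem act_rot : ∀ ε o : ZMod (2 * 2), (ε = 1 ∨ ε = 3) → (o = 1 ∨ o = 3) →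
    ∀ δ : QuaternionGroup 2, (δ = 1 ∨ δ = .a 2) →
      ∃ q₀, ∀ q, actFun ε o (rotHom q) * δ = q₀ * rotHom (rotHom (actFun ε o q * δ)) * q₀⁻¹ := by
  decide

theorem act_two : ∀ ε o : ZMod (2 * 2), (ε = 1 ∨ ε = 3) → actFun ε o (.a 2) = .a 2 := by
  decide

variable {G : Type*} [Group G] {u v t : G}

/-- The homomorphism from the quaternion group given by `u` and `v`. -/
def quatHom (u v : G) (hu : u * u = v * v) (hv : v ^ 4 = 1) (huv : u * v * u⁻¹ = v⁻¹) :
    QuaternionGroup 2 →* G :=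
  have hadd : ∀ i j : ZMod (2 * 2), v ^ (i + j).val = v ^ i.val * v ^ j.val := fun i j => by
    rw [← pow_add, ZMod.val_add, ← pow_eq_pow_mod _ hv]
  have hneg : ∀ i : ZMod (2 * 2), v ^ (-i).val = (v ^ i.val)⁻¹ := fun i => by
    refine eq_inv_of_mul_eq_one_left ?_
    rw [← hadd, neg_add_cancel, ZMod.val_zero, pow_zero]
  have hswap : ∀ i : ZMod (2 * 2), v ^ i.val * u = u * v ^ (-i).val := fun i => by
    have h1 : u * (v ^ i.val)⁻¹ * u⁻¹ = v ^ i.val := by
      rw [← conj_inv, ← conj_pow, huv, inv_pow, inv_inv]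
    rw [hneg]
    exact (eq_mul_inv_iff_mul_eq.mp h1.symm)
  { toFun := fun q => match q with
      | .a i => v ^ i.val
      | .xa i => u * v ^ i.val
    map_one' := pow_zero v
    map_mul' := by
      rintro (i | i) (j | j)
      · exact hadd i j
      · show u * v ^ (j - i).val = v ^ i.val * (u * v ^ j.val)
        rw [← mul_assoc, hswap, mul_assoc, ← hadd, neg_add_eq_sub]
      · show u * v ^ (i + j).val = u * v ^ i.val * v ^ j.val
        rw [hadd, mul_assoc]
      · show v ^ ((2 : ℕ) + j - i : ZMod (2 * 2)).val = u * v ^ i.val * (u * v ^ j.val)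
        rw [mul_assoc, ← mul_assoc (v ^ i.val), hswap, ← mul_assoc, ← mul_assoc, hu, mul_assoc _ (v ^ (-i).val),
          ← hadd, show ((2 : ℕ) + j - i : ZMod (2 * 2)) = 2 + (-i + j) by push_cast; ring, hadd]
        congr 1
        exact pow_two v }

section

variable (hu : u * u = v * v) (hv : v ^ 4 = 1) (huv : u * v * u⁻¹ = v⁻¹)

theorem quatHom_a (i : ZMod (2 * 2)) : quatHom u v hu hv huv (.a i) = v ^ i.val := rfl

theorem quatHom_xa (i : ZMod (2 * 2)) : quatHom u v hu hv huv (.xa i) = u * v ^ i.val := rfl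

theorem quatHom_v : quatHom u v hu hv huv (.a 1) = v := pow_one v

theorem quatHom_u : quatHom u v hu hv huv (.xa 0) = u := by rw [quatHom_xa, ZMod.val_zero, pow_zero, mul_one]

theorem quatHom_two : quatHom u v hu hv huv (.a 2) = v ^ 2 := rfl

theorem quatHom_act {ε o : ZMod (2 * 2)} (htv : t * v * t⁻¹ = v ^ ε.val)
    (htu : t * u * t⁻¹ = u * v ^ o.val) (q : QuaternionGroup 2) :
    t * quatHom u v hu hv huv q * t⁻¹ = quatHom u v hu hv huv (actFun ε o q) := by
  have hp : ∀ i : ZMod (2 * 2), t * v ^ i.val * t⁻¹ = v ^ (ε * i).val := fun i => by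
    rw [← conj_pow, htv, ← pow_mul, ZMod.val_mul, ← pow_eq_pow_mod _ hv]
  cases q with
  | a i => exact hp i
  | xa i =>
    show t * (u * v ^ i.val) * t⁻¹ = u * v ^ (o + ε * i).val
    rw [show t * (u * v ^ i.val) * t⁻¹ = (t * u * t⁻¹) * (t * v ^ i.val * t⁻¹) by group, hp, htu,
      ZMod.val_add, ← pow_eq_pow_mod _ hv, pow_add, mul_assoc]

theorem quatHom_commute {x : G} (h₁ : Commute u x) (h₂ : Commute v x) (q : QuaternionGroup 2) :
    Commute (quatHom u v hu hv huv q) x := by
  cases q with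
  | a i => exact h₂.pow_left _
  | xa i => exact h₁.mul_left (h₂.pow_left _)

end

/-- The system on `⟨u, v⟩ C`. -/
theorem exists_twist [Finite G] {u v t : G} {C P : Subgroup G} (hu : u * u = v * v) (hv : v ^ 4 = 1)
    (huv : u * v * u⁻¹ = v⁻¹) (hCu : ∀ x ∈ C, Commute u x) (hCv : ∀ x ∈ C, Commute v x)
    (hkey : ∀ q, quatHom u v hu hv huv q ∈ C → quatHom u v hu hv huv q ≠ 1 → q = .a 2)
    (hker : ∀ q, quatHom u v hu hv huv q = 1 → q = 1 ∨ q = .a 2)
    (hP : ∀ g, g ∈ P ↔ ∃ q, ∃ x ∈ C, g = quatHom u v hu hv huv q * x)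
    (hmoved : ∀ s : G, s * v * s⁻¹ ≠ u)
    {ε o : ZMod (2 * 2)} (hε : ε = 1 ∨ ε = 3) (ho : o = 1 ∨ o = 3)
    (htv : t * v * t⁻¹ = v ^ ε.val) (htu : t * u * t⁻¹ = u * v ^ o.val)
    (htC : ∀ x ∈ C, t * x * t⁻¹ = x ∨ t * x * t⁻¹ = v ^ 2 * x)
    (htP : t ∉ P) (hcen : ∀ g, (∀ x ∈ P, x * g = g * x) → g ∈ P)
    (hnorm : ∀ s ∈ Subgroup.normalizer (P : Set G), s ∈ P ∨ t⁻¹ * s ∈ P) :
    ∃ d : Data (⊤ : Subgroup G) P,
      ∀ x : P, ((d.α x : P) : G) = v ^ 2 ↔ (x : G) = v ^ 2 := by
  classical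
  set f := quatHom u v hu hv huv with hf
  let π₀ : QuaternionGroup 2 × C →* G :=
    f.noncommCoprod C.subtype fun q x => quatHom_commute hu hv huv (hCu x x.2) (hCv x x.2) q
  have hπ₀ : ∀ q (x : C), π₀ (q, x) = f q * (x : G) := fun q x => MonoidHom.noncommCoprod_apply ..
  let π : QuaternionGroup 2 × C →* P := π₀.codRestrict P fun m => (hP _).mpr ⟨m.1, m.2, m.2.2, hπ₀ _ _⟩
  have hπ : Function.Surjective π := by
    rintro ⟨g, hg⟩
    obtain ⟨q, x, hx, rfl⟩ := (hP g).mp hg
    exact ⟨(q, ⟨x, hx⟩), Subtype.ext (hπ₀ _ _)⟩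
  let Θ : QuaternionGroup 2 × C →* QuaternionGroup 2 × C := rotHom.prodMap (MonoidHom.id C)
  have hkle : π.ker ≤ (π.comp Θ).ker := by
    rintro ⟨q, x⟩ hm
    have h0 : f q * (x : G) = 1 := by rw [← hπ₀]; exact congrArg Subtype.val hm
    have hfix : rotHom q = q := by
      by_cases h1 : f q = 1
      · rcases hker q h1 with rfl | rfl
        · exact map_one _
        · exact rot_two
      · rw [hkey q (by rw [eq_inv_of_mul_eq_one_left h0]; exact C.inv_mem x.2) h1]
        exact rot_two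
    show π (rotHom q, x) = 1
    rw [hfix]; exact hm
  let β : P →* P := π.liftOfSurjective hπ ⟨π.comp Θ, hkle⟩
  have hβ : ∀ m, β (π m) = π (Θ m) := fun m =>
    MonoidHom.liftOfRightInverse_comp_apply π _ _ _ m
  have hβ3 : ∀ w, β (β (β w)) = w := fun w => by
    obtain ⟨⟨q, x⟩, rfl⟩ := hπ w
    rw [hβ, hβ, hβ]
    show π (rotHom (rotHom (rotHom q)), x) = _
    rw [rot_cube]
  let α : MulAut P := MonoidHom.toMulEquiv β (β.comp β) (MonoidHom.ext hβ3) (MonoidHom.ext hβ3)
  have hα : ∀ m, α (π m) = π (Θ m) := hβ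
  have hact := fun q => quatHom_act hu hv huv htv htu q
  have hv2 : f (.a 2) = v ^ 2 := quatHom_two hu hv huv
  have htN : t ∈ Subgroup.normalizer (P : Set G) := by
    refine mem_normalizer_of_forall fun g hg => ?_
    obtain ⟨q, x, hx, rfl⟩ := (hP g).mp hg
    rw [show t * (f q * x) * t⁻¹ = (t * f q * t⁻¹) * (t * x * t⁻¹) by group, hact q]
    rcases htC x hx with h | h <;> rw [h]
    · exact (hP _).mpr ⟨_, x, hx, rfl⟩
    · rw [← hv2, ← mul_assoc, ← map_mul]
      exact (hP _).mpr ⟨_, x, hx, rfl⟩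
  obtain ⟨τ, -, hτ⟩ := exists_autInducedBy (K := (⊤ : Subgroup G)) (Subgroup.mem_top t) htN
  refine ⟨{ le := le_top
            cen := fun g hg => hcen g hg.2
            t := t
            ht := ⟨Subgroup.mem_top t, htN⟩
            htP := htP
            norm := fun s hs => hnorm s hs.2
            α := α
            cube := ?_
            τ := τ
            hτ := hτ
            inv := ?_
            moved := ?_ }, ?_⟩
  · refine MulEquiv.ext fun w => ?_
    rw [pow_succ, pow_two, MulAut.mul_apply, MulAut.mul_apply, MulAut.one_apply]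
    exact hβ3 w
  · -- on `Q C` both sides are given by the action on the eight elements
    have key : ∀ w : P, ∀ δ : QuaternionGroup 2, ∀ q (x : C), w = π (q, x) →
        (δ = 1 ∨ δ = .a 2) → t * (x : G) * t⁻¹ = f δ * x →
          τ w = π (actFun ε o q * δ, x) := by
      rintro w δ q x rfl _ h
      refine Subtype.ext ?_
      rw [hτ]
      show t * π₀ (q, x) * t⁻¹ = π₀ (_, x)
      rw [hπ₀, hπ₀, map_mul, mul_assoc (f _), ← h, hf, ← hact q]
      group
    obtain ⟨q₀, hq₀⟩ := act_rot ε o hε ho 1 (Or.inl rfl)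
    have hw : ∀ w', τ (α w') = π (q₀, 1) * α (α (τ w')) * (π (q₀, 1))⁻¹ := by
      intro w'
      obtain ⟨⟨q, x⟩, rfl⟩ := hπ w'
      rcases htC x x.2 with hx | hx
      · rw [hα, show Θ (q, x) = (rotHom q, x) from rfl, key _ 1 _ x rfl (Or.inl rfl) (by rw [map_one, one_mul]; exact hx),
          key _ 1 _ x rfl (Or.inl rfl) (by rw [map_one, one_mul]; exact hx), hα, hα, ← map_inv,
          ← map_mul, ← map_mul]
        refine congrArg π (Prod.ext (hq₀ q) ?_)
        simp [Θ]
      · rw [hα, show Θ (q, x) = (rotHom q, x) from rfl, key _ (.a 2) _ x rfl (Or.inr rfl) (by rw [hv2]; exact hx),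
          key _ (.a 2) _ x rfl (Or.inr rfl) (by rw [hv2]; exact hx), hα, hα, ← map_inv,
          ← map_mul, ← map_mul]
        refine congrArg π (Prod.ext ?_ ?_)
        · show actFun ε o (rotHom q) * .a 2 = q₀ * rotHom (rotHom (actFun ε o q * .a 2)) * q₀⁻¹
          have h2 := hq₀ q
          rw [mul_one, mul_one] at h2
          rw [h2, map_mul, map_mul, rot_two, rot_two]
          have hc : ∀ a b : QuaternionGroup 2, a * b * a⁻¹ * .a 2 = a * (b * .a 2) * a⁻¹ := by decide
          exact hc _ _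
        · simp [Θ]
    refine mem_inn.mpr ⟨π (q₀, 1), fun w => ?_⟩
    show τ (α (τ⁻¹ (α w))) = _
    rw [hw, MulAut.apply_inv_self]
    exact congrArg (fun y => π (q₀, 1) * y * (π (q₀, 1))⁻¹) (hβ3 w)
  · intro h
    obtain ⟨s, -, hs⟩ := mem_autInducedBy.mp h
    refine hmoved s ?_
    have h1 := hs (π (.a 1, 1))
    rw [hα] at h1
    change π₀ (rotHom (.a 1), 1) = s * π₀ (.a 1, 1) * s⁻¹ at h1
    rw [hπ₀, hπ₀, show rotHom (.a 1) = .xa 0 by decide] at h1
    rw [quatHom_v, quatHom_u] at h1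
    simpa using h1.symm
  · intro x
    have hz : α (π (.a 2, 1)) = π (.a 2, 1) := by
      rw [hα]
      show π (rotHom (.a 2), 1) = _
      rw [rot_two]
    have hval : ((π (.a 2, 1) : P) : G) = v ^ 2 := by
      show π₀ _ = _
      rw [hπ₀, hv2]; exact mul_one _
    constructor
    · intro h
      have : α x = π (.a 2, 1) := Subtype.ext (h.trans hval.symm)
      rw [← hz] at this
      rw [α.injective this, hval]
    · intro h
      rw [show x = π (.a 2, 1) from Subtype.ext (h.trans hval.symm), hz, hval]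

end CfsgLib.Bicyclic19
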