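import Mathlib
import Cfsg.Agent.Lib.Bicyclic19.Twist
import Cfsg.Agent.Lib.Fusion.Transport

/-!
# Auxiliary facts for the construction of the system

Automorphisms fixing `q²` of an abelian 2-group `⟨q, w⟩` form a 2-group; systems over the top
subgroup of `S` give systems over `S`; maps respecting a central element form a system.
-/

set_option autoImplicit false
set_option linter.style.haveILetI false

namespace CfsgLib.Bicyclic19

open Cfsg Cfsg.FusionSystem CfsgLib.Fusion CfsgLib.FusionNormal CfsgLib.FusionTransport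

theorem isPGroup_of_fix {Q : Type*} [Group Q] [Finite Q] (hQ : IsPGroup 2 Q) {q w : Q} (hqw : Commute q w)
    (hgen : ∀ x : Q, ∃ i j : ℤ, x = q ^ i * w ^ j) (hz : q * q ≠ 1) (hz2 : (q * q) * (q * q) = 1)
    (A : Subgroup (MulAut Q)) (hA : ∀ β ∈ A, β (q * q) = q * q) : IsPGroup 2 A := by
  classical
  have := Fintype.ofFinite Q
  letI : CommGroup Q :=
    { (inferInstance : Group Q) with
      mul_comm := fun x y => by
        obtain ⟨i, j, rfl⟩ := hgen x
        obtain ⟨k, l, rfl⟩ := hgen y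
        exact (((Commute.refl q).zpow_zpow i k).mul_right (hqw.zpow_zpow i l)).mul_left
          ((hqw.symm.zpow_zpow j k).mul_right ((Commute.refl w).zpow_zpow j l)) }
  set sq : Q →* Q := powMonoidHom 2 with hsq
  have hker4 : Nat.card sq.ker ≤ 4 := by
    have h1 : Nat.card sq.ker = sq.range.index := by
      have h2 := sq.ker.card_mul_index
      rw [Subgroup.index_ker, ← sq.range.card_mul_index, mul_comm] at h2
      exact Nat.eq_of_mul_eq_mul_left Nat.card_pos h2
    rw [h1, Subgroup.index_eq_card]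
    refine (Nat.card_le_card_of_surjective
      (fun e : Bool × Bool => (((if e.1 then q else 1) * (if e.2 then w else 1) : Q) : Q ⧸ sq.range)) ?_).trans
      (by simp)
    intro y
    obtain ⟨x, rfl⟩ := QuotientGroup.mk'_surjective _ y
    obtain ⟨i, j, rfl⟩ := hgen x
    refine ⟨(decide (i % 2 = 1), decide (j % 2 = 1)), ?_⟩
    show ((_ : Q) : Q ⧸ sq.range) = ((q ^ i * w ^ j : Q) : Q ⧸ sq.range)
    rw [QuotientGroup.eq]
    refine ⟨q ^ (i / 2) * w ^ (j / 2), ?_⟩
    have hi : ∀ (x : Q) (m : ℤ), (if decide (m % 2 = 1) then x else 1) * (x ^ (m / 2)) ^ 2 = x ^ m := by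
      intro x m
      rw [← zpow_natCast, ← zpow_mul]
      rcases Int.emod_two_eq_zero_or_one m with h | h <;> simp only [h, decide_true, decide_false, if_true, if_false,
        zero_ne_one, Bool.false_eq_true, one_mul]
      · congr 1; omega
      · rw [← zpow_one_add]; congr 1; omega
    show (q ^ (i / 2) * w ^ (j / 2)) ^ 2 = _
    rw [← hi q i, ← hi w j, mul_pow]
    generalize (if decide (i % 2 = 1) then q else 1) = A'
    generalize (if decide (j % 2 = 1) then w else 1) = B'
    rw [mul_inv_rev]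
    calc (q ^ (i / 2)) ^ 2 * (w ^ (j / 2)) ^ 2
        = (A'⁻¹ * A') * (B'⁻¹ * B') * ((q ^ (i / 2)) ^ 2 * (w ^ (j / 2)) ^ 2) := by simp
      _ = _ := by ac_rfl
  have hodd : ∀ β ∈ A, Odd (orderOf β) → β = 1 := by
    intro β hβ hm
    obtain ⟨k, hk⟩ := hm
    have hsqr : ∀ x : Q, β (β x) = x → β x = x := by
      intro x hx
      have h1 : ∀ m : ℕ, (β ^ (2 * m)) x = x := by
        intro m
        induction m with
        | zero => rfl
        | succ m ih => rw [Nat.mul_succ, pow_succ, pow_succ, MulAut.mul_apply, MulAut.mul_apply, hx, ih]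
      calc β x = (β ^ (2 * k + 1)) (β x) := by rw [← hk, pow_orderOf_eq_one]; rfl
        _ = (β ^ (2 * k)) (β (β x)) := by rw [pow_succ, MulAut.mul_apply]
        _ = x := by rw [hx, h1]
    have homega : ∀ x : Q, x ^ 2 = 1 → β x = x := by
      intro x hx
      by_cases hx1 : x = 1
      · rw [hx1, map_one]
      by_cases hxz : x = q * q
      · rw [hxz, hA β hβ]
      have hmem : β x = x ∨ β x = x * (q * q) := by
        by_contra hne
        rw [not_or] at hne
        have hnd : [1, q * q, x, x * (q * q), β x].Nodup := by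
          have hb1 : β x ≠ 1 := fun h => hx1 (β.injective (by rw [h, map_one]))
          have hbz : β x ≠ q * q := fun h => hxz (β.injective (by rw [h, hA β hβ]))
          have e1 : x * (q * q) ≠ 1 := fun h => hxz (mul_right_cancel (h.trans hz2.symm))
          have e2 : x * (q * q) ≠ q * q := fun h => hx1 (mul_eq_right.1 h)
          have e3 : x * (q * q) ≠ x := fun h => hz (mul_eq_left.1 h)
          simp [Ne.symm hz, Ne.symm hx1, Ne.symm hxz, Ne.symm hb1, Ne.symm hbz, Ne.symm e1, Ne.symm e2,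
            Ne.symm e3, Ne.symm hne.1, Ne.symm hne.2]
        have hsub : ∀ y ∈ [1, q * q, x, x * (q * q), β x], y ∈ sq.ker := by
          intro y hy
          show y ^ 2 = 1
          simp only [List.mem_cons, List.not_mem_nil, or_false] at hy
          rcases hy with rfl | rfl | rfl | rfl | rfl
          · exact one_pow 2
          · rw [pow_two]; exact hz2
          · exact hx
          · rw [mul_pow, hx, one_mul, pow_two]; exact hz2
          · rw [← map_pow, hx, map_one]
        have h5 : 5 ≤ Nat.card sq.ker := by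
          rw [Nat.card_eq_fintype_card]
          have := List.Nodup.length_le_card (α := sq.ker)
            (hnd.pmap (f := fun y hy => (⟨y, hy⟩ : sq.ker)) (H := hsub) fun _ _ _ _ h => congrArg Subtype.val h)
          simpa using this
        omega
      refine hsqr x ?_
      rcases hmem with h | h
      · rw [h, h]
      · rw [h, map_mul, h, hA β hβ, mul_assoc, hz2, mul_one]
    refine MulEquiv.ext fun x => ?_
    obtain ⟨m, hm⟩ := hQ x
    show β x = x
    clear * - hm homega hsqr
    induction m generalizing x with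
    | zero => rw [pow_zero, pow_one] at hm; rw [hm, map_one]
    | succ m ih =>
      have h1 : β (x ^ 2) = x ^ 2 := ih _ (by rw [← pow_mul, ← pow_succ']; exact hm)
      have he : β (x⁻¹ * β x) = x⁻¹ * β x := by
        refine homega _ ?_
        rw [mul_pow, inv_pow, ← map_pow, h1, inv_mul_cancel]
      refine hsqr x ?_
      have h2 : (x⁻¹ * β x) * (x⁻¹ * β x) = 1 := by
        rw [← pow_two, mul_pow, inv_pow, ← map_pow, h1, inv_mul_cancel]
      have h4 : β (β x) = β x * (x⁻¹ * β x) := by
        conv_rhs => rw [← he, ← map_mul, mul_inv_cancel_left]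
      rw [h4]
      calc β x * (x⁻¹ * β x) = x * ((x⁻¹ * β x) * (x⁻¹ * β x)) := by
            rw [← mul_assoc x, mul_inv_cancel_left]
        _ = x := by rw [h2, mul_one]
  intro β
  obtain ⟨e, m, hm, he⟩ := Nat.exists_eq_two_pow_mul_odd (orderOf_pos β).ne'
  refine ⟨e, Subtype.ext ?_⟩
  refine hodd _ (β ^ 2 ^ e).2 ?_
  have h1 : orderOf ((β : MulAut Q) ^ 2 ^ e) = m := by
    rw [orderOf_pow_of_dvd (by positivity) (by rw [Subgroup.orderOf_coe, he]; exact dvd_mul_right _ _),
      Subgroup.orderOf_coe, he, Nat.mul_div_cancel_left _ (by positivity)]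
  rw [Subgroup.coe_pow, h1]; exact hm

variable {G : Type*} [Group G]

/-- The system of maps respecting `z`. -/
def respectSys (z : G) (hz : z ∈ Subgroup.center G) : FusionSystem (⊤ : Subgroup G) where
  Hom R := {φ | Function.Injective φ ∧ ∀ x : R, φ x = z ↔ (x : G) = z}
  le_of_mem _ := ⟨le_top, fun _ => Subgroup.mem_top _⟩
  injective_of_mem h := h.1
  conj_mem := by
    intro R g _ _
    refine ⟨fun a b e => Subtype.ext (mul_left_cancel (mul_right_cancel e)), fun x => ?_⟩
    show g * (x : G) * g⁻¹ = z ↔ _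
    rw [mul_inv_eq_iff_eq_mul, ← Subgroup.mem_center_iff.1 hz g, mul_left_cancel_iff]
  comp_mem := by
    intro P Q φ ψ hφ hψ h
    exact ⟨hψ.1.comp fun a b e => hφ.1 (congrArg Subtype.val e),
      fun x => (hψ.2 ⟨φ x, h x⟩).trans (hφ.2 x)⟩
  inv_mem := by
    intro P φ hφ
    let ψ : φ.range →* G := P.subtype.comp (MonoidHom.ofInjective hφ.1).symm.toMonoidHom
    have hψ : ∀ x : P, ψ ⟨φ x, ⟨x, rfl⟩⟩ = (x : G) := fun x => by
      show (((MonoidHom.ofInjective hφ.1).symm ⟨φ x, ⟨x, rfl⟩⟩ : P) : G) = x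
      congr 1
      exact (MulEquiv.symm_apply_eq _).mpr (Subtype.ext rfl)
    refine ⟨ψ, ⟨Subtype.val_injective.comp (MulEquiv.injective _), ?_⟩, hψ⟩
    rintro ⟨_, x, rfl⟩
    rw [hψ]
    exact (hφ.2 x).symm

/-- From the top subgroup of `↥S` to `S`. -/
theorem transfer {Ω : Type*} [Group Ω] {S : Subgroup Ω} [Finite S] (hS : IsPGroup 2 S)
    {X : FusionSystem (⊤ : Subgroup S)} (hX : X.IsSaturated 2)
    (hne : ¬ ∀ P, X.Hom P = (innerFusionSystem (⊤ : Subgroup S)).Hom P) :
    ∃ F : FusionSystem S, F.IsSaturated 2 ∧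
      ¬ ∀ P : Subgroup Ω, F.Hom P = (innerFusionSystem S).Hom P := by
  haveI := Fact.mk Nat.prime_two
  let θ : (⊤ : Subgroup S) →* Ω := S.subtype.comp (⊤ : Subgroup S).subtype
  have hθ : Function.Injective θ := Subtype.val_injective.comp Subtype.val_injective
  obtain ⟨e, -⟩ := exists_emb_of_hom θ hθ
  have himg : e.img ⊤ = S := by
    rw [e.img_self]
    ext x
    exact ⟨fun ⟨y, hy⟩ => hy ▸ (y : S).2, fun hx => ⟨⟨⟨x, hx⟩, Subgroup.mem_top _⟩, rfl⟩⟩
  suffices key : ∀ (U : Subgroup Ω) (Y : FusionSystem U), U = S → Y.IsSaturated 2 → Rel e X Y →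
      ∃ F : FusionSystem S, F.IsSaturated 2 ∧
        ¬ ∀ P : Subgroup Ω, F.Hom P = (innerFusionSystem S).Hom P from
    key _ _ himg ((rel_sys e X le_rfl).isSaturated (hS.to_subgroup ⊤) hX) (rel_sys e X le_rfl)
  rintro U Y rfl hY hrel
  refine ⟨Y, hY, fun hall => hne fun P => Set.Subset.antisymm (fun φ hφ => ?_) (inner_le X P)⟩
  obtain ⟨k, hk, hke⟩ := mapFn_of_hom hφ
  obtain ⟨ψ, hψ, hψe⟩ := hrel.fwd hk
  rw [hall] at hψ
  obtain ⟨-, s, hs, hse⟩ := hψ
  have hs' : s ∈ e.img ⊤ := himg.symm ▸ hs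
  refine ⟨le_top, e.g s, Subgroup.mem_top _, fun x => ?_⟩
  have hx : e.f (x : U) ∈ e.img P := e.f_mem_img le_top x.2
  have h1 := (hψe ⟨_, hx⟩).symm.trans (hse ⟨_, hx⟩)
  change e.f (k (e.g (e.f x))) = s * e.f x * s⁻¹ at h1
  rw [e.gf _ (Subgroup.mem_top _)] at h1
  rw [hke]
  refine e.f_inj (Subgroup.mem_top _) (Subgroup.mem_top _) ?_
  rw [h1, e.f_conj (Subgroup.mem_top _) (Subgroup.mem_top _), e.fg s hs'.1]

end CfsgLib.Bicyclic19
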