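import Cfsg.Agent.Lib.Bicyclic19.Cyclic
import Cfsg.Agent.Lib.Bicyclic19.SmallAut

/-!
# A noninner saturated system when the commutator subgroup is cyclic
-/

set_option autoImplicit false
set_option linter.style.haveILetI false

namespace CfsgLib.Bicyclic19

open Subgroup Cfsg Cfsg.FusionSystem CfsgLib.Fusion

universe u

variable {G : Type u} [Group G] [Finite G] {a b c : G} {n : ℕ}

omit [Finite G] in
theorem zpow_odd_four {v : G} (hv : v ^ 4 = 1) {j : ℤ} (hj : Odd j) :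
    ∃ o : ZMod (2 * 2), (o = 1 ∨ o = 3) ∧ v ^ j = v ^ o.val := by
  have h4 : v ^ (4 : ℤ) = 1 := by exact_mod_cast hv
  obtain ⟨k, rfl⟩ := hj
  rcases Int.even_or_odd k with ⟨m, rfl⟩ | ⟨m, rfl⟩
  · refine ⟨1, Or.inl rfl, ?_⟩
    rw [show 2 * (m + m) + 1 = 4 * m + 1 by ring, zpow_add, zpow_mul, h4, one_zpow, one_mul, zpow_one]
    exact (pow_one v).symm
  · refine ⟨3, Or.inr rfl, ?_⟩
    rw [show 2 * (2 * m + 1) + 1 = 4 * m + 3 by ring, zpow_add, zpow_mul, h4, one_zpow, one_mul]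
    exact_mod_cast (rfl : v ^ 3 = v ^ 3)

theorem quat_gen : ∀ q q' : QuaternionGroup 2, q = 1 ∨ q = .a 2 ∨
    (q' = 1 ∨ q' = q ∨ q' = q * q ∨ q' = q * q * q) ∨
    ∀ r, ∃ i j : Fin 4, r = q ^ (i : ℕ) * q' ^ (j : ℕ) := by decide

theorem quat_sq : ∀ q : QuaternionGroup 2, q = 1 ∨ q = .a 2 ∨ q * q = .a 2 := by decide

theorem center_four : ∀ q : QuaternionGroup 2, q * .xa 0 = .xa 0 * q → q * .a 1 = .a 1 * q → q = 1 ∨ q = .a 2 := by
  decide

/-- The case of a quaternion subgroup. -/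
theorem exists_system_quat (hG : IsPGroup 2 G) (h : Cyc a b c n) {m : ℕ} (hnm : n = m + 1) {i0 : G}
    (hsq : i0 * i0 = Cyc.zed c n) (hy : i0 * c ^ (2 ^ m) * i0⁻¹ = (c ^ (2 ^ m))⁻¹) (hia : Commute a i0) :
    ∃ F : FusionSystem (⊤ : Subgroup G), F.IsSaturated 2 ∧
      ¬ ∀ P : Subgroup G, F.Hom P = (innerFusionSystem (⊤ : Subgroup G)).Hom P := by
  haveI := Fact.mk Nat.prime_two
  set v := c ^ (2 ^ m) with hvdef
  set z := Cyc.zed c n with hzdef
  have hv2 : v ^ 2 = z := by rw [hvdef, hzdef, Cyc.zed, ← pow_mul, hnm, pow_succ]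
  have hv4 : v ^ 4 = 1 := by rw [show 4 = 2 * 2 from rfl, pow_mul, hv2, pow_two]; exact h.zed_mul
  have hu : i0 * i0 = v * v := by rw [hsq, ← hv2, pow_two]
  have hvne : v * v ≠ 1 := by rw [← pow_two, hv2]; exact h.zed_ne
  have hvz : ∀ {j : ℤ}, Odd j → v ^ j ≠ 1 := by
    intro j hj hone
    obtain ⟨o, ho, he⟩ := zpow_odd_four hv4 hj
    rw [he] at hone
    rcases ho with rfl | rfl
    · exact hvne (by rw [show v = 1 from (pow_one v).symm.trans hone, one_mul])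
    · have h3 : v ^ 3 = 1 := hone
      have : v = 1 := by
        calc v = v ^ 4 * (v ^ 3)⁻¹ := by group
          _ = 1 := by rw [hv4, h3, inv_one, one_mul]
      exact hvne (by rw [this, one_mul])
  have hconjv : ∀ g : G, ∃ j : ℤ, Odd j ∧ g * v * g⁻¹ = v ^ j := by
    intro g
    obtain ⟨r, hr, hre⟩ := h.conj_c g
    exact ⟨r, hr, by rw [hvdef, ← conj_pow, hre, ← zpow_natCast, ← zpow_natCast, ← zpow_mul, ← zpow_mul, mul_comm]⟩
  have hnotcomm : ¬ Commute i0 v := fun hc => by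
    rw [hc.eq, mul_inv_cancel_right] at hy
    exact hvne (mul_eq_one_iff_eq_inv.2 hy)
  -- the exponent of `i0` on `c`
  obtain ⟨k, hk, hke⟩ := h.conj_c i0
  have hk3 : ∃ o : ℤ, Odd o ∧ k - 1 = 2 * o := by
    have h1 : c ^ ((k + 1) * (2 ^ m : ℕ)) = 1 := by
      rw [zpow_mul, zpow_add_one, ← hke, zpow_natCast, ((?_ : Commute (i0 * c * i0⁻¹) c)).mul_pow, conj_pow,
        ← hvdef, hy, inv_mul_cancel]
      rw [hke]; exact (Commute.refl c).zpow_left k
    have h2 := h.one_iff.1 h1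
    rw [hnm, show ((2 ^ m : ℕ) : ℤ) = 2 ^ m by push_cast; rfl,
      show (2 : ℤ) ^ (m + 1 + 1) = 2 ^ m * 4 by ring, mul_comm (k + 1)] at h2
    obtain ⟨d, hd⟩ := Int.dvd_of_mul_dvd_mul_left (by positivity) h2
    exact ⟨2 * d - 1, ⟨d - 1, by ring⟩, by linarith⟩
  obtain ⟨o, ho, hko⟩ := hk3
  have hfix : ∀ j : ℤ, i0 * c ^ j * i0⁻¹ = c ^ j → c ^ j = 1 ∨ c ^ j = z := by
    intro j hj
    rw [← conj_zpow, hke, ← zpow_mul] at hj
    refine h.c_sq_one (h.one_iff.2 (two_pow_dvd_of_odd_mul ho ?_))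
    rw [show 2 * j * o = k * j - j by linear_combination (-j) * hko]
    exact h.one_iff.1 (by rw [zpow_sub, hj, mul_inv_cancel])
  set C : Subgroup G := centralizer {i0, v} with hCdef
  have hCmem : ∀ {x : G}, x ∈ C ↔ Commute i0 x ∧ Commute v x := fun {x} =>
    ⟨fun hx => ⟨hx i0 (by simp), hx v (by simp)⟩, fun hx g hg => by
      rcases hg with rfl | rfl
      · exact hx.1
      · exact hx.2⟩
  set f := quatHom i0 v hu hv4 hy with hf
  have hcomm : ∀ q (x : C), Commute (f q) x :=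
    fun q x => quatHom_commute hu hv4 hy (hCmem.1 x.2).1 (hCmem.1 x.2).2 q
  set P : Subgroup G := (f.noncommCoprod C.subtype hcomm).range with hPdef
  have hP : ∀ g, g ∈ P ↔ ∃ q, ∃ x ∈ C, g = f q * x := by
    intro g
    constructor
    · rintro ⟨⟨q, x⟩, rfl⟩
      exact ⟨q, x, x.2, MonoidHom.noncommCoprod_apply ..⟩
    · rintro ⟨q, x, hx, rfl⟩
      exact ⟨(q, ⟨x, hx⟩), MonoidHom.noncommCoprod_apply ..⟩
  have hfP : ∀ q, f q ∈ P := fun q => (hP _).2 ⟨q, 1, C.one_mem, (mul_one _).symm⟩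
  have hCP : C ≤ P := fun x hx => (hP _).2 ⟨1, x, hx, by rw [map_one, one_mul]⟩
  have hfu : f (.xa 0) = i0 := quatHom_u hu hv4 hy
  have hfv : f (.a 1) = v := quatHom_v hu hv4 hy
  have hi0P : i0 ∈ P := hfu ▸ hfP _
  have hvP : v ∈ P := hfv ▸ hfP _
  have hfinj : Function.Injective f := by
    refine (injective_iff_map_eq_one f).2 fun q hq => ?_
    have hcen : f (q * .a 1) = f (.a 1 * q) := by rw [map_mul, map_mul, hq, one_mul, mul_one]
    cases q with
    | a i =>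
      have h1 : v ^ i.val = 1 := hq
      fin_cases i
      · rfl
      · exact absurd h1 (by show v ^ 1 ≠ 1; rw [pow_one]; exact fun h0 => hvne (by rw [h0, one_mul]))
      · exact absurd h1 (by show v ^ 2 ≠ 1; rw [pow_two]; exact hvne)
      · exact absurd h1 (by show v ^ 3 ≠ 1; exact_mod_cast hvz (j := 3) (by decide))
    | xa i =>
      have h1 : i0 * v ^ i.val = 1 := hq
      refine absurd ?_ hnotcomm
      rw [eq_inv_of_mul_eq_one_left h1]
      exact ((Commute.refl v).pow_left _).inv_left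
  have hCq : ∀ q, f q ∈ C → q = 1 ∨ q = .a 2 := by
    intro q hq
    obtain ⟨h1, h2⟩ := hCmem.1 hq
    refine center_four q (hfinj ?_) (hfinj ?_) <;> rw [map_mul, map_mul]
    · rw [hfu]; exact h1.eq.symm
    · rw [hfv]; exact h2.eq.symm
  have hcP : ∀ j : ℤ, c ^ j ∈ P → ∃ e : ℤ, c ^ j = v ^ e := by
    intro j hj
    obtain ⟨q, x, hx, hqx⟩ := (hP _).1 hj
    obtain ⟨hx1, hx2⟩ := hCmem.1 hx
    have hcv : Commute (c ^ j) v := ((Commute.refl c).zpow_left j).pow_right _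
    have hqv : Commute (f q) v := by
      have h3 := hcv.mul_left hx2.symm.inv_left
      rwa [hqx, mul_inv_cancel_right] at h3
    cases q with
    | a i =>
      have hx' : x = c ^ (j - (2 ^ m * i.val : ℕ)) := by
        rw [zpow_sub, zpow_natCast, pow_mul, ← hvdef, hqx, eq_comm, mul_inv_eq_iff_eq_mul]
        exact (((hx2.pow_left i.val))).eq
      rcases hfix _ (by rw [← hx', hx1.eq, mul_inv_cancel_right]) with h4 | h4
      · exact ⟨i.val, by rw [hqx, hx', h4, mul_one, zpow_natCast]; rfl⟩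
      · exact ⟨(i.val + 2 : ℕ), by rw [hqx, hx', h4, zpow_natCast, pow_add, hv2]; rfl⟩
    | xa i =>
      refine absurd ?_ hnotcomm
      have h5 : Commute (i0 * v ^ i.val) v := hqv
      have h6 := h5.mul_left (((Commute.refl v).pow_left i.val).inv_left)
      rwa [mul_inv_cancel_right] at h6
  -- the element of `N(P)` outside `P`
  obtain ⟨t, o', ho', htu⟩ : ∃ (t : G) (o' : ℤ), Odd o' ∧ t * i0 * t⁻¹ = i0 * v ^ o' := by
    rcases m with _ | m
    · subst hnm
      obtain ⟨i, e, l, hi⟩ := h.decomp i0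
      have hl : Even l := h.even_of_comm hG le_rfl (hi ▸ hia)
      have hbl : Commute (b ^ l) c := by
        obtain ⟨r, hr, hre⟩ := h.conj_c b
        obtain ⟨l', rfl⟩ := hl
        rw [← two_mul, zpow_mul]
        refine Commute.zpow_left ?_ _
        refine mul_inv_eq_iff_eq_mul.1 ?_
        rw [zpow_two, show b * b * c * (b * b)⁻¹ = b * (b * c * b⁻¹) * b⁻¹ by group, hre, ← conj_zpow, hre,
          ← zpow_mul]
        obtain ⟨r', rfl⟩ := hr
        rw [show (2 * r' + 1) * (2 * r' + 1) = 4 * (r' * r' + r') + 1 by ring, zpow_add,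
          h.one_iff.2 (by norm_num), one_mul, zpow_one]
      have he : Odd e := by
        by_contra hev
        rw [Int.not_odd_iff_even] at hev
        refine hnotcomm (hi ▸ Commute.pow_right ?_ _)
        exact (((Commute.refl c).zpow_left i).mul_left (h.a_zpow_comm hev)).mul_left hbl
      obtain ⟨r, hr, hre⟩ := h.conj_c b
      obtain ⟨e', rfl⟩ := he
      obtain ⟨r', rfl⟩ := hr
      refine ⟨b, -(2 * r' * i) + 1, ⟨-(r' * i), by ring⟩, ?_⟩
      have hv : v = c := by rw [hvdef, pow_zero, pow_one]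
      have ha2 : Commute (a ^ (2 * e')) c := h.a_zpow_comm (even_two_mul e')
      have hbae : b * a ^ (2 * e' + 1) * b⁻¹ = a ^ (2 * e' + 1) * c := by
        rw [← conj_zpow, h.bab, zpow_add_one, zpow_add_one, zpow_mul, zpow_mul,
          show (a * c) ^ (2 : ℤ) = a ^ (2 : ℤ) by
            rw [zpow_two, zpow_two, mul_assoc a c, show c * (a * c) = (c * a) * c by group,
              show c * a = a * c⁻¹ by (conv_lhs => rw [← inv_inv c, ← h.aca]); group, inv_mul_cancel_right],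
          mul_assoc]
      calc b * i0 * b⁻¹ = b * (c ^ i * a ^ (2 * e' + 1) * b ^ l) * b⁻¹ := by rw [← hi]
        _ = (b * c * b⁻¹) ^ i * (b * a ^ (2 * e' + 1) * b⁻¹) * b ^ l := by rw [conj_zpow]; group
        _ = c ^ ((2 * r' + 1) * i) * (a ^ (2 * e' + 1) * (c * b ^ l)) := by
          rw [hre, hbae, ← zpow_mul]; simp only [mul_assoc]
        _ = c ^ (2 * r' * i) * (c ^ i * a ^ (2 * e' + 1) * b ^ l) * c := by
          rw [← hbl.eq, add_mul, one_mul, zpow_add]; simp only [mul_assoc]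
        _ = c ^ (2 * r' * i) * i0 * c := by rw [← hi]
        _ = i0 * (i0⁻¹ * c ^ (2 * r' * i) * i0) * c := by group
        _ = i0 * v ^ (-(2 * r' * i) + 1) := by
          rw [hv] at hy ⊢
          have h7 : i0⁻¹ * c ^ (2 * r' * i) * i0 = c ^ (-(2 * r' * i)) := by
            have h8 : i0 * c ^ (-(2 * r' * i)) * i0⁻¹ = c ^ (2 * r' * i) := by
              rw [← conj_zpow, hy, inv_zpow', neg_neg]
            rw [← h8]; group
          rw [h7, zpow_add_one, mul_assoc]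
    · refine ⟨c ^ (2 ^ m), o, ho, ?_⟩
      have hkk : i0⁻¹ * c * i0 = c ^ k := by
        calc i0⁻¹ * c * i0 = (i0 * i0)⁻¹ * (i0 * c * i0⁻¹) * (i0 * i0) := by group
          _ = c ^ k := by
            rw [hsq, hke, mul_assoc, (h.zed_comm (c ^ k)).eq, inv_mul_cancel_left]
      calc c ^ (2 ^ m) * i0 * (c ^ (2 ^ m))⁻¹ = i0 * ((i0⁻¹ * c * i0⁻¹⁻¹) ^ (2 ^ m) * (c ^ (2 ^ m))⁻¹) := by
            rw [conj_pow]; group
        _ = i0 * v ^ o := by
          rw [inv_inv, hkk, hvdef, ← zpow_natCast, ← zpow_natCast, ← zpow_natCast, ← zpow_mul, ← zpow_neg,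
            ← zpow_add, ← zpow_mul]
          congr 2
          push_cast
          linear_combination (2 : ℤ) ^ m * hko
  obtain ⟨e₀, he₀, htv⟩ := hconjv t
  obtain ⟨ε, hε, hεe⟩ := zpow_odd_four hv4 he₀
  obtain ⟨ob, hob, hobe⟩ := zpow_odd_four hv4 ho'
  have htC : ∀ x ∈ C, t * x * t⁻¹ = x ∨ t * x * t⁻¹ = v ^ 2 * x := by
    intro x hx
    obtain ⟨hx1, hx2⟩ := hCmem.1 hx
    obtain ⟨j, hj⟩ := h.conj_eq t x
    have h1 : Commute (t * i0 * t⁻¹) (t * x * t⁻¹) := hx1.map (MulAut.conj t).toMonoidHom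
    have h2 : Commute (t * v * t⁻¹) (t * x * t⁻¹) := hx2.map (MulAut.conj t).toMonoidHom
    rw [htv] at h2
    have h3 : Commute v (t * x * t⁻¹) := by
      obtain ⟨s, hs⟩ := mem_zpowers_iff.1 (zpowers_zpow_odd hG v he₀)
      rw [← hs]; exact h2.zpow_left s
    rw [htu] at h1
    have h4 : Commute i0 (t * x * t⁻¹) := by
      have := h1.mul_left (h3.zpow_left o').inv_left
      rwa [mul_inv_cancel_right] at this
    have h5 : Commute i0 (c ^ j) := by
      have := h4.mul_right hx1.inv_right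
      rwa [hj, mul_inv_cancel_right] at this
    rcases hfix j (by rw [h5.eq, mul_inv_cancel_right]) with h6 | h6
    · left; rw [hj, h6, one_mul]
    · right; rw [hj, h6, hv2]
  -- conjugation by elements of `P` moves `i0` by even powers
  have heven : ∀ g ∈ P, ∃ j : ℤ, g * i0 * g⁻¹ = i0 * v ^ (2 * j) := by
    intro g hg
    obtain ⟨q, x, hx, rfl⟩ := (hP g).1 hg
    rw [show f q * x * i0 * (f q * x)⁻¹ = f q * (x * i0 * x⁻¹) * (f q)⁻¹ by group, ← (hCmem.1 hx).1.eq,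
      mul_inv_cancel_right, ← hfu, ← map_inv, ← map_mul, ← map_mul]
    have hd : ∀ q : QuaternionGroup 2, q * .xa 0 * q⁻¹ = .xa 0 ∨ q * .xa 0 * q⁻¹ = .xa 0 * .a 2 := by decide
    rcases hd q with h1 | h1 <;> rw [h1]
    · exact ⟨0, by rw [mul_zero, zpow_zero, mul_one]⟩
    · refine ⟨1, ?_⟩
      rw [map_mul, mul_one, show (2 : ℤ) = ((2 : ℕ) : ℤ) from rfl, zpow_natCast]
      rfl
  have htP : t ∉ P := by
    intro ht
    obtain ⟨j, hj⟩ := heven t ht
    rw [htu, mul_left_cancel_iff] at hj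
    refine hvz (j := o' - 2 * j) ?_ (by rw [zpow_sub, hj, mul_inv_cancel])
    exact ho'.sub_even (even_two_mul j)
  have hmem : ∀ s : G, (∃ j : ℤ, s * i0 * s⁻¹ = i0 * v ^ (2 * j)) → s ∈ P := by
    rintro s ⟨j, hj⟩
    obtain ⟨e, he, hse⟩ := hconjv s
    obtain ⟨εs, hεs, hεse⟩ := zpow_odd_four hv4 he
    have hj' : s * i0 * s⁻¹ = i0 ∨ s * i0 * s⁻¹ = i0 * v ^ 2 := by
      have hz : v ^ (2 * j) ∈ zpowers z := mem_zpowers_iff.2 ⟨j, by
        rw [← hv2, ← zpow_natCast, ← zpow_mul]; rfl⟩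
      rcases zpowers_cases_two (by rw [pow_two]; exact h.zed_mul) hz with h1 | h1
      · left; rw [hj, h1, mul_one]
      · right; rw [hj, h1, hv2]
    obtain ⟨q, hqu, hqv⟩ : ∃ q, f (q * .xa 0 * q⁻¹) = s * i0 * s⁻¹ ∧ f (q * .a 1 * q⁻¹) = s * v * s⁻¹ := by
      have hd : ∀ εs : ZMod (2 * 2), (εs = 1 ∨ εs = 3) → ∀ δ : QuaternionGroup 2, (δ = 1 ∨ δ = .a 2) →
          ∃ q : QuaternionGroup 2, q * .xa 0 * q⁻¹ = .xa 0 * δ ∧ q * .a 1 * q⁻¹ = .a εs := by decide
      rcases hj' with h1 | h1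
      · obtain ⟨q, hq1, hq2⟩ := hd εs hεs 1 (Or.inl rfl)
        exact ⟨q, by rw [hq1, mul_one, hfu, h1], by rw [hq2, hse, hεse]; rfl⟩
      · obtain ⟨q, hq1, hq2⟩ := hd εs hεs (.a 2) (Or.inr rfl)
        exact ⟨q, by rw [hq1, map_mul, hfu, h1]; rfl, by rw [hq2, hse, hεse]; rfl⟩
    rw [map_mul, map_mul, map_inv, hfu] at hqu
    rw [map_mul, map_mul, map_inv, hfv] at hqv
    have hx : (f q)⁻¹ * s ∈ C := hCmem.2 ⟨by
        show i0 * ((f q)⁻¹ * s) = (f q)⁻¹ * s * i0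
        calc i0 * ((f q)⁻¹ * s) = (f q)⁻¹ * (f q * i0 * (f q)⁻¹) * s := by group
          _ = (f q)⁻¹ * s * i0 := by rw [hqu]; group, by
        show v * ((f q)⁻¹ * s) = (f q)⁻¹ * s * v
        calc v * ((f q)⁻¹ * s) = (f q)⁻¹ * (f q * v * (f q)⁻¹) * s := by group
          _ = (f q)⁻¹ * s * v := by rw [hqv]; group⟩
    have := P.mul_mem (hfP q) (hCP hx)
    rwa [mul_inv_cancel_left] at this
  have hnorm : ∀ s ∈ normalizer (P : Set G), s ∈ P ∨ t⁻¹ * s ∈ P := by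
    intro s hs
    obtain ⟨j, hj⟩ := h.conj_eq s i0
    have hjP : c ^ j ∈ P := by
      have := P.mul_mem ((mem_normalizer_iff.1 hs i0).1 hi0P) (P.inv_mem hi0P)
      rwa [hj, mul_inv_cancel_right] at this
    obtain ⟨e, he⟩ := hcP j hjP
    have hsi : s * i0 * s⁻¹ = i0 * v ^ (-e) := by
      rw [hj, he]
      calc v ^ e * i0 = i0 * (i0⁻¹ * v ^ e * i0) := by group
        _ = i0 * v ^ (-e) := by
          have h8 : i0 * v ^ (-e) * i0⁻¹ = v ^ e := by rw [← conj_zpow, hy, inv_zpow', neg_neg]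
          rw [← h8]; group
    rcases Int.even_or_odd e with he' | he'
    · obtain ⟨e', rfl⟩ := he'
      exact Or.inl (hmem s ⟨-e', by rw [hsi]; congr 2; ring⟩)
    · right
      refine hmem _ ?_
      obtain ⟨e1, he1, htv'⟩ := hconjv t⁻¹
      rw [inv_inv] at htv'
      have htu' : t⁻¹ * i0 * t = i0 * v ^ (-(e1 * o')) := by
        have h9 : i0 = t⁻¹ * i0 * t * (t⁻¹ * v * t) ^ o' := by
          calc i0 = t⁻¹ * (t * i0 * t⁻¹) * t := by group
            _ = t⁻¹ * i0 * t * (t⁻¹ * v * t) ^ o' := by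
              rw [htu, show (t⁻¹ * v * t) = t⁻¹ * v * t⁻¹⁻¹ by rw [inv_inv], conj_zpow]; group
        rw [htv', ← zpow_mul] at h9
        rw [zpow_neg]
        exact eq_mul_inv_of_mul_eq h9.symm
      obtain ⟨p, hp⟩ := he'
      obtain ⟨o1, ho1⟩ := ho'
      obtain ⟨e2, he2⟩ := he1
      refine ⟨-((2 * e2 + 1) * (o1 + p + 1)), ?_⟩
      calc t⁻¹ * s * i0 * (t⁻¹ * s)⁻¹ = t⁻¹ * (s * i0 * s⁻¹) * t := by group
        _ = (t⁻¹ * i0 * t) * (t⁻¹ * v * t⁻¹⁻¹) ^ (-e) := by rw [hsi, conj_zpow]; group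
        _ = _ := by
          rw [inv_inv, htv', htu', ← zpow_mul, mul_assoc, ← zpow_add, hp, ho1, he2]
          congr 2; ring
  obtain ⟨d, hd⟩ := exists_twist (u := i0) (v := v) (t := t) (C := C) (P := P) hu hv4 hy
    (fun x hx => (hCmem.1 hx).1) (fun x hx => (hCmem.1 hx).2)
    (fun q hq hne => (hCq q hq).resolve_left fun h1 => hne (by rw [h1]; exact map_one f))
    (fun q hq => Or.inl (hfinj (hq.trans (map_one f).symm)))
    hP
    (fun s hs => by
      obtain ⟨j, -, hj⟩ := hconjv s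
      exact hnotcomm (by rw [← hs, hj]; exact (Commute.refl v).zpow_left j))
    hε hob (htv.trans hεe) (htu.trans (by rw [hobe])) htC htP
    (fun g hg => hCP (hCmem.2 ⟨hg i0 hi0P, hg v hvP⟩)) hnorm
  refine d.exists_system (hG.to_subgroup ⊤) fun Q hQ hcQ => ?_
  -- proper centric subgroups of `P` are abelian on two generators
  obtain ⟨w, hw, hwgen⟩ := h.exists_gen_mod C
  have hCform : ∀ x ∈ C, ∃ i j : ℤ, x = z ^ i * w ^ j := by
    intro x hx
    obtain ⟨j, hj⟩ := hwgen x hx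
    have hmemC : x * (w ^ j)⁻¹ ∈ C := mul_mem hx (inv_mem (zpow_mem hw j))
    obtain ⟨i, e, hie⟩ := h.mem_base hj
    obtain ⟨h1, h2⟩ := hCmem.1 hmemC
    have he : Even e := by
      by_contra hodd
      rw [Int.not_even_iff_odd] at hodd
      obtain ⟨e', rfl⟩ := hodd
      rw [hie, zpow_add_one] at h2
      have hcv : Commute v (c ^ i * a ^ (2 * e')) :=
        ((((Commute.refl c).pow_left _).zpow_right i)).mul_right ((h.a_zpow_comm (even_two_mul e')).symm.pow_left _)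
      have h3' := hcv.inv_right.mul_right h2
      have h3 : Commute v a := by rwa [← mul_assoc (c ^ i), inv_mul_cancel_left] at h3'
      have h4 : a * v * a⁻¹ = v⁻¹ := by rw [hvdef, ← conj_pow, h.aca, inv_pow]
      rw [← h3.eq, mul_inv_cancel_right] at h4
      exact hvne (mul_eq_one_iff_eq_inv.2 h4)
    obtain ⟨e', rfl⟩ := he
    obtain ⟨s, hs⟩ : ∃ s : ℤ, a ^ (e' + e') = c ^ s := by
      rw [← two_mul, zpow_mul, zpow_two]
      rcases h.aa with h3 | h3 <;> rw [h3]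
      · exact ⟨0, by rw [one_zpow, zpow_zero]⟩
      · exact ⟨(2 ^ n : ℕ) * e', by rw [zpow_mul, zpow_natCast]⟩
    rw [hs, ← zpow_add] at hie
    rcases hfix (i + s) (by rw [← hie, h1.eq, mul_inv_cancel_right]) with h3 | h3
    · exact ⟨0, j, by rw [zpow_zero, one_mul, ← inv_mul_cancel_right x (w ^ j), hie, h3, one_mul]⟩
    · exact ⟨1, j, by rw [zpow_one, ← h3, ← hie, inv_mul_cancel_right]⟩
  have hCQ : C ≤ Q := fun x hx => hcQ (mem_centralizerIn.2 ⟨mem_top x, fun y hy' => by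
    obtain ⟨q, x', hx', rfl⟩ := (hP y).1 (hQ.le hy')
    obtain ⟨i, j, rfl⟩ := hCform x hx
    obtain ⟨i', j', rfl⟩ := hCform x' hx'
    refine ((hcomm q ⟨_, hx⟩).mul_left ?_).eq
    exact (((h.zed_comm _).zpow_right i)).mul_right
      ((((h.zed_comm w).zpow_right i').symm.zpow_right j).mul_left ((Commute.refl w).zpow_zpow j' j))⟩)
  obtain ⟨q₁, hq₁, hq₁1, hq₁2⟩ : ∃ q, f q ∈ Q ∧ q ≠ 1 ∧ q ≠ .a 2 := by
    by_contra hall
    push Not at hall
    refine hQ.not_ge fun g hg => hcQ (mem_centralizerIn.2 ⟨mem_top g, fun y hy' => ?_⟩)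
    obtain ⟨q, x, hx, rfl⟩ := (hP y).1 (hQ.le hy')
    have hq : f q ∈ Q := by
      have := Q.mul_mem hy' (Q.inv_mem (hCQ hx))
      rwa [mul_inv_cancel_right] at this
    obtain ⟨q', x', hx', rfl⟩ := (hP g).1 hg
    obtain ⟨i, j, rfl⟩ := hCform x hx
    obtain ⟨i', j', rfl⟩ := hCform x' hx'
    have hcq : Commute (f q) (f q' * (z ^ i' * w ^ j')) := by
      refine Commute.mul_right ?_ (hcomm q ⟨_, hx'⟩)
      by_cases h1 : q = 1
      · rw [h1, map_one]; exact Commute.one_left _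
      · rw [hall q hq h1, show f (.a 2) = v ^ 2 from rfl, hv2]; exact (h.zed_comm _).symm
    refine (hcq.mul_left ((hcomm q' ⟨_, hx⟩).symm.mul_right ?_)).eq
    exact (((h.zed_comm _).zpow_right i')).mul_right
      ((((h.zed_comm w).zpow_right i).symm.zpow_right j').mul_left ((Commute.refl w).zpow_zpow j j'))
  have hq₁sq : f q₁ * f q₁ = z := by
    rw [← map_mul, ((quat_sq q₁).resolve_left hq₁1).resolve_left hq₁2]
    exact hv2
  let qQ : Q := ⟨f q₁, hq₁⟩
  let wQ : Q := ⟨w, hCQ hw⟩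
  have hgenQ : ∀ x : Q, ∃ i j : ℤ, x = qQ ^ i * wQ ^ j := by
    rintro ⟨g, hg⟩
    obtain ⟨q, x, hx, rfl⟩ := (hP g).1 (hQ.le hg)
    have hq : f q ∈ Q := by
      have := Q.mul_mem hg (Q.inv_mem (hCQ hx))
      rwa [mul_inv_cancel_right] at this
    obtain ⟨s, hs⟩ : ∃ s : ℕ, q = q₁ ^ s := by
      rcases quat_gen q₁ q with h1 | h1 | h1 | h1
      · exact absurd h1 hq₁1
      · exact absurd h1 hq₁2
      · rcases h1 with h1 | h1 | h1 | h1
        · exact ⟨0, by rw [pow_zero]; exact h1⟩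
        · exact ⟨1, by rw [pow_one]; exact h1⟩
        · exact ⟨2, by rw [pow_two]; exact h1⟩
        · exact ⟨3, by rw [pow_succ, pow_two]; exact h1⟩
      · refine absurd (fun g hg' => ?_) hQ.not_ge
        obtain ⟨r, x', hx', rfl⟩ := (hP g).1 hg'
        obtain ⟨i, j, rfl⟩ := h1 r
        rw [map_mul, map_pow, map_pow]
        exact Q.mul_mem (Q.mul_mem (Q.pow_mem hq₁ _) (Q.pow_mem hq _)) (hCQ hx')
    obtain ⟨i, j, rfl⟩ := hCform x hx
    refine ⟨s + 2 * i, j, Subtype.ext ?_⟩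
    show f q * (z ^ i * w ^ j) = _
    rw [hs, map_pow]
    push_cast
    rw [zpow_add, zpow_natCast, zpow_mul, show f q₁ ^ (2 : ℤ) = z by rw [zpow_two, hq₁sq], mul_assoc]
  have hzc : z ∈ center G := mem_center_iff.2 fun g => h.zed_comm g
  have hle : d.sys ≤ respectSys z hzc :=
    d.sys_le ⟨Subtype.val_injective.comp d.α.injective, fun x => by rw [← hv2]; exact hd x⟩
  refine isPGroup_of_fix (hG.to_subgroup Q) (q := qQ) (w := wQ)
    (Subtype.ext ((hcomm q₁ ⟨w, hw⟩)).eq) hgenQ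
    (fun h1 => h.zed_ne (hq₁sq.symm.trans (congrArg Subtype.val h1)))
    (Subtype.ext (show f q₁ * f q₁ * (f q₁ * f q₁) = 1 by rw [hq₁sq]; exact h.zed_mul)) _ fun β hβ => ?_
  exact Subtype.ext (((hle Q ((mem_autGroup le_top).1 hβ)).2 (qQ * qQ)).2 hq₁sq |>.trans hq₁sq.symm)

end CfsgLib.Bicyclic19
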