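import Cfsg.Agent.Lib.Bicyclic19.Basic
import Cfsg.Agent.Lib.LocalEvenSix.IsoRankTwo.Basic
import Cfsg.Agent.Lib.MetaTwoFusion.Fusion

/-!
# The Frattini subgroup of a bicyclic 2-group

It is metacyclic and contains no nonabelian subgroup of order eight.
-/

set_option autoImplicit false

namespace CfsgLib.Bicyclic19

open Subgroup
open scoped commutatorElement Pointwise

universe u

variable {G : Type u} [Group G]

theorem mem_frattini_even [Finite G] (hG : IsPGroup 2 G) (hnc : ¬ IsCyclic G) {x y : G}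
    (hxy : ∀ g : G, ∃ i j : ℤ, g = x ^ i * y ^ j) {i j : ℤ} (h : x ^ i * y ^ j ∈ frattini G) :
    Even i ∧ Even j := by
  haveI := Fact.mk Nat.prime_two
  have hgen : ∀ {P : Subgroup G}, x ∈ P → y ∈ P → P = ⊤ := fun {P} hx hy => eq_top_iff.2 fun g _ => by
    obtain ⟨i, j, rfl⟩ := hxy g
    exact mul_mem (zpow_mem hx _) (zpow_mem hy _)
  constructor <;> by_contra hodd <;> rw [Int.not_even_iff_odd] at hodd
  · refine hnc (isCyclic_iff_exists_zpowers_eq_top.2 ⟨y, frattini_nongenerating (hgen ?_ ?_)⟩)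
    · refine (zpowers_le.2 ?_) (zpowers_zpow_odd hG x hodd)
      have := mul_mem (mem_sup_right (S := zpowers y) h)
        (mem_sup_left (T := frattini G) (zpow_mem (mem_zpowers y) (-j)))
      simpa using this
    · exact mem_sup_left (mem_zpowers y)
  · refine hnc (isCyclic_iff_exists_zpowers_eq_top.2 ⟨x, frattini_nongenerating (hgen ?_ ?_)⟩)
    · exact mem_sup_left (mem_zpowers x)
    · refine (zpowers_le.2 ?_) (zpowers_zpow_odd hG y hodd)
      have := mul_mem (mem_sup_left (T := frattini G) (zpow_mem (mem_zpowers x) (-i)))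
        (mem_sup_right (S := zpowers x) h)
      simpa [← mul_assoc] using this

theorem isMetacyclic_of_isCyclic [IsCyclic G] : Cfsg.IsMetacyclic G := by
  obtain ⟨g, hg⟩ := IsCyclic.exists_generator (α := G)
  refine ⟨⊥, inferInstance, inferInstance, ?_⟩
  refine isCyclic_iff_exists_zpowers_eq_top.2 ⟨QuotientGroup.mk' ⊥ g, eq_top_iff.2 fun q _ => ?_⟩
  obtain ⟨w, rfl⟩ := QuotientGroup.mk'_surjective _ q
  obtain ⟨k, rfl⟩ := mem_zpowers_iff.1 (hg w)
  exact mem_zpowers_iff.2 ⟨k, (map_zpow _ g k).symm⟩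

theorem bicyclic_frattini [Finite G] (hG : IsPGroup 2 G) (hb : Bicyclic G) (hnm : ¬ Cfsg.IsMetacyclic G) :
    Bicyclic (frattini G) := by
  haveI := Fact.mk Nat.prime_two
  obtain ⟨x, y, hxy⟩ := hb
  refine ⟨⟨x ^ 2, CfsgLib.PGroup.pow_mem_frattini hG x⟩, ⟨y ^ 2, CfsgLib.PGroup.pow_mem_frattini hG y⟩, ?_⟩
  rintro ⟨g, hg⟩
  obtain ⟨i, j, rfl⟩ := hxy g
  obtain ⟨⟨i, rfl⟩, ⟨j, rfl⟩⟩ :=
    mem_frattini_even hG (fun h => hnm isMetacyclic_of_isCyclic) hxy hg
  refine ⟨i, j, Subtype.ext ?_⟩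
  show x ^ (i + i) * y ^ (j + j) = (x ^ 2) ^ i * (y ^ 2) ^ j
  rw [← zpow_natCast, ← zpow_natCast, ← zpow_mul, ← zpow_mul]
  congr 2 <;> push_cast <;> ring

/-- `Φ(G)` centralises every normal subgroup of order four. -/
theorem commute_of_normal_four [Finite G] (hG : IsPGroup 2 G) {L : Subgroup G} [L.Normal]
    (hL : Nat.card L = 4) {g l : G} (hg : g ∈ frattini G) (hl : l ∈ L) : g * l = l * g := by
  classical
  haveI := Fact.mk Nat.prime_two
  haveI := Fintype.ofFinite L
  let P := {x : L // x ≠ 1}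
  let res : MulAut L → Equiv.Perm P := fun α =>
    α.toEquiv.subtypeEquiv fun x => by simp
  let r : MulAut L →* Equiv.Perm P :=
    MonoidHom.mk' res fun a b => Equiv.ext fun x => Subtype.ext rfl
  have hr : Function.Injective r := by
    intro a b hab
    refine MulEquiv.ext fun x => ?_
    by_cases hx : x = 1
    · rw [hx, map_one, map_one]
    · exact congrArg Subtype.val (Equiv.congr_fun hab ⟨x, hx⟩)
  let f : G →* Equiv.Perm P := r.comp MulAut.conjNormal
  have hP : Nat.card P = 3 := by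
    have h1 := Nat.card_eq_fintype_card (α := L)
    rw [Nat.card_eq_fintype_card, Fintype.card_subtype_compl, Fintype.card_subtype_eq]
    omega
  have hcard : Nat.card f.range ∣ 2 := by
    have h6 : Nat.card (Equiv.Perm P) = 6 := by rw [Nat.card_perm, hP]; rfl
    obtain ⟨n, hn⟩ := IsPGroup.iff_card.1 (hG.of_surjective f.rangeRestrict f.rangeRestrict_surjective)
    have hd : 2 ^ n ∣ 6 := hn ▸ h6 ▸ Subgroup.card_subgroup_dvd_card f.range
    rcases n with _ | _ | n
    · rw [hn]; norm_num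
    · rw [hn]; norm_num
    · exfalso
      have : (4 : ℕ) ∣ 6 := (Dvd.intro (2 ^ n) (by rw [pow_succ, pow_succ]; ring)).trans hd
      omega
  have hsq : ∀ x : f.range, x ^ 2 = 1 := fun x => by
    refine orderOf_dvd_iff_pow_eq_one.1 ((orderOf_dvd_natCard x).trans hcard)
  have hker : frattini G ≤ f.ker := by
    refine CfsgLib.PGroup.frattini_le_of (p := 2) _ ?_ fun x => ?_
    · rw [_root_.commutator_def, commutator_le]
      intro p _ q _
      have hcomm : ∀ a b : f.range, a * b = b * a := fun a b => by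
        have ha : a⁻¹ = a := inv_eq_of_mul_eq_one_right (by rw [← pow_two]; exact hsq a)
        have hb : b⁻¹ = b := inv_eq_of_mul_eq_one_right (by rw [← pow_two]; exact hsq b)
        have hab : (a * b)⁻¹ = a * b := inv_eq_of_mul_eq_one_right (by rw [← pow_two]; exact hsq _)
        rw [← hab, mul_inv_rev, ha, hb]
      rw [MonoidHom.mem_ker, map_commutatorElement, commutatorElement_eq_one_iff_mul_comm]
      exact congrArg Subtype.val (hcomm ⟨f p, p, rfl⟩ ⟨f q, q, rfl⟩)
    · rw [MonoidHom.mem_ker, map_pow]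
      exact congrArg Subtype.val (hsq ⟨f x, x, rfl⟩)
  have h1 : MulAut.conjNormal (H := L) g = 1 := hr (by rw [map_one]; exact hker hg)
  have := congrArg (fun α : MulAut L => ((α ⟨l, hl⟩ : L) : G)) h1
  simp only [MulAut.conjNormal_apply, MulAut.one_apply] at this
  rw [← mul_inv_eq_iff_eq_mul]
  exact this

theorem conj_sqs_mem {N : Subgroup G} [hN : N.Normal] (g : G) {v : G} (hv : v ∈ sqs N) :
    g * v * g⁻¹ ∈ sqs N := by
  obtain ⟨c, hc, rfl⟩ := hv
  exact ⟨g * c * g⁻¹, hN.conj_mem c hc g, conj_pow⟩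

set_option maxHeartbeats 800000 in
theorem isMetacyclic_frattini [Finite G] (hG : IsPGroup 2 G) (hb : Bicyclic G) (hnm : ¬ Cfsg.IsMetacyclic G) :
    Cfsg.IsMetacyclic (frattini G) := by
  classical
  haveI := Fact.mk Nat.prime_two
  by_contra hnN
  let N : Subgroup G := frattini G
  have hNp : IsPGroup 2 N := hG.to_subgroup N
  obtain ⟨a, b, hgen, ha⟩ := exists_gens hNp (bicyclic_frattini hG hb hnm) hnN
  let ρ := QuotientGroup.mk' (derRad N)
  set A := ρ a with hA
  set B := ρ b with hB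
  set C := ⁅A, B⁆ with hC
  have hQgen : closure ({A, B} : Set (N ⧸ derRad N)) = ⊤ := by
    rw [hA, hB, ← Set.image_pair, ← MonoidHom.map_closure, hgen,
      map_top_of_surjective _ (QuotientGroup.mk'_surjective _)]
  have hcN : ⁅a, b⁆ ∈ commutator N := commutator_mem_commutator (mem_top a) (mem_top b)
  have hC2 : C ^ 2 = 1 := by
    rw [hC, hA, hB, ← map_commutatorElement, ← map_pow]
    exact (QuotientGroup.eq_one_iff _).2 (mem_sup_right (subset_closure ⟨_, hcN, rfl⟩))
  have hCcen : C ∈ center (N ⧸ derRad N) := by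
    refine mem_center_iff.2 fun q => ?_
    obtain ⟨g, rfl⟩ := QuotientGroup.mk'_surjective _ q
    refine Eq.symm (commutatorElement_eq_one_iff_mul_comm.1 ?_)
    rw [hC, hA, hB, ← map_commutatorElement, ← map_commutatorElement]
    exact (QuotientGroup.eq_one_iff _).2 (mem_sup_left (commutator_mem_commutator hcN (mem_top g)))
  have hA2 : A ^ 2 = 1 := by rw [hA, ← map_pow]; exact (QuotientGroup.eq_one_iff _).2 ha
  have hABC : A * B = C * (B * A) := by rw [hC, commutatorElement_def]; group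
  have hBA : B * A * B⁻¹ = A * C := by
    have h1 : B * A = C * (A * B) := by
      rw [hABC, ← mul_assoc, ← pow_two, hC2, one_mul]
    rw [h1, ← mul_assoc, mul_inv_cancel_right, mem_center_iff.1 hCcen A]
  have hB2c : B ^ 2 ∈ center (N ⧸ derRad N) := by
    refine TwoGroups85.mem_center_of_closure hQgen ?_ (by rw [← pow_succ', ← pow_succ])
    have h1 : B ^ 2 * A * (B ^ 2)⁻¹ = A := by
      rw [pow_two, show B * B * A * (B * B)⁻¹ = B * (B * A * B⁻¹) * B⁻¹ by group, hBA,
        show B * (A * C) * B⁻¹ = (B * A * B⁻¹) * (B * C * B⁻¹) by group, hBA, mem_center_iff.1 hCcen B,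
        mul_inv_cancel_right, mul_assoc, ← pow_two, hC2, mul_one]
    rw [mul_inv_eq_iff_eq_mul] at h1
    exact h1.symm
  let Z2 : Subgroup (N ⧸ derRad N) := closure {B ^ 2, C}
  have hZ2 : Z2 ≤ center _ := (closure_le _).2 (by rintro q (rfl | rfl) <;> assumption)
  haveI : Z2.Normal := ⟨fun w hw g => by
    rwa [(mem_center_iff.1 (hZ2 hw) g), mul_inv_cancel_right]⟩
  have hfour : ∀ q : N ⧸ derRad N, q ^ 4 ∈ zpowers (B ^ 4) := by
    intro q
    have hq2 : q ^ 2 ∈ Z2 := by
      refine (QuotientGroup.eq_one_iff _).1 ?_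
      rw [QuotientGroup.mk_pow]
      let τ := QuotientGroup.mk' Z2
      have hτA : τ A ^ 2 = 1 := by rw [← map_pow, hA2, map_one]
      have hτB : τ B ^ 2 = 1 := by
        rw [← map_pow]; exact (QuotientGroup.eq_one_iff _).2 (subset_closure (by simp))
      have hτc : Commute (τ A) (τ B) := by
        have h1 : τ C = 1 := (QuotientGroup.eq_one_iff _).2 (subset_closure (by simp))
        have h2 := congrArg τ hABC
        rw [map_mul, map_mul, map_mul, h1, one_mul] at h2
        exact h2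
      have hall : τ q ∈ closure ({τ A, τ B} : Set _) := by
        rw [← Set.image_pair, ← MonoidHom.map_closure, hQgen]
        exact mem_map_of_mem _ (mem_top q)
      rcases TwoGroups85.closure_pair_cases hτA hτB hτc.eq hall with h | h | h | h <;>
        change τ q ^ 2 = 1 <;> rw [h]
      · exact one_pow 2
      · exact hτA
      · exact hτB
      · rw [hτc.mul_pow, hτA, hτB, one_mul]
    haveI : (zpowers C).Normal := ⟨fun w hw g => by
      have hw' : w ∈ center _ := zpowers_le.2 hCcen hw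
      rwa [(mem_center_iff.1 hw' g), mul_inv_cancel_right]⟩
    have hsup : q ^ 2 ∈ zpowers (B ^ 2) ⊔ zpowers C :=
      (closure_le _).2 (by rintro w (rfl | rfl)
                           · exact mem_sup_left (mem_zpowers _)
                           · exact mem_sup_right (mem_zpowers _)) hq2
    obtain ⟨_, hu, _, hv, hij⟩ := mem_sup_of_normal_right.1 hsup
    obtain ⟨i, rfl⟩ := mem_zpowers_iff.1 hu
    obtain ⟨j, rfl⟩ := mem_zpowers_iff.1 hv
    refine mem_zpowers_iff.2 ⟨i, ?_⟩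
    rw [show (4 : ℕ) = 2 * 2 from rfl, pow_mul q, ← hij,
      (((show Commute (B ^ 2) C from mem_center_iff.1 hCcen _)).zpow_zpow i j).mul_pow,
      ← zpow_natCast (C ^ j), ← zpow_mul, mul_comm j, zpow_mul, zpow_natCast, hC2, one_zpow, mul_one, pow_mul B,
      ← zpow_natCast ((B ^ 2) ^ i), ← zpow_natCast (B ^ 2) 2, ← zpow_mul, ← zpow_mul, mul_comm]
  -- the subgroup of `G` collapsing fourth powers
  let fours : Set G := (fun c => c ^ 4) '' (N : Set G)
  let K : Subgroup G := ⁅⁅N, N⁆, N⁆ ⊔ closure (sqs ⁅N, N⁆ ∪ fours)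
  haveI : N.Normal := inferInstanceAs (frattini G).Normal
  haveI : (closure (sqs ⁅N, N⁆ ∪ fours)).Normal := closure_normal_of_conj fun g v hv => by
    rcases hv with hv | ⟨c, hc, rfl⟩
    · exact subset_closure (Or.inl (conj_sqs_mem g hv))
    · exact subset_closure (Or.inr ⟨g * c * g⁻¹, Subgroup.Normal.conj_mem inferInstance c hc g, conj_pow⟩)
  haveI : K.Normal := inferInstance
  let J : Subgroup N := (zpowers (B ^ 4)).comap ρ
  have hder : derRad N ≤ J := fun n hn => by
    show ρ n ∈ zpowers (B ^ 4)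
    rw [show ρ n = 1 from (QuotientGroup.eq_one_iff _).2 hn]; exact one_mem _
  have hcomN : ⁅N, N⁆ = (commutator N).map N.subtype := by
    rw [_root_.commutator_def, map_commutator, ← MonoidHom.range_eq_map, range_subtype]
  have hKJ : K ≤ J.map N.subtype := by
    refine sup_le ?_ ((closure_le _).2 ?_)
    · have e : ⁅⁅N, N⁆, N⁆ = (⁅commutator N, (⊤ : Subgroup N)⁆).map N.subtype := by
        rw [map_commutator, ← hcomN, ← MonoidHom.range_eq_map, range_subtype]
      exact e ▸ map_mono (le_sup_left.trans hder)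
    · rintro v (⟨c, hc, rfl⟩ | ⟨c, hc, rfl⟩)
      · rw [SetLike.mem_coe, hcomN] at hc
        obtain ⟨c', hc', rfl⟩ := hc
        exact ⟨c' ^ 2, hder (mem_sup_right (subset_closure ⟨c', hc', rfl⟩)), map_pow _ _ _⟩
      · exact ⟨(⟨c, hc⟩ : N) ^ 4, by rw [SetLike.mem_coe, mem_comap, map_pow]; exact hfour _, rfl⟩
  have hKρ : ∀ n : N, (n : G) ∈ K → ρ n ∈ zpowers (B ^ 4) := fun n hn => by
    obtain ⟨n', hn', he⟩ := hKJ hn
    exact Subtype.ext he ▸ hn'
  -- the elements downstairs
  let π := QuotientGroup.mk' K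
  set α := π (a : G) with hα
  set β := π (b : G) with hβ
  set γ := ⁅α, β⁆ with hγ
  have hγG : γ = π ((⁅a, b⁆ : N) : G) := by
    rw [hγ, hα, hβ, ← map_commutatorElement]; rfl
  have hK1 : ∀ v ∈ K, π v = 1 := fun v hv => (QuotientGroup.eq_one_iff _).2 hv
  have hcNN : ((⁅a, b⁆ : N) : G) ∈ ⁅N, N⁆ := commutator_mem_commutator a.2 b.2
  have hα2 : α ^ 2 = 1 := by
    rw [hα, ← map_pow]
    refine hK1 _ ?_
    have h := mem_map_of_mem N.subtype ha
    rw [derRad, Subgroup.map_sup, map_commutator, ← hcomN, ← MonoidHom.range_eq_map, range_subtype,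
      MonoidHom.map_closure] at h
    refine sup_le_sup_left (Subgroup.closure_mono ?_) _ h
    rintro _ ⟨_, ⟨c, hc, rfl⟩, rfl⟩
    exact Or.inl ⟨c, by rw [SetLike.mem_coe, hcomN]; exact mem_map_of_mem _ hc, rfl⟩
  have hγ2 : γ ^ 2 = 1 := by
    rw [hγG, ← map_pow]; exact hK1 _ (mem_sup_right (subset_closure (Or.inl ⟨_, hcNN, rfl⟩)))
  have hγc : ∀ n ∈ N, Commute γ (π n) := fun n hn => by
    refine commutatorElement_eq_one_iff_mul_comm.1 ?_
    rw [hγG, ← map_commutatorElement]
    exact hK1 _ (mem_sup_left (commutator_mem_commutator hcNN hn))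
  have hβ4 : β ^ 4 = 1 := by
    rw [hβ, ← map_pow]; exact hK1 _ (mem_sup_right (subset_closure (Or.inr ⟨b, b.2, rfl⟩)))
  have hβγ : Commute β γ := (hγc b b.2).symm
  have hαγ : Commute α γ := (hγc a a.2).symm
  have hαi : α⁻¹ = α := inv_eq_of_mul_eq_one_right (by rw [← pow_two]; exact hα2)
  have hγi : γ⁻¹ = γ := inv_eq_of_mul_eq_one_right (by rw [← pow_two]; exact hγ2)
  have hab' : α * β = γ * (β * α) := by rw [hγ, commutatorElement_def]; group
  have hba : β * α = γ * (α * β) := by rw [hab', ← mul_assoc, ← pow_two, hγ2, one_mul]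
  have hlift : ∀ (n : N), π (n : G) = 1 → ρ n ∈ zpowers (B ^ 4) := fun n hn =>
    hKρ n ((QuotientGroup.eq_one_iff _).1 hn)
  have hcomQ : commutator (N ⧸ derRad N) ≤ zpowers C := by
    haveI : (zpowers C).Normal := ⟨fun w hw g => by
      have hw' : w ∈ center _ := zpowers_le.2 hCcen hw
      rwa [(mem_center_iff.1 hw' g), mul_inv_cancel_right]⟩
    exact closure_pair_comm_le hQgen (by rw [← commutatorElement_def]; exact mem_zpowers C)
  have hnQ : ¬ Cfsg.IsMetacyclic (N ⧸ derRad N) := fun h => hnN (isMetacyclic_of_quot_derRad hNp h)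
  have hCnot : C ∉ zpowers B := fun h => hnQ
    (TwoGroups85.isMetacyclic_of_pair (y := B) (w := A) (by rw [Set.pair_comm]; exact hQgen)
      (hcomQ.trans (zpowers_le.2 h)))
  have hγ1 : γ ≠ 1 := fun h => by
    refine hCnot ?_
    have h1 := hlift ⁅a, b⁆ (hγG ▸ h)
    rw [map_commutatorElement] at h1
    exact zpowers_le.2 (pow_mem (mem_zpowers B) 4) h1
  have hβ2 : β ^ 2 ≠ 1 := fun h => by
    have h1 := hlift (b ^ 2) (by rw [Subgroup.coe_pow, map_pow]; exact h)
    rw [map_pow] at h1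
    obtain ⟨k, hk⟩ := mem_zpowers_iff.1 h1
    refine not_gen_of_sq hNp hnN (a' := b) ha ?_ hgen
    refine (QuotientGroup.eq_one_iff _).1 ?_
    show ρ (b ^ 2) = 1
    rw [map_pow, ← hB]
    have h3 : (B ^ 2) ^ (2 * k - 1) = 1 := by
      rw [zpow_sub_one, zpow_mul, show (2 : ℤ) = ((2 : ℕ) : ℤ) from rfl, zpow_natCast, ← pow_mul,
        show 2 * 2 = 4 from rfl, hk, mul_inv_cancel]
    obtain ⟨m, hm⟩ := mem_zpowers_iff.1
      (zpowers_zpow_odd (hNp.to_quotient _) (B ^ 2) (i := 2 * k - 1) ⟨k - 1, by ring⟩)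
    rw [h3, one_zpow] at hm
    exact hm.symm
  have hβ2γ : β ^ 2 ≠ γ := fun h => by
    refine hCnot ?_
    have h1 := hlift (⁅a, b⁆ * (b ^ 2)⁻¹) (by
      rw [Subgroup.coe_mul, map_mul, Subgroup.coe_inv, map_inv, ← hγG, Subgroup.coe_pow, map_pow, ← hβ, h,
        mul_inv_cancel])
    rw [map_mul, map_commutatorElement, map_inv, map_pow, ← hA, ← hB, ← hC] at h1
    have h2 := mul_mem (zpowers_le.2 (pow_mem (mem_zpowers B) 4) h1) (pow_mem (mem_zpowers B) 2)
    rwa [inv_mul_cancel_right] at h2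
  -- normal form
  have hbf : ∀ f : ℕ, β * α ^ f = γ ^ f * α ^ f * β := by
    intro f
    induction f with
    | zero => simp
    | succ f ih =>
      rw [pow_succ' α, ← mul_assoc, hba, mul_assoc γ, mul_assoc α, ih, ← mul_assoc α, ← mul_assoc α,
        (hαγ.pow_right f).eq, mul_assoc (γ ^ f), ← mul_assoc γ, ← mul_assoc γ, ← pow_succ', ← mul_assoc]
  have hnf : ∀ q ∈ N.map π, ∃ e f k : ℕ, e < 2 ∧ f < 2 ∧ k < 4 ∧ q = γ ^ e * α ^ f * β ^ k := by
    have hred : ∀ e f k : ℕ, ∃ e' f' k' : ℕ, e' < 2 ∧ f' < 2 ∧ k' < 4 ∧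
        γ ^ e * α ^ f * β ^ k = γ ^ e' * α ^ f' * β ^ k' := fun e f k =>
      ⟨e % 2, f % 2, k % 4, Nat.mod_lt _ (by norm_num), Nat.mod_lt _ (by norm_num), Nat.mod_lt _ (by norm_num), by
        rw [← pow_eq_pow_mod e hγ2, ← pow_eq_pow_mod f hα2, ← pow_eq_pow_mod k hβ4]⟩
    have hleft : ∀ w : G ⧸ K, w = α ∨ w = β → ∀ e f k : ℕ,
        ∃ e' f' k' : ℕ, w * (γ ^ e * α ^ f * β ^ k) = γ ^ e' * α ^ f' * β ^ k' := by
      rintro w (rfl | rfl) e f k
      · exact ⟨e, f + 1, k, by rw [← mul_assoc, ← mul_assoc, (hαγ.pow_right e).eq, mul_assoc (γ ^ e),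
          ← pow_succ']⟩
      · exact ⟨e + f, f, k + 1, by
          rw [← mul_assoc, ← mul_assoc, (hβγ.pow_right e).eq, mul_assoc (γ ^ e) β, hbf, pow_succ' β, pow_add γ]
          simp only [mul_assoc]⟩
    intro q hq
    have hNgen : N.map π = closure ({α, β} : Set (G ⧸ K)) := by
      rw [hα, hβ, ← Set.image_pair, ← MonoidHom.map_closure]
      congr 1
      have := congrArg (Subgroup.map N.subtype) hgen
      rw [MonoidHom.map_closure, Set.image_pair, ← MonoidHom.range_eq_map, range_subtype] at this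
      exact this.symm
    rw [hNgen] at hq
    obtain ⟨e, f, k, rfl⟩ : ∃ e f k : ℕ, q = γ ^ e * α ^ f * β ^ k := by
      induction hq using Subgroup.closure_induction_left with
      | one => exact ⟨0, 0, 0, by simp⟩
      | mul_left x hx y _ ih =>
        obtain ⟨e, f, k, rfl⟩ := ih
        exact hleft x (by simpa using hx) e f k
      | inv_mul_cancel x hx y _ ih =>
        obtain ⟨e, f, k, rfl⟩ := ih
        rcases (by simpa using hx : x = α ∨ x = β) with rfl | rfl
        · rw [hαi]; exact hleft α (Or.inl rfl) e f k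
        · have hb3 : β⁻¹ = β * (β * β) := inv_eq_of_mul_eq_one_right (by
            rw [← hβ4]; simp only [pow_succ, pow_zero, one_mul, mul_assoc])
          rw [hb3, mul_assoc, mul_assoc]
          obtain ⟨e₁, f₁, k₁, h₁⟩ := hleft β (Or.inr rfl) e f k
          rw [h₁]
          obtain ⟨e₂, f₂, k₂, h₂⟩ := hleft β (Or.inr rfl) e₁ f₁ k₁
          rw [h₂]
          exact hleft β (Or.inr rfl) e₂ f₂ k₂
    exact hred e f k
  have hconjβα : β * α * β⁻¹ = α * γ := by
    rw [hba, ← mul_assoc, mul_inv_cancel_right, hαγ.eq]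
  have hevsq : ∀ e f : ℕ, ∀ l : ℕ, (γ ^ e * α ^ f * β ^ (2 * l)) ^ 2 = 1 := by
    intro e f l
    have hβ2α : Commute (β ^ 2) α := by
      show β ^ 2 * α = α * β ^ 2
      rw [pow_two, mul_assoc, hba, ← mul_assoc, hβγ.eq, mul_assoc γ, ← mul_assoc β, hba,
        ← mul_assoc γ, ← mul_assoc γ, ← pow_two γ, hγ2, one_mul, mul_assoc]
    rw [((hβγ.pow_pow (2 * l) e).symm.mul_left
      (by rw [pow_mul]; exact (hβ2α.pow_pow l f).symm)).mul_pow, (hαγ.pow_pow f e).symm.mul_pow,
      ← pow_mul, ← pow_mul, ← pow_mul, mul_comm e, mul_comm f, pow_mul, pow_mul α, hγ2, hα2, one_pow, one_pow,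
      show 2 * l * 2 = 4 * l by ring, pow_mul, hβ4, one_pow, one_mul, one_mul]
  -- the permutation action
  let X := {H : Subgroup (G ⧸ K) // ∃ q ∈ N.map π, q ^ 2 ≠ 1 ∧ zpowers q = H}
  haveI : Finite X := inferInstance
  haveI := Fintype.ofFinite X
  let act : G → Equiv.Perm (Subgroup (G ⧸ K)) := fun g =>
    { toFun := fun H => H.map (MulAut.conj (π g)).toMonoidHom
      invFun := fun H => H.map (MulAut.conj (π g⁻¹)).toMonoidHom
      left_inv := fun H => by
        dsimp only; rw [map_map]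
        convert H.map_id using 2
        exact MonoidHom.ext fun z => by simp [mul_assoc]
      right_inv := fun H => by
        dsimp only; rw [map_map]
        convert H.map_id using 2
        exact MonoidHom.ext fun z => by simp [mul_assoc] }
  have hmove : ∀ g : G, ∀ H : Subgroup (G ⧸ K),
      (∃ q ∈ N.map π, q ^ 2 ≠ 1 ∧ zpowers q = H) → ∃ q ∈ N.map π, q ^ 2 ≠ 1 ∧ zpowers q = act g H := by
    rintro g _ ⟨q, hq, hq2, rfl⟩
    obtain ⟨n, hn, rfl⟩ := hq
    refine ⟨π g * π n * (π g)⁻¹, ⟨g * n * g⁻¹, Subgroup.Normal.conj_mem inferInstance n hn g, by simp⟩, ?_, ?_⟩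
    · intro h; rw [conj_pow, conj_eq_one_iff] at h; exact hq2 h
    · show zpowers _ = (zpowers (π n)).map _
      rw [MonoidHom.map_zpowers]; rfl
  let toX : G → Equiv.Perm X := fun g => (act g).subtypeEquiv fun H => ⟨hmove g H, fun h => by
    have := hmove g⁻¹ _ h
    rwa [show act g⁻¹ (act g H) = H from (act g).left_inv H] at this⟩
  let ψ : G →* Equiv.Perm X := MonoidHom.mk' toX fun g h => by
    refine Equiv.ext fun H => Subtype.ext ?_
    show H.1.map (MulAut.conj (π (g * h))).toMonoidHom =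
      (H.1.map (MulAut.conj (π h)).toMonoidHom).map (MulAut.conj (π g)).toMonoidHom
    rw [map_map]
    congr 1
    exact MonoidHom.ext fun z => by simp [mul_assoc]
  let χ : G →* ℤˣ := Equiv.Perm.sign.comp ψ
  have hker : frattini G ≤ χ.ker := by
    refine CfsgLib.PGroup.frattini_le_of (p := 2) _ ?_ fun x => ?_
    · rw [_root_.commutator_def, commutator_le]
      intro p _ q _
      rw [MonoidHom.mem_ker, map_commutatorElement, commutatorElement_eq_one_iff_mul_comm]
      exact mul_comm _ _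
    · rw [MonoidHom.mem_ker, map_pow]; exact Int.units_sq _
  have hmk : ∀ q ∈ N.map π, q ^ 2 ≠ 1 → ∃ H : X, H.1 = zpowers q := fun q hq h =>
    ⟨⟨zpowers q, q, hq, h, rfl⟩, rfl⟩
  have hsq2 : (β * α) ^ 2 = γ * β ^ 2 := by
    rw [pow_two, show β * α * (β * α) = β * (α * β) * α by group, hab', ← mul_assoc, ← mul_assoc, hβγ.eq]
    rw [show γ * β * β * α * α = γ * (β * β) * (α * α) by group, ← pow_two, ← pow_two, hα2, mul_one]
  have hne2 : γ * β ^ 2 ≠ 1 := fun h => hβ2γ (by
    rw [← mul_eq_one_iff_inv_eq.1 h, hγi])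
  have hαmem : α ∈ N.map π := mem_map_of_mem π a.2
  have hβmem : β ∈ N.map π := mem_map_of_mem π b.2
  have hγmem : γ ∈ N.map π := hγG ▸ mem_map_of_mem π (⁅a, b⁆ : N).2
  obtain ⟨x₂, hx₂⟩ := hmk (β * α) (mul_mem hβmem hαmem) (hsq2 ▸ hne2)
  have hbac : (β * α * γ) ^ 2 = γ * β ^ 2 := by
    rw [((hγc _ (mul_mem b.2 a.2)).symm.trans rfl |> fun _ => (hβγ.mul_left hαγ)).mul_pow, hsq2, hγ2, mul_one]
  obtain ⟨x₃, hx₃⟩ := hmk (β * α * γ) (mul_mem (mul_mem hβmem hαmem) hγmem) (hbac ▸ hne2)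
  have hne23 : x₂ ≠ x₃ := by
    intro h
    have hmem : β * α * γ ∈ zpowers (β * α) := by
      rw [← hx₂, h, hx₃]; exact mem_zpowers _
    obtain ⟨k, hk⟩ := mem_zpowers_iff.1 hmem
    have h4 : (β * α) ^ (4 : ℤ) = 1 := by
      rw [show (4 : ℤ) = ((2 * 2 : ℕ) : ℤ) from rfl, zpow_natCast, pow_mul, hsq2,
        (hβγ.pow_left 2).symm.mul_pow, hγ2, ← pow_mul, hβ4, one_mul]
    obtain ⟨t, rfl | rfl | rfl | rfl⟩ : ∃ t, k = 4 * t ∨ k = 4 * t + 1 ∨ k = 4 * t + 2 ∨ k = 4 * t + 3 :=
      ⟨k / 4, by omega⟩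
    · rw [zpow_mul, h4, one_zpow, eq_comm, mul_eq_one_iff_eq_inv, hγi] at hk
      apply hβ2
      rw [show β = γ * α by rw [← hk, mul_assoc, ← pow_two, hα2, mul_one], hαγ.symm.mul_pow, hγ2, hα2, one_mul]
    · rw [zpow_add, zpow_mul, h4, one_zpow, one_mul, zpow_one, left_eq_mul] at hk
      exact hγ1 hk
    · rw [zpow_add, zpow_mul, h4, one_zpow, one_mul, show (2 : ℤ) = ((2 : ℕ) : ℤ) from rfl, zpow_natCast, hsq2,
        (hβγ.mul_left hαγ).eq, mul_right_inj, pow_two, mul_right_inj] at hk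
      exact hβ2 (by rw [hk, hα2])
    · rw [zpow_add, zpow_mul, h4, one_zpow, one_mul, show (3 : ℤ) = ((2 + 1 : ℕ) : ℤ) from rfl, zpow_natCast,
        pow_succ, hsq2, (hβγ.mul_left hαγ).eq, mul_assoc γ, mul_right_inj, mul_eq_right] at hk
      exact hβ2 hk
  have hswap : ψ (b : G) = Equiv.swap x₂ x₃ := by
    refine Equiv.ext fun H => ?_
    obtain ⟨H, q, hq, hq2, hH⟩ := H
    refine Subtype.ext ?_
    show H.map (MulAut.conj β).toMonoidHom = _
    obtain ⟨e, f, k, he, hf, hk, rfl⟩ := hnf q hq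
    have hodd : k = 1 ∨ k = 3 := by
      rcases Nat.even_or_odd k with ⟨l, rfl⟩ | ⟨l, rfl⟩
      · exact absurd (by rw [← two_mul]; exact hevsq e f l) hq2
      · omega
    -- reduce to `γ^e α^f β`
    obtain ⟨e', he'⟩ : ∃ e' : ℕ, zpowers (γ ^ e * α ^ f * β ^ k) = zpowers (β * α ^ f * γ ^ e') := by
      rcases hodd with rfl | rfl
      · refine ⟨e + f, ?_⟩
        congr 1
        rw [pow_one, hbf, mul_assoc (γ ^ f * α ^ f) β, (hβγ.pow_right (e + f)).eq, ← mul_assoc,
          mul_assoc (γ ^ f) (α ^ f), ((hαγ.pow_pow f (e + f))).eq, ← mul_assoc (γ ^ f), ← pow_add,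
          show f + (e + f) = e + 2 * f by omega, pow_add γ e, pow_mul γ, hγ2, one_pow, mul_one]
      · refine ⟨e, ?_⟩
        have hinv : (γ ^ e * α ^ f * β ^ 3)⁻¹ = β * α ^ f * γ ^ e := by
          rw [mul_inv_rev, mul_inv_rev, ← inv_pow, ← inv_pow α, ← inv_pow γ, hαi, hγi, inv_pow,
            show (β ^ 3)⁻¹ = β from inv_eq_of_mul_eq_one_right (by rw [← pow_succ]; exact hβ4), mul_assoc]
        rw [← hinv, zpowers_inv]
    rw [he'] at hH
    subst hH
    rw [MonoidHom.map_zpowers]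
    show zpowers (β * (β * α ^ f * γ ^ e') * β⁻¹) = _
    have hc1 : β * (β * α ^ f * γ ^ e') * β⁻¹ = β * (β * α ^ f * β⁻¹) * γ ^ e' := by
      rw [show β * (β * α ^ f * γ ^ e') * β⁻¹ = β * (β * α ^ f * β⁻¹) * (β * γ ^ e' * β⁻¹) by group,
        (hβγ.pow_right e').eq, mul_inv_cancel_right]
    rw [hc1]
    rcases (by omega : f = 0 ∨ f = 1) with rfl | rfl
    · rw [Equiv.swap_apply_of_ne_of_ne]
      · show _ = zpowers (β * α ^ 0 * γ ^ e')
        rw [pow_zero, mul_one, mul_inv_cancel, mul_one]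
      all_goals
        intro h
        have h' := congrArg Subtype.val h
        dsimp only at h'
        have hα' : α ∈ zpowers β ⊔ zpowers γ := by
          have h2 : β * α ∈ zpowers β ⊔ zpowers γ := by
            have hle : zpowers (β * α ^ 0 * γ ^ e') ≤ zpowers β ⊔ zpowers γ := zpowers_le.2 (by
              rw [pow_zero, mul_one]
              exact mul_mem (mem_sup_left (mem_zpowers β)) (pow_mem (mem_sup_right (mem_zpowers γ)) e'))
            rw [h'] at hle
            first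
              | (rw [hx₂] at hle; exact hle (mem_zpowers _))
              | (rw [hx₃] at hle
                 simpa using mul_mem (hle (mem_zpowers _)) (inv_mem (mem_sup_right (mem_zpowers γ))))
          simpa using mul_mem (inv_mem (mem_sup_left (mem_zpowers β))) h2
        have hcl : zpowers β ⊔ zpowers γ ≤ centralizer {β} :=
          sup_le (zpowers_le.2 (mem_centralizer_singleton_iff.2 rfl))
            (zpowers_le.2 (mem_centralizer_singleton_iff.2 hβγ.symm.eq))
        have h3 := mem_centralizer_singleton_iff.1 (hcl hα')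
        exact hγ1 (by rw [hγ, commutatorElement_eq_one_iff_mul_comm]; exact h3)
    · rw [show β * (β * α ^ 1 * β⁻¹) * γ ^ e' = β * α * γ ^ (e' + 1) by
        rw [pow_one, hconjβα, ← mul_assoc β α γ, mul_assoc (β * α) γ, ← pow_succ']]
      have hsub : ∀ (v : G ⧸ K) (p : ∃ q ∈ N.map π, q ^ 2 ≠ 1 ∧ zpowers q = zpowers v) (x : X),
          x.1 = zpowers v → (⟨zpowers v, p⟩ : X) = x := fun v p x hx => Subtype.ext hx.symm
      rcases Nat.even_or_odd e' with ⟨l, rfl⟩ | ⟨l, rfl⟩
      · have hγl : γ ^ (l + l) = 1 := by rw [← two_mul, pow_mul, hγ2, one_pow]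
        rw [hsub _ _ x₂ (by rw [hx₂, pow_one, hγl, mul_one]), Equiv.swap_apply_left, hx₃, pow_succ, hγl, one_mul]
      · have hγl : γ ^ (2 * l + 1) = γ := by rw [pow_succ, pow_mul, hγ2, one_pow, one_mul]
        rw [hsub _ _ x₃ (by rw [hx₃, pow_one, hγl]), Equiv.swap_apply_right, hx₂, pow_succ, hγl, ← pow_two, hγ2,
          mul_one]
  have := hker (show (b : G) ∈ frattini G from b.2)
  rw [MonoidHom.mem_ker, show χ (b : G) = Equiv.Perm.sign (ψ (b : G)) from rfl, hswap,
    Equiv.Perm.sign_swap hne23] at this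
  exact absurd this (by decide)

theorem exists_normal_four [Finite G] (hG : IsPGroup 2 G) {N : Subgroup G} [N.Normal]
    (hN : 4 ≤ Nat.card N) : ∃ L : Subgroup G, L.Normal ∧ L ≤ N ∧ Nat.card L = 4 := by
  haveI := Fact.mk Nat.prime_two
  have hNb : N ≠ ⊥ := fun h => by rw [h, card_bot] at hN; omega
  obtain ⟨z, hzN, hzc, hz1, hz2⟩ := TwoGroups85.exists_central_involution_mem hG hNb
  haveI : (zpowers z).Normal := ⟨fun w hw g => by
    have hw' : w ∈ center G := zpowers_le.2 hzc hw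
    rwa [(mem_center_iff.1 hw' g), mul_inv_cancel_right]⟩
  let π := QuotientGroup.mk' (zpowers z)
  haveI : (N.map π).Normal := Subgroup.Normal.map inferInstance π (QuotientGroup.mk'_surjective _)
  have hcz : Nat.card (zpowers z) = 2 := by rw [Nat.card_zpowers, orderOf_eq_prime hz2 hz1]
  have hne : N.map π ≠ ⊥ := fun h => by
    rw [Subgroup.map_eq_bot_iff, QuotientGroup.ker_mk'] at h
    have := card_le_of_le h
    omega
  obtain ⟨v, hvN, hvc, hv1, hv2⟩ := TwoGroups85.exists_central_involution_mem (hG.to_quotient _) hne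
  have hvle : zpowers v ≤ center _ := zpowers_le.2 hvc
  haveI : (zpowers v).Normal := ⟨fun w hw g => by
    rwa [(mem_center_iff.1 (hvle hw) g), mul_inv_cancel_right]⟩
  refine ⟨(zpowers v).comap π, inferInstance, fun g hg => ?_, ?_⟩
  · have := comap_mono (f := π) (zpowers_le.2 hvN) hg
    rwa [comap_map_eq, QuotientGroup.ker_mk', sup_of_le_left (zpowers_le.2 hzN)] at this
  · have h := ((zpowers v).comap π).card_mul_index
    rw [index_comap_of_surjective (zpowers v) (QuotientGroup.mk'_surjective _)] at h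
    have h1 := (zpowers v).card_mul_index
    have h2 := card_eq_card_quotient_mul_card_subgroup (zpowers z)
    rw [Nat.card_zpowers, orderOf_eq_prime hv2 hv1] at h1
    rw [hcz, ← h1, ← h] at h2
    refine Nat.eq_of_mul_eq_mul_right (m := (zpowers v).index) (Nat.pos_of_ne_zero index_ne_zero_of_finite) ?_
    rw [h2]; ring

/-- `Φ(G)` contains no nonabelian group of order eight. -/
theorem commute_of_card_eight [Finite G] (hG : IsPGroup 2 G) (hb : Bicyclic G) (hnm : ¬ Cfsg.IsMetacyclic G)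
    {H : Subgroup G} (hH : H ≤ frattini G) (h8 : Nat.card H = 8) : ∀ x ∈ H, ∀ y ∈ H, x * y = y * x := by
  haveI := Fact.mk Nat.prime_two
  by_contra hna
  obtain ⟨L, hLn, hLΦ, hL4⟩ := exists_normal_four hG (N := frattini G) (by have := card_le_of_le hH; omega)
  have hHp : IsPGroup 2 H := hG.to_subgroup H
  have hHnc : ¬ IsMulCommutative H := fun h => hna fun x hx y hy =>
    congrArg Subtype.val (h.is_comm.comm ⟨x, hx⟩ ⟨y, hy⟩)
  set Z : Subgroup G := (center H).map H.subtype with hZdef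
  have hZ2 : Nat.card Z = 2 := by
    rw [card_subtype]
    have h1 : Nat.card (center H) ∣ 2 ^ 3 := by
      rw [show (2 : ℕ) ^ 3 = Nat.card H by rw [h8]; rfl]
      exact card_subgroup_dvd_card _
    obtain ⟨k, hk3, hk⟩ := (Nat.dvd_prime_pow Nat.prime_two).1 h1
    have hnt : Nontrivial H := Finite.one_lt_card_iff_nontrivial.1 (by omega)
    have hk0 : k ≠ 0 := fun e => by
      have := hHp.center_nontrivial
      rw [e, pow_zero, Subgroup.card_eq_one] at hk
      exact (nontrivial_iff_ne_bot _).1 this hk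
    have hkle : k < 2 := by
      by_contra hge
      haveI : IsCyclic (H ⧸ center H) := by
        have h2 := card_eq_card_quotient_mul_card_subgroup (center H)
        rw [h8, hk] at h2
        rcases (by omega : k = 2 ∨ k = 3) with rfl | rfl
        · exact isCyclic_of_prime_card (p := 2) (by norm_num at h2; omega)
        · haveI : Subsingleton (H ⧸ center H) := Finite.card_le_one_iff_subsingleton.1 (by norm_num at h2; omega)
          infer_instance
      exact hHnc ((QuotientGroup.mk' (center H)).isMulCommutative_of_isCyclic_of_ker_le_center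
        (QuotientGroup.ker_mk' _).le)
    rw [hk, show k = 1 by omega, pow_one]
  have hLc : ∀ l ∈ L, ∀ h ∈ H, h * l = l * h := fun l hl h hh =>
    commute_of_normal_four hG hL4 (hH hh) hl
  haveI : L.Normal := hLn
  have hZH : Z ≤ H := Subgroup.map_subtype_le _
  have hZc : ∀ w ∈ Z, ∀ h ∈ H, h * w = w * h := by
    rintro _ ⟨w, hw, rfl⟩ h hh
    exact congrArg Subtype.val (mem_center_iff.1 hw ⟨h, hh⟩)
  have hq4 : Nat.card (H ⧸ center H) = 4 := by
    have h2 := card_eq_card_quotient_mul_card_subgroup (center H)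
    rw [← card_subtype, ← hZdef, hZ2, h8] at h2
    omega
  have hqc := IsPGroup.commutative_of_card_eq_prime_sq (p := 2) (G := H ⧸ center H) (by rw [hq4]; rfl)
  have hHcomm : ∀ x ∈ H, ∀ y ∈ H, ⁅x, y⁆ ∈ Z := fun x hx y hy =>
    ⟨⁅(⟨x, hx⟩ : H), ⟨y, hy⟩⁆, (QuotientGroup.eq_one_iff _).1 (by
      show QuotientGroup.mk' (center H) ⁅(⟨x, hx⟩ : H), ⟨y, hy⟩⁆ = 1
      rw [map_commutatorElement, commutatorElement_eq_one_iff_mul_comm]
      exact hqc _ _), rfl⟩
  have hHsq : ∀ x ∈ H, x ^ 2 ∈ Z := by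
    intro x hx
    refine ⟨⟨x, hx⟩ ^ 2, ?_, rfl⟩
    by_contra hx2
    have hne : (QuotientGroup.mk' (center H) ⟨x, hx⟩) ^ 2 ≠ 1 := fun h => hx2 ((QuotientGroup.eq_one_iff _).1 h)
    have hcyc : IsCyclic (H ⧸ center H) := by
      refine isCyclic_of_orderOf_eq_card (QuotientGroup.mk' (center H) ⟨x, hx⟩) ?_
      rw [hq4, show (4 : ℕ) = 2 ^ (1 + 1) from rfl]
      refine orderOf_eq_prime_pow (by simpa using hne) ?_
      have := pow_card_eq_one' (x := QuotientGroup.mk' (center H) ⟨x, hx⟩)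
      rw [hq4] at this
      exact this
    exact hHnc ((QuotientGroup.mk' (center H)).isMulCommutative_of_isCyclic_of_ker_le_center
      (QuotientGroup.ker_mk' _).le)
  let J : Subgroup G := H ⊔ L
  have hJΦ : J ≤ frattini G := sup_le hH hLΦ
  have hJm : Cfsg.IsMetacyclic J := MetaTwoFusion.isMetacyclic_of_le hJΦ (isMetacyclic_frattini hG hb hnm)
  have hJp : IsPGroup 2 J := hG.to_subgroup J
  have hJcard : Nat.card J * Nat.card (H ⊓ L : Subgroup G) = 32 := by
    have h1 : L.relIndex J = L.relIndex H := relIndex_sup_right H L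
    have h2 := relIndex_mul_relIndex ⊥ L J bot_le le_sup_right
    have h3 := relIndex_mul_relIndex ⊥ (H ⊓ L) H bot_le inf_le_left
    rw [inf_comm, inf_relIndex_right] at h3
    rw [relIndex_bot_left, relIndex_bot_left, hL4, h1] at h2
    rw [relIndex_bot_left, relIndex_bot_left, h8, inf_comm L H] at h3
    rw [← h2, mul_assoc, mul_comm (L.relIndex H), h3]
    rfl
  obtain ⟨M, hML, hM2, hMint⟩ : ∃ M : Subgroup G, M ≤ L ∧ Nat.card M = 2 ∧
      (H ⊓ L ≠ ⊥ → M = Z) := by
    by_cases hbot : H ⊓ L = ⊥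
    · obtain ⟨M, hMc⟩ := Sylow.exists_subgroup_card_pow_prime (G := L) 2 (n := 1) (by rw [hL4]; norm_num)
      exact ⟨M.map L.subtype, Subgroup.map_subtype_le _, by rw [card_subtype, hMc, pow_one], fun h => absurd hbot h⟩
    · refine ⟨Z, ?_, hZ2, fun _ => rfl⟩
      have hle : H ⊓ L ≤ Z := fun w hw => ⟨⟨w, hw.1⟩, mem_center_iff.2 fun h => Subtype.ext (hLc w hw.2 h h.2), rfl⟩
      rw [← eq_of_le_of_card_ge hle (by
        rw [hZ2]
        exact Finite.one_lt_card_iff_nontrivial.2 ((nontrivial_iff_ne_bot _).2 hbot))]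
      exact inf_le_right
  have hLsq : ∀ l ∈ L, l ^ 2 ∈ M := by
    intro l hl
    have hidx : (M.subgroupOf L).index = 2 := by
      have h1 := (M.subgroupOf L).card_mul_index
      rw [Nat.card_congr (subgroupOfEquivOfLe hML).toEquiv, hM2, hL4] at h1
      omega
    exact Subgroup.sq_mem_of_index_two hidx (⟨l, hl⟩ : L)
  let W : Subgroup J := (Z ⊔ M).subgroupOf J
  have hWJ : Z ⊔ M ≤ J := sup_le (hZH.trans le_sup_left) (hML.trans le_sup_right)
  have hLcomm : ∀ l ∈ L, ∀ l' ∈ L, l * l' = l' * l := fun l hl l' hl' =>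
    commute_of_normal_four hG hL4 (hLΦ hl) hl'
  have hsplit : ∀ x : J, ∃ h ∈ H, ∃ l ∈ L, (x : G) = h * l := fun x => by
    obtain ⟨h, hh, l, hl, e⟩ := mem_sup_of_normal_right.1 x.2
    exact ⟨h, hh, l, hl, e.symm⟩
  have hWle : frattini J ≤ W := by
    refine CfsgLib.PGroup.frattini_le_of (p := 2) W ?_ fun x => ?_
    · rw [_root_.commutator_def, commutator_le]
      intro x _ y _
      obtain ⟨h, hh, l, hl, hx⟩ := hsplit x
      obtain ⟨h', hh', l', hl', hy⟩ := hsplit y
      rw [mem_subgroupOf]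
      refine mem_sup_left ?_
      rw [show ((⁅x, y⁆ : J) : G) = ⁅(x : G), (y : G)⁆ from map_commutatorElement J.subtype x y, hx, hy]
      have c1 : Commute h' l := hLc l hl h' hh'
      have c2 : Commute l l' := hLcomm l hl l' hl'
      have c3 : Commute h l' := hLc l' hl' h hh
      have c4 : Commute h l := hLc l hl h hh
      have c5 : Commute h' l' := hLc l' hl' h' hh'
      have e : ⁅h * l, h' * l'⁆ = ⁅h, h'⁆ := by
        rw [commutatorElement_def, commutatorElement_def]
        calc h * l * (h' * l') * (h * l)⁻¹ * (h' * l')⁻¹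
            = h * h' * (l * l') * (l * h)⁻¹ * (l' * h')⁻¹ := by
              rw [mul_assoc h l, ← mul_assoc l h', ← c1.eq, c4.eq, c5.eq]; group
          _ = h * h' * (l * l') * h⁻¹ * l⁻¹ * h'⁻¹ * l'⁻¹ := by group
          _ = h * h' * h⁻¹ * (l * l') * l⁻¹ * h'⁻¹ * l'⁻¹ := by
              rw [mul_assoc (h * h') (l * l'), ((c4.inv_left).mul_right c3.inv_left).symm.eq, ← mul_assoc]
          _ = h * h' * h⁻¹ * (h'⁻¹ * (l * l' * l⁻¹)) * l'⁻¹ := by
              rw [((c1.inv_left.mul_right c5.inv_left).mul_right c1.inv_left.inv_right).eq]; group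
          _ = h * h' * h⁻¹ * h'⁻¹ := by rw [c2.eq]; group
      rw [e]
      exact hHcomm h hh h' hh'
    · obtain ⟨h, hh, l, hl, hx⟩ := hsplit x
      rw [mem_subgroupOf, Subgroup.coe_pow, hx, (show Commute h l from hLc l hl h hh).mul_pow]
      exact mul_mem (mem_sup_left (hHsq h hh)) (mem_sup_right (hLsq l hl))
  have hidx := LocalEvenSix.IsoRankTwo.index_frattini_le_of_metacyclic hJp hJm
  have hW : W.index ≤ 4 := (Nat.le_of_dvd (Nat.pos_of_ne_zero index_ne_zero_of_finite)
    (index_dvd_of_le hWle)).trans hidx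
  have hWc : Nat.card J ≤ 4 * Nat.card (Z ⊔ M : Subgroup G) := by
    rw [← W.card_mul_index, Nat.card_congr (subgroupOfEquivOfLe hWJ).toEquiv, mul_comm 4]
    exact Nat.mul_le_mul_left _ hW
  by_cases hbot : H ⊓ L = ⊥
  · rw [hbot, card_bot, mul_one] at hJcard
    have hset : ((Z ⊔ M : Subgroup G) : Set G) = (Z : Set G) * (M : Set G) := by
      refine coe_mul_of_right_le_normalizer_left Z M fun m hm => ?_
      refine mem_normalizer_fintype fun w hw => ?_
      rw [← hLc m (hML hm) w (hZH hw), mul_inv_cancel_right]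
      exact hw
    have h2 : Nat.card (Z ⊔ M : Subgroup G) ≤ 4 := by
      rw [← SetLike.coe_sort_coe, hset]
      refine Set.natCard_mul_le.trans ?_
      rw [SetLike.coe_sort_coe, SetLike.coe_sort_coe, hZ2, hM2]
    omega
  · rw [hMint hbot, sup_idem, hZ2] at hWc
    have h2 : Nat.card (H ⊓ L : Subgroup G) ≤ 2 := hZ2 ▸ card_le_of_le (fun w hw =>
      ⟨⟨w, hw.1⟩, mem_center_iff.2 fun h => Subtype.ext (hLc w hw.2 h h.2), rfl⟩)
    nlinarith

end CfsgLib.Bicyclic19
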