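import Cfsg.Agent.Lib.Fusion.SaturationCriterion
import Cfsg.Agent.Lib.Fusion.Alperin

/-!
# A saturated system with one class of essential subgroups with outer automizer of order six

Given a self-centralizing `P ≤ S` with `N_S(P) = P ∪ tP` and an automorphism `α` of order three of
`P`, inverted by `t` modulo inner automorphisms, the least system containing `α` is saturated as
soon as the centric subgroups strictly inside `P` have 2-groups as automizers.
-/

set_option autoImplicit false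
set_option linter.unusedSectionVars false

namespace CfsgLib.Bicyclic19

open Subgroup Cfsg Cfsg.FusionSystem CfsgLib.Fusion

variable {Ω : Type*} [Group Ω] {S P R : Subgroup Ω}

/-- The hypotheses on `P`, `t` and `α`. -/
structure Data (S P : Subgroup Ω) where
  le : P ≤ S
  cen : centralizerIn S P ≤ P
  t : Ω
  ht : t ∈ normalizerIn S P
  htP : t ∉ P
  norm : ∀ s ∈ normalizerIn S P, s ∈ P ∨ t⁻¹ * s ∈ P
  α : MulAut P
  cube : α ^ 3 = 1
  τ : MulAut P
  hτ : ∀ x : P, ((τ x : P) : Ω) = t * (x : Ω) * t⁻¹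
  inv : τ * α * τ⁻¹ * α ∈ Inn P
  moved : α ∉ autInducedBy S P

namespace Data

variable [Finite S] (d : Data S P)

/-- `Aut(P)/Inn(P)` projection. -/
abbrev proj : MulAut P →* MulAut P ⧸ Inn P := QuotientGroup.mk' (Inn P)

theorem proj_eq_one {a : MulAut P} : proj (P := P) a = 1 ↔ a ∈ Inn P := QuotientGroup.eq_one_iff a

theorem τ_mem : d.τ ∈ autInducedBy S P := mem_autInducedBy.mpr ⟨d.t, d.ht.1, d.hτ⟩

theorem τ_not_inn : d.τ ∉ Inn P := fun h => d.htP ((mem_inn_iff_mem d.le d.cen d.ht.1 d.hτ).mp h)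

theorem τ_sq : proj d.τ * proj d.τ = 1 := by
  rw [← map_mul, proj_eq_one]
  refine (mem_inn_iff_mem d.le d.cen (S.mul_mem d.ht.1 d.ht.1) fun x => ?_).mpr ?_
  · show ((d.τ (d.τ x) : P) : Ω) = _
    rw [d.hτ, d.hτ]; group
  · rcases d.norm _ ((normalizerIn S P).mul_mem d.ht d.ht) with h | h
    · exact h
    · rw [inv_mul_cancel_left] at h; exact absurd h d.htP

theorem mem_pair {q : MulAut P ⧸ Inn P} : q ∈ zpowers (proj d.τ) ↔ q = 1 ∨ q = proj d.τ := by
  refine ⟨fun h => ?_, ?_⟩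
  · obtain ⟨k, rfl⟩ := h
    dsimp only
    have h2 : proj d.τ ^ (2 : ℤ) = 1 := by rw [zpow_two, d.τ_sq]
    rcases Int.even_or_odd k with ⟨m, rfl⟩ | ⟨m, rfl⟩
    · left; rw [← two_mul, zpow_mul, h2, one_zpow]
    · right; rw [zpow_add, zpow_mul, h2, one_zpow, one_mul, zpow_one]
  · rintro (rfl | rfl)
    · exact one_mem _
    · exact mem_zpowers _

theorem mem_autS {a : MulAut P} : a ∈ autInducedBy S P ↔ proj a ∈ zpowers (proj d.τ) := by
  rw [d.mem_pair]
  constructor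
  · intro h
    obtain ⟨g, hg, hge⟩ := mem_autInducedBy.mp h
    have hN : g ∈ normalizerIn S P := ⟨hg, mem_normalizer_of_aut hge⟩
    rcases d.norm g hN with h1 | h1
    · exact Or.inl (proj_eq_one.mpr ((mem_inn_iff_mem d.le d.cen hg hge).mpr h1))
    · right
      have h2 : proj (d.τ⁻¹ * a) = 1 := by
        rw [proj_eq_one]
        refine (mem_inn_iff_mem d.le d.cen (S.mul_mem (S.inv_mem d.ht.1) hg) fun x => ?_).mpr h1
        have h3 := d.hτ (d.τ⁻¹ (a x))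
        rw [MulAut.apply_inv_self, hge] at h3
        show ((d.τ⁻¹ (a x) : P) : Ω) = _
        rw [show d.t⁻¹ * g * (x : Ω) * (d.t⁻¹ * g)⁻¹ = d.t⁻¹ * (g * (x : Ω) * g⁻¹) * d.t by group, h3]
        group
      rw [map_mul, map_inv, inv_mul_eq_one] at h2
      exact h2.symm
  · rintro (h | h)
    · exact inn_le_autInducedBy d.le (proj_eq_one.mp h)
    · have h1 : d.τ⁻¹ * a ∈ Inn P := by
        rw [← proj_eq_one, map_mul, map_inv, h, inv_mul_cancel]
      have h2 := (autInducedBy S P).mul_mem d.τ_mem (inn_le_autInducedBy d.le h1)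
      rwa [mul_inv_cancel_left] at h2

theorem α_cube : proj d.α ^ (3 : ℤ) = 1 := by
  rw [show (3 : ℤ) = ((3 : ℕ) : ℤ) from rfl, zpow_natCast, ← map_pow, d.cube, map_one]

theorem conj_α (k : ℤ) : proj d.τ * proj d.α ^ k = proj d.α ^ (-k) * proj d.τ := by
  have h1 : proj d.τ * proj d.α * (proj d.τ)⁻¹ = (proj d.α)⁻¹ := by
    rw [← mul_eq_one_iff_eq_inv, ← map_inv, ← map_mul, ← map_mul, ← map_mul, proj_eq_one]
    exact d.inv
  have h2 := conj_zpow (i := k) (a := proj d.τ) (b := proj d.α)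
  rw [h1, inv_zpow'] at h2
  rw [h2, inv_mul_cancel_right]

/-- The automizer of `P` in the system. -/
def gam : Subgroup (MulAut P) := (closure {proj d.τ, proj d.α}).comap proj

theorem autS_le_gam : autInducedBy S P ≤ d.gam := fun _ h =>
  (zpowers_le.mpr (subset_closure (Set.mem_insert _ _))) (d.mem_autS.mp h)

theorem α_mem : d.α ∈ d.gam := subset_closure (Set.mem_insert_of_mem _ rfl)

theorem gam_le {A : Subgroup (MulAut P)} (hA : autInducedBy S P ≤ A) (hα : d.α ∈ A) : d.gam ≤ A := by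
  have h1 : (closure {proj d.τ, proj d.α}) ≤ A.map proj := by
    rw [closure_le]
    rintro _ (rfl | rfl)
    · exact mem_map_of_mem _ (hA d.τ_mem)
    · exact mem_map_of_mem _ hα
  refine (comap_mono h1).trans ?_
  rw [comap_map_eq, QuotientGroup.ker_mk']
  exact sup_le le_rfl ((inn_le_autInducedBy d.le).trans hA)

theorem gam_cases {q : MulAut P ⧸ Inn P} (hq : q ∈ closure {proj d.τ, proj d.α}) :
    ∃ k : ℤ, q = proj d.α ^ k ∨ q = proj d.τ * proj d.α ^ k := by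
  induction hq using closure_induction with
  | mem x hx =>
    rcases hx with rfl | rfl
    · exact ⟨0, Or.inr (by rw [zpow_zero, mul_one])⟩
    · exact ⟨1, Or.inl (zpow_one _).symm⟩
  | one => exact ⟨0, Or.inl (zpow_zero _).symm⟩
  | mul x y _ _ hx hy =>
    obtain ⟨k, rfl | rfl⟩ := hx <;> obtain ⟨l, rfl | rfl⟩ := hy
    · exact ⟨k + l, Or.inl (zpow_add _ _ _).symm⟩
    · refine ⟨-k + l, Or.inr ?_⟩
      rw [← mul_assoc, zpow_add, ← mul_assoc (proj d.τ), d.conj_α, neg_neg]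
    · exact ⟨k + l, Or.inr (by rw [zpow_add, mul_assoc])⟩
    · refine ⟨-k + l, Or.inl ?_⟩
      rw [d.conj_α, mul_assoc, ← mul_assoc (proj d.τ), d.τ_sq, one_mul, zpow_add]
  | inv x _ hx =>
    obtain ⟨k, rfl | rfl⟩ := hx
    · exact ⟨-k, Or.inl (zpow_neg _ _).symm⟩
    · refine ⟨k, Or.inr ?_⟩
      rw [mul_inv_rev, inv_eq_of_mul_eq_one_right d.τ_sq, ← zpow_neg, d.conj_α]

theorem conj_not_mem {γ a : MulAut P} (hγ : γ ∈ d.gam) (hγ' : γ ∉ autInducedBy S P)
    (ha : a ∈ autInducedBy S P) (ha' : a ∉ Inn P) : γ * a * γ⁻¹ ∉ autInducedBy S P := by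
  rw [d.mem_autS] at hγ' ha ⊢
  rw [d.mem_pair, proj_eq_one] at ha
  rw [map_mul, map_mul, map_inv, ha.resolve_left ha']
  intro h
  have hT := mem_zpowers (proj d.τ)
  obtain ⟨k, hk | hk⟩ := d.gam_cases hγ <;> rw [hk] at hγ' h
  all_goals
    refine hγ' ?_
    have hc : proj d.α ^ k * proj d.τ * (proj d.α ^ k)⁻¹ ∈ zpowers (proj d.τ) := by
      first
      | exact h
      | have h' := mul_mem (mul_mem (inv_mem hT) h) hT
        convert h' using 1
        group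
    have h2 : proj d.α ^ k ∈ zpowers (proj d.τ) := by
      have h3 : proj d.α ^ k * proj d.τ * (proj d.α ^ k)⁻¹ = proj d.τ * proj d.α ^ k := by
        rw [← zpow_neg, mul_assoc, d.conj_α, neg_neg, ← mul_assoc, ← zpow_add, d.conj_α]
        congr 1
        rw [show k + k = -k + 3 * k by ring, zpow_add, zpow_mul, d.α_cube, one_zpow, mul_one]
      rw [h3] at hc
      have := mul_mem (inv_mem hT) hc
      rwa [inv_mul_cancel_left] at this
    first
    | exact h2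
    | exact mul_mem hT h2

theorem α_not_pair : proj d.α ∉ zpowers (proj d.τ) := fun h => d.moved (d.mem_autS.mpr h)

theorem card_gam : Nat.card d.gam = Nat.card (autInducedBy S P) * 3 := by
  have := finite_of_le d.le
  have := finite_mulAut d.le
  set D : Subgroup (MulAut P ⧸ Inn P) := closure {proj d.τ, proj d.α} with hD
  have hcard : ∀ A : Subgroup (MulAut P ⧸ Inn P),
      Nat.card (A.comap (proj (P := P))) = Nat.card (Inn P) * Nat.card A := by
    intro A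
    have h1 := card_mul_index (A.comap (proj (P := P)))
    rw [index_comap_of_surjective _ (QuotientGroup.mk'_surjective _), card_eq_card_quotient_mul_card_subgroup (Inn P),
      ← card_mul_index A] at h1
    exact Nat.eq_of_mul_eq_mul_right (Nat.pos_of_ne_zero index_ne_zero_of_finite) (by rw [h1]; ring)
  have hauts : autInducedBy S P = (zpowers (proj d.τ)).comap proj := by
    ext a; exact d.mem_autS
  have hτ2 : orderOf (proj d.τ) = 2 :=
    orderOf_eq_prime (by rw [pow_two, d.τ_sq]) fun h => d.τ_not_inn (proj_eq_one.mp h)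
  have hα3 : orderOf (proj d.α) = 3 :=
    haveI := Fact.mk Nat.prime_three
    orderOf_eq_prime (by rw [← map_pow, d.cube, map_one]) fun h => d.α_not_pair (h ▸ one_mem _)
  have hD6 : Nat.card D = 6 := by
    refine le_antisymm ?_ (Nat.le_of_dvd Nat.card_pos ?_)
    · have hbound : Nat.card D ≤ Nat.card (Bool × Fin 3) := by
        let g : Bool × Fin 3 → MulAut P ⧸ Inn P := fun x =>
          if x.1 then proj d.τ * proj d.α ^ (x.2 : ℕ) else proj d.α ^ (x.2 : ℕ)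
        have hmem : ∀ q ∈ D, ∃ x, g x = q := by
          intro q hq
          obtain ⟨k, hk⟩ := d.gam_cases hq
          obtain ⟨r, hr, hrk⟩ : ∃ r : ℕ, r < 3 ∧ proj d.α ^ k = proj d.α ^ r := by
            refine ⟨(k % 3).toNat, by omega, ?_⟩
            rw [← zpow_natCast, Int.toNat_of_nonneg (Int.emod_nonneg _ (by norm_num))]
            conv_lhs => rw [← Int.mul_ediv_add_emod k 3, zpow_add, zpow_mul, d.α_cube, one_zpow, one_mul]
          rcases hk with rfl | rfl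
          · exact ⟨(false, ⟨r, hr⟩), by rw [hrk]; rfl⟩
          · exact ⟨(true, ⟨r, hr⟩), by rw [hrk]; rfl⟩
        choose f hf using hmem
        exact Nat.card_le_card_of_injective (fun q : D => f q.1 q.2) fun a b e =>
          Subtype.ext (((hf _ a.2).symm.trans (congrArg g e)).trans (hf _ b.2))
      simpa using hbound
    · have h2 : 2 ∣ Nat.card D := hτ2 ▸ Subgroup.orderOf_dvd_natCard D (subset_closure (Set.mem_insert _ _))
      have h3 : 3 ∣ Nat.card D := hα3 ▸ Subgroup.orderOf_dvd_natCard D (subset_closure (Set.mem_insert_of_mem _ rfl))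
      exact Nat.Coprime.mul_dvd_of_dvd_of_dvd (by norm_num : Nat.Coprime 2 3) h2 h3
  rw [show d.gam = D.comap proj from rfl, hcard, hD6, hauts, hcard, Nat.card_zpowers, hτ2]
  ring

/-! ### The bounding system -/

/-- `R` is conjugate in `S` to a subgroup of `P`. -/
def Into (S P R : Subgroup Ω) : Prop := ∃ u ∈ S, ∀ x ∈ R, u * x * u⁻¹ ∈ P

/-- Conjugation, an element of the automizer, conjugation. -/
def Form (φ : R →* Ω) : Prop :=
  ∃ s ∈ S, ∃ r ∈ S, ∃ γ ∈ d.gam, ∀ x : R, ∃ h : r * (x : Ω) * r⁻¹ ∈ P,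
    φ x = s * ((γ ⟨r * (x : Ω) * r⁻¹, h⟩ : P) : Ω) * s⁻¹

/-- Inner maps, and wide maps of the class of `P`. -/
def boundSet (R : Subgroup Ω) : Set (R →* Ω) :=
  {φ | R ≤ S ∧ (∀ x, φ x ∈ S) ∧ Function.Injective φ ∧
    ((∃ g ∈ S, ∀ x : R, φ x = g * (x : Ω) * g⁻¹) ∨
      (Into S P R ∧ Into S P φ.range ∧ (Nat.card P ≤ Nat.card R → d.Form φ)))}

theorem comp_mem_bound {P₀ Q₀ : Subgroup Ω} {φ : P₀ →* Ω} {ψ : Q₀ →* Ω}
    (hφ : φ ∈ d.boundSet P₀) (hψ : ψ ∈ d.boundSet Q₀) (h : ∀ x : P₀, φ x ∈ Q₀) :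
    ψ.comp (φ.codRestrict Q₀ h) ∈ d.boundSet P₀ := by
  obtain ⟨hP₀, hφS, hφi, hφc⟩ := hφ
  obtain ⟨hQ₀, hψS, hψi, hψc⟩ := hψ
  have := finite_of_le d.le
  have := finite_of_le hQ₀
  have hcodi : Function.Injective (φ.codRestrict Q₀ h) := fun a b e => hφi (congrArg Subtype.val e)
  refine ⟨hP₀, fun x => hψS _, hψi.comp hcodi, ?_⟩
  have hcard : Nat.card P₀ ≤ Nat.card Q₀ := Nat.card_le_card_of_injective _ hcodi
  rcases hφc with ⟨g, hg, hge⟩ | ⟨hPi, hPr, hPf⟩ <;> rcases hψc with ⟨k, hk, hke⟩ | ⟨hQi, hQr, hQf⟩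
  · left
    refine ⟨k * g, S.mul_mem hk hg, fun x => ?_⟩
    show ψ ⟨φ x, h x⟩ = _
    rw [hke]; simp only [hge]; group
  · right
    refine ⟨?_, ?_, fun hc => ?_⟩
    · obtain ⟨u, hu, hue⟩ := hQi
      refine ⟨u * g, S.mul_mem hu hg, fun x hx => ?_⟩
      have h1 := hue _ (h ⟨x, hx⟩)
      rw [hge] at h1
      convert h1 using 1
      group
    · obtain ⟨u, hu, hue⟩ := hQr
      exact ⟨u, hu, by rintro _ ⟨x, rfl⟩; exact hue _ ⟨_, rfl⟩⟩
    · obtain ⟨s, hs, r, hr, γ, hγ, hf⟩ := hQf (hc.trans hcard)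
      refine ⟨s, hs, r * g, S.mul_mem hr hg, γ, hγ, fun x => ?_⟩
      obtain ⟨h1, h2⟩ := hf ⟨φ x, h x⟩
      have e : r * g * (x : Ω) * (r * g)⁻¹ = r * φ x * r⁻¹ := by rw [hge]; group
      refine ⟨e ▸ h1, ?_⟩
      show ψ ⟨φ x, h x⟩ = _
      rw [h2]
      congr 4
      exact Subtype.ext e.symm
  · right
    refine ⟨hPi, ?_, fun hc => ?_⟩
    · obtain ⟨u, hu, hue⟩ := hPr
      refine ⟨u * k⁻¹, S.mul_mem hu (S.inv_mem hk), ?_⟩
      rintro _ ⟨x, rfl⟩
      show u * k⁻¹ * ψ ⟨φ x, h x⟩ * (u * k⁻¹)⁻¹ ∈ P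
      rw [hke]
      convert hue (φ x) ⟨x, rfl⟩ using 1
      group
    · obtain ⟨s, hs, r, hr, γ, hγ, hf⟩ := hPf hc
      refine ⟨k * s, S.mul_mem hk hs, r, hr, γ, hγ, fun x => ?_⟩
      obtain ⟨h1, h2⟩ := hf x
      refine ⟨h1, ?_⟩
      show ψ ⟨φ x, h x⟩ = _
      rw [hke]; simp only [h2]; group
  · right
    refine ⟨hPi, ?_, fun hc => ?_⟩
    · obtain ⟨u, hu, hue⟩ := hQr
      exact ⟨u, hu, by rintro _ ⟨x, rfl⟩; exact hue _ ⟨_, rfl⟩⟩
    · obtain ⟨s, hs, r, hr, γ, hγ, hf⟩ := hPf hc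
      obtain ⟨s', hs', r', hr', γ', hγ', hf'⟩ := hQf (hc.trans hcard)
      have := finite_of_le hP₀
      have hsurj : ∀ y : P, ∃ x : P₀, r * (x : Ω) * r⁻¹ = (y : Ω) := by
        intro y
        obtain ⟨x, hx⟩ := (Function.Injective.bijective_of_nat_card_le
          (f := fun x : P₀ => (⟨r * (x : Ω) * r⁻¹, (hf x).1⟩ : P))
          (fun a b e => Subtype.ext (mul_left_cancel (mul_right_cancel (congrArg Subtype.val e)))) hc).2 y
        exact ⟨x, congrArg Subtype.val hx⟩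
      have hN : ∀ y ∈ P, r' * s * y * (r' * s)⁻¹ ∈ P := by
        intro y hy
        obtain ⟨z, hz⟩ := γ.surjective ⟨y, hy⟩
        obtain ⟨x, hx⟩ := hsurj z
        obtain ⟨h1, h2⟩ := hf x
        obtain ⟨h1', h2'⟩ := hf' ⟨φ x, h x⟩
        have e : (⟨r * (x : Ω) * r⁻¹, h1⟩ : P) = z := Subtype.ext hx
        rw [e, hz] at h2
        convert h1' using 1
        show r' * s * y * (r' * s)⁻¹ = r' * φ x * r'⁻¹
        rw [h2]; group
      obtain ⟨a, ha, hae⟩ := exists_autInducedBy (K := S) (S.mul_mem hr' hs) (mem_normalizer_of_forall hN)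
      refine ⟨s', hs', r, hr, γ' * a * γ, mul_mem (mul_mem hγ' (d.autS_le_gam ha)) hγ, fun x => ?_⟩
      obtain ⟨h1, h2⟩ := hf x
      obtain ⟨h1', h2'⟩ := hf' ⟨φ x, h x⟩
      refine ⟨h1, ?_⟩
      show ψ ⟨φ x, h x⟩ = _
      rw [h2']
      show _ = s' * ((γ' (a (γ _)) : P) : Ω) * s'⁻¹
      congr 4
      refine Subtype.ext ?_
      show r' * φ x * r'⁻¹ = ((a (γ _) : P) : Ω)
      rw [hae, h2]; group

theorem inv_mem_bound {φ : R →* Ω} (hφ : φ ∈ d.boundSet R) :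
    ∃ ψ ∈ d.boundSet φ.range, ∀ x : R, ψ ⟨φ x, ⟨x, rfl⟩⟩ = (x : Ω) := by
  obtain ⟨hR, hφS, hφi, hφc⟩ := hφ
  let ψ : φ.range →* Ω := R.subtype.comp (MonoidHom.ofInjective hφi).symm.toMonoidHom
  have hψ : ∀ x : R, ψ ⟨φ x, ⟨x, rfl⟩⟩ = (x : Ω) := fun x => by
    show (((MonoidHom.ofInjective hφi).symm ⟨φ x, ⟨x, rfl⟩⟩ : R) : Ω) = x
    congr 1
    exact (MulEquiv.symm_apply_eq _).mpr (Subtype.ext rfl)
  refine ⟨ψ, ⟨?_, ?_, ?_, ?_⟩, hψ⟩
  · rintro _ ⟨x, rfl⟩; exact hφS x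
  · rintro ⟨_, x, rfl⟩; rw [hψ]; exact hR x.2
  · rintro ⟨_, x, rfl⟩ ⟨_, y, rfl⟩ e
    rw [hψ, hψ] at e
    exact Subtype.ext (congrArg φ (Subtype.ext e))
  rcases hφc with ⟨g, hg, hge⟩ | ⟨hi, hr', hf⟩
  · left
    refine ⟨g⁻¹, S.inv_mem hg, ?_⟩
    rintro ⟨_, x, rfl⟩
    rw [hψ]; show (x : Ω) = g⁻¹ * φ x * g⁻¹⁻¹
    rw [hge]; group
  · right
    refine ⟨hr', ?_, fun hc => ?_⟩
    · obtain ⟨u, hu, hue⟩ := hi
      refine ⟨u, hu, ?_⟩
      rintro _ ⟨⟨_, x, rfl⟩, rfl⟩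
      rw [hψ]; exact hue _ x.2
    · have hc' : Nat.card P ≤ Nat.card R := by
        rwa [← Nat.card_congr (MonoidHom.ofInjective hφi).toEquiv] at hc
      obtain ⟨s, hs, r, hr, γ, hγ, hform⟩ := hf hc'
      refine ⟨r⁻¹, S.inv_mem hr, s⁻¹, S.inv_mem hs, γ⁻¹, inv_mem hγ, ?_⟩
      rintro ⟨_, x, rfl⟩
      obtain ⟨h1, h2⟩ := hform x
      have e : s⁻¹ * φ x * s⁻¹⁻¹ = ((γ ⟨r * (x : Ω) * r⁻¹, h1⟩ : P) : Ω) := by rw [h2]; group
      refine ⟨e ▸ (γ _).2, ?_⟩
      rw [hψ]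
      have e' : γ⁻¹ (⟨s⁻¹ * φ x * s⁻¹⁻¹, e ▸ (γ _).2⟩ : P) = ⟨r * (x : Ω) * r⁻¹, h1⟩ := by
        rw [show (⟨s⁻¹ * φ x * s⁻¹⁻¹, e ▸ (γ _).2⟩ : P) = γ ⟨r * (x : Ω) * r⁻¹, h1⟩ from Subtype.ext e,
          MulAut.inv_apply_self]
      rw [e']; group

/-- The bounding system. -/
def bound : FusionSystem S where
  Hom := d.boundSet
  le_of_mem h := ⟨h.1, h.2.1⟩
  injective_of_mem h := h.2.2.1
  conj_mem := by
    intro R g hR hg
    refine ⟨hR, fun x => S.mul_mem (S.mul_mem hg (hR x.2)) (S.inv_mem hg), fun a b e => ?_,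
      Or.inl ⟨g, hg, fun x => rfl⟩⟩
    exact Subtype.ext (mul_left_cancel (mul_right_cancel e))
  comp_mem := d.comp_mem_bound
  inv_mem := d.inv_mem_bound

theorem α_mem_bound : P.subtype.comp d.α.toMonoidHom ∈ d.bound.Hom P := by
  refine ⟨d.le, fun x => d.le (d.α x).2, Subtype.val_injective.comp d.α.injective, Or.inr
    ⟨⟨1, S.one_mem, fun x hx => by simpa using hx⟩, ⟨1, S.one_mem, ?_⟩, fun _ => ?_⟩⟩
  · rintro _ ⟨x, rfl⟩; simp
  · refine ⟨1, S.one_mem, 1, S.one_mem, d.α, d.α_mem, fun x => ⟨by simp, ?_⟩⟩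
    simp

/-- The least system containing `α`. -/
def sys : FusionSystem S where
  Hom R := {φ | ∀ E : FusionSystem S, P.subtype.comp d.α.toMonoidHom ∈ E.Hom P → φ ∈ E.Hom R}
  le_of_mem h := d.bound.le_of_mem (h _ d.α_mem_bound)
  injective_of_mem h := d.bound.injective_of_mem (h _ d.α_mem_bound)
  conj_mem hR hg := fun E _ => E.conj_mem hR hg
  comp_mem h1 h2 h := fun E hE => E.comp_mem (h1 E hE) (h2 E hE) h
  inv_mem := by
    intro R φ hφ
    obtain ⟨ψ, -, hψ⟩ := d.bound.inv_mem (hφ _ d.α_mem_bound)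
    refine ⟨ψ, fun E hE => ?_, hψ⟩
    obtain ⟨ψ', hψ', hψe⟩ := E.inv_mem (hφ E hE)
    have he : ψ = ψ' := MonoidHom.ext fun y => by
      obtain ⟨_, x, rfl⟩ := y
      rw [hψ, hψe]
    rwa [he]

theorem α_mem_sys : P.subtype.comp d.α.toMonoidHom ∈ d.sys.Hom P := fun _ h => h

theorem sys_le {E : FusionSystem S} (h : P.subtype.comp d.α.toMonoidHom ∈ E.Hom P) :
    d.sys ≤ E := fun _ _ hφ => hφ E h

theorem not_into_of_card_lt (d : Data S P) (hc : Nat.card P < Nat.card R) : ¬ Into S P R := by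
  rintro ⟨u, _, hu⟩
  have := finite_of_le d.le
  refine absurd (Nat.card_le_card_of_injective (fun x : R => (⟨u * (x : Ω) * u⁻¹, hu x x.2⟩ : P))
    fun a b e => Subtype.ext (mul_left_cancel (mul_right_cancel (congrArg Subtype.val e)))) (not_le.mpr hc)

theorem sys_inner (h : ¬ Into S P R) {φ : R →* Ω} (hφ : φ ∈ d.sys.Hom R) :
    ∃ g ∈ S, ∀ x : R, φ x = g * (x : Ω) * g⁻¹ :=
  (hφ _ d.α_mem_bound).2.2.2.elim id fun h' => absurd h'.1 h

theorem autGroup_eq_of_not_into (hR : R ≤ S) (h : ¬ Into S P R) :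
    d.sys.autGroup R = autInducedBy S R :=
  le_antisymm (fun a ha => by
    obtain ⟨g, hg, hge⟩ := d.sys_inner h ((mem_autGroup hR).mp ha)
    exact mem_autInducedBy.mpr ⟨g, hg, hge⟩) (autInducedBy_le_autGroup hR)

theorem P_lt (d : Data S P) : P < S :=
  lt_of_le_of_ne d.le fun h => d.htP (h ▸ d.ht.1)

theorem not_into_S (d : Data S P) : ¬ Into S P S := by
  have := finite_of_le d.le
  refine d.not_into_of_card_lt (lt_of_not_ge fun h => d.P_lt.ne (eq_of_le_of_card_le d.le h))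

/-- A map onto `P` is an element of the automizer after a conjugation. -/
theorem onto_form {φ : R →* Ω} (hφ : φ ∈ d.sys.Hom R) (hr : φ.range = P) :
    ∃ r ∈ S, ∃ γ ∈ d.gam, ∀ x : R, ∃ h : r * (x : Ω) * r⁻¹ ∈ P, φ x = ((γ ⟨_, h⟩ : P) : Ω) := by
  have hb := hφ _ d.α_mem_bound
  have := finite_of_le d.le
  rcases hb.2.2.2 with ⟨g, hg, hge⟩ | ⟨-, -, hf⟩
  · exact ⟨g, hg, 1, one_mem _, fun x => ⟨hge x ▸ hr.le ⟨x, rfl⟩, hge x⟩⟩
  · have hc : Nat.card P ≤ Nat.card R := by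
      rw [← hr, Nat.card_congr (MonoidHom.ofInjective hb.2.2.1).toEquiv]
    obtain ⟨s, hs, r, hr', γ, hγ, hf⟩ := hf hc
    have := finite_of_le hb.1
    have hN : ∀ y ∈ P, s * y * s⁻¹ ∈ P := by
      intro y hy
      obtain ⟨z, hz⟩ := γ.surjective ⟨y, hy⟩
      obtain ⟨x, hx⟩ := (Function.Injective.bijective_of_nat_card_le
        (f := fun x : R => (⟨r * (x : Ω) * r⁻¹, (hf x).1⟩ : P))
        (fun a b e => Subtype.ext (mul_left_cancel (mul_right_cancel (congrArg Subtype.val e)))) hc).2 z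
      obtain ⟨h1, h2⟩ := hf x
      have e : (⟨r * (x : Ω) * r⁻¹, h1⟩ : P) = z := hx
      rw [e, hz] at h2
      exact h2 ▸ hr.le ⟨x, rfl⟩
    obtain ⟨a, ha, hae⟩ := exists_autInducedBy (K := S) hs (mem_normalizer_of_forall hN)
    refine ⟨r, hr', a * γ, mul_mem (d.autS_le_gam ha) hγ, fun x => ?_⟩
    obtain ⟨h1, h2⟩ := hf x
    exact ⟨h1, by rw [h2]; exact (hae _).symm⟩

theorem autGroup_P : d.sys.autGroup P = d.gam := by
  refine le_antisymm (fun a ha => ?_)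
    (d.gam_le (autInducedBy_le_autGroup d.le) ((mem_autGroup d.le).mpr d.α_mem_sys))
  have := finite_of_le d.le
  obtain ⟨r, hr, γ, hγ, hf⟩ := d.onto_form ((mem_autGroup d.le).mp ha) (autMap_range a)
  obtain ⟨b, hb, hbe⟩ := exists_autInducedBy (K := S) hr
    (mem_normalizer_of_forall fun y hy => (hf ⟨y, hy⟩).1)
  have he : a = γ * b := MulEquiv.ext fun x => Subtype.ext (by
    obtain ⟨h, h'⟩ := hf x
    rw [autMap_apply] at h'
    rw [h']
    show ((γ _ : P) : Ω) = ((γ (b x) : P) : Ω)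
    congr 2
    exact Subtype.ext (hbe x).symm)
  rw [he]
  exact mul_mem hγ (d.autS_le_gam hb)

theorem fullyAutomized_P (hS : IsPGroup 2 S) : d.sys.IsFullyAutomized 2 P := by
  haveI := Fact.mk Nat.prime_two
  have := finite_of_le d.le
  have := finite_mulAut d.le
  refine fullyAutomized_iff.mpr ⟨d.le, ?_⟩
  obtain ⟨m, hm⟩ := IsPGroup.iff_card.mp (isPGroup_autInducedBy hS P)
  rw [d.autGroup_P, d.card_gam, hm, Nat.factorization_mul (by positivity) (by norm_num)]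
  simp [Nat.Prime.factorization_pow Nat.prime_two, Nat.Prime.factorization Nat.prime_three]

theorem receptive_P : d.sys.IsReceptive P := by
  refine ⟨d.le, fun R φ hφ hr => ?_⟩
  have hR := le_S hφ
  obtain ⟨r, hr', γ, hγ, hf⟩ := d.onto_form hφ hr
  have := finite_of_le d.le
  by_cases hγS : γ ∈ autInducedBy S P
  · obtain ⟨h, hh, hhe⟩ := mem_autInducedBy.mp hγS
    refine ⟨_, d.sys.conj_mem (extender_le_normalizerIn.trans normalizerIn_le) (S.mul_mem hh hr'),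
      fun x hP hN => ?_⟩
    obtain ⟨h1, h2⟩ := hf ⟨x, hP⟩
    rw [h2, hhe, conjHom_apply]
    show h * r * x * (h * r)⁻¹ = _
    group
  have := finite_of_le hR
  have hle : extender S R φ ≤ R := by
    intro g hg
    obtain ⟨hgS, hgN, h, hh, hhe⟩ := mem_extender.mp hg
    have hgx : ∀ x : R, g * (x : Ω) * g⁻¹ ∈ R := fun x => (mem_normalizer_iff.mp hgN x).mp x.2
    have hbij : ∀ y : P, ∃ x : R, r * (x : Ω) * r⁻¹ = y := by
      intro y
      obtain ⟨w, hw⟩ := hr.ge (γ y).2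
      obtain ⟨h1, h2⟩ := hf w
      exact ⟨w, congrArg Subtype.val (γ.injective (Subtype.ext (h2.symm.trans hw)) :
        (⟨r * (w : Ω) * r⁻¹, h1⟩ : P) = y)⟩
    have hN1 : ∀ y ∈ P, r * g * r⁻¹ * y * (r * g * r⁻¹)⁻¹ ∈ P := by
      intro y hy
      obtain ⟨x, hx⟩ := hbij ⟨y, hy⟩
      convert (hf ⟨_, hgx x⟩).1 using 1
      show r * g * r⁻¹ * y * (r * g * r⁻¹)⁻¹ = r * (g * (x : Ω) * g⁻¹) * r⁻¹
      change r * (x : Ω) * r⁻¹ = y at hx
      rw [← hx]; group
    have hN2 : ∀ y ∈ P, h * y * h⁻¹ ∈ P := by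
      intro y hy
      obtain ⟨x, rfl⟩ := hr.ge hy
      rw [← hhe x (hgx x)]
      exact hr.le ⟨_, rfl⟩
    obtain ⟨a, ha, hae⟩ := exists_autInducedBy (K := S) (S.mul_mem (S.mul_mem hr' hgS) (S.inv_mem hr'))
      (mem_normalizer_of_forall hN1)
    obtain ⟨b, hb, hbe⟩ := exists_autInducedBy (K := S) hh (mem_normalizer_of_forall hN2)
    have hrel : b * γ = γ * a := MulEquiv.ext fun y => Subtype.ext (by
      obtain ⟨x, hx⟩ := hbij y
      obtain ⟨h1, h2⟩ := hf x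
      obtain ⟨h3, h4⟩ := hf ⟨_, hgx x⟩
      have e1 : y = ⟨r * (x : Ω) * r⁻¹, h1⟩ := Subtype.ext hx.symm
      have e2 : a y = ⟨r * (g * (x : Ω) * g⁻¹) * r⁻¹, h3⟩ := Subtype.ext (by
        rw [hae]; show _ = r * (g * (x : Ω) * g⁻¹) * r⁻¹
        rw [← hx]; group)
      show ((b (γ y) : P) : Ω) = ((γ (a y) : P) : Ω)
      rw [hbe, e2, ← h4, hhe x (hgx x), h2, ← e1])
    have hinn : a ∈ Inn P := by
      by_contra hne
      exact d.conj_not_mem hγ hγS ha hne (by rw [← hrel, mul_inv_cancel_right]; exact hb)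
    have hmem := (mem_inn_iff_mem d.le d.cen (S.mul_mem (S.mul_mem hr' hgS) (S.inv_mem hr')) hae).mp hinn
    obtain ⟨x, hx⟩ := hbij ⟨_, hmem⟩
    have hx' : (x : Ω) = g := by simpa using hx
    exact hx' ▸ x.2
  exact ⟨_, restrict_mem hle hφ, fun x hP hN => rfl⟩

theorem fullyAutomized_S (hS : IsPGroup 2 S) : d.sys.IsFullyAutomized 2 S := by
  haveI := Fact.mk Nat.prime_two
  have := finite_mulAut (le_refl S)
  refine fullyAutomized_iff.mpr ⟨le_rfl, ?_⟩
  rw [d.autGroup_eq_of_not_into le_rfl d.not_into_S]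
  obtain ⟨m, hm⟩ := IsPGroup.iff_card.mp (isPGroup_autInducedBy hS S)
  rw [hm, Nat.Prime.factorization_pow Nat.prime_two, Finsupp.single_eq_same]

theorem receptive_S : d.sys.IsReceptive S := by
  refine ⟨le_rfl, fun R φ hφ hr => ?_⟩
  obtain rfl : R = S := eq_of_le_of_card_le (le_S hφ) (by rw [← card_range hφ, hr])
  obtain ⟨g, hg, hge⟩ := d.sys_inner d.not_into_S hφ
  refine ⟨_, d.sys.conj_mem (extender_le_normalizerIn.trans normalizerIn_le) hg, fun x hP hN => ?_⟩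
  rw [hge, conjHom_apply]

/-- The system is saturated and not inner. -/
theorem exists_system (hS : IsPGroup 2 S)
    (hsmall : ∀ Q : Subgroup Ω, Q < P → centralizerIn S Q ≤ Q → IsPGroup 2 (d.sys.autGroup Q)) :
    ∃ F : FusionSystem S, F.IsSaturated 2 ∧
      ¬ ∀ P : Subgroup Ω, F.Hom P = (innerFusionSystem S).Hom P := by
  haveI := Fact.mk Nat.prime_two
  have := finite_of_le d.le
  refine ⟨d.sys, SatCrit.saturated_of_family hS (ℋ := insert S {Q | d.sys.IsConj P Q}) ?_ ?_ ?_ ?_, ?_⟩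
  · rintro Q (rfl | hQ) R hR
    · exact Or.inl (eq_of_le_of_card_le (IsConj.le_right hR) (IsConj.card_eq hR).ge)
    · exact Or.inr (isConj_trans hQ hR)
  · rintro Q (rfl | hQ)
    · exact ⟨_, isConj_refl le_rfl, d.fullyAutomized_S hS, d.receptive_S⟩
    · exact ⟨P, isConj_symm hQ, d.fullyAutomized_P hS, d.receptive_P⟩
  · exact fun E hE => d.sys_le (hE P (Or.inr (isConj_refl d.le)) d.α_mem_sys)
  · intro Q hQ hQH
    have key : ∀ Q' : Subgroup Ω, d.sys.IsConj Q Q' → Q' ≠ S → IsPGroup 2 (d.sys.autGroup Q') →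
        centralizerIn S Q' ≤ Q' →
        ¬ (autInducedBy S Q' ⊓ (pCore 2 (d.sys.autGroup Q')).map (d.sys.autGroup Q').subtype ≤ Inn Q') := by
      intro Q' hc hne h2 hcen hle
      rw [PCore.pCore_eq_self_of_isPGroup h2, ← MonoidHom.range_eq_map, range_subtype,
        inf_of_le_left (autInducedBy_le_autGroup (IsConj.le_right hc))] at hle
      obtain ⟨g, hg, hgQ⟩ := Set.exists_of_ssubset
        (lt_normalizerIn hS le_rfl (lt_of_le_of_ne (IsConj.le_right hc) hne) (p := 2))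
      obtain ⟨a, ha, hae⟩ := exists_autInducedBy hg.1 hg.2
      exact hgQ ((mem_inn_iff_mem (IsConj.le_right hc) hcen hg.1 hae).mp (hle ha))
    have hQne : Q ≠ S := fun h => hQH (Or.inl h)
    by_cases hi : Into S P Q
    · obtain ⟨u, hu, hue⟩ := hi
      have hc : d.sys.IsConj Q (conjHom Q u).range := ⟨_, d.sys.conj_mem hQ.1 hu, rfl⟩
      have hle : (conjHom Q u).range ≤ P := by rintro _ ⟨x, rfl⟩; exact hue _ x.2
      have hlt : (conjHom Q u).range < P :=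
        lt_of_le_of_ne hle fun h => hQH (Or.inr (isConj_symm (h ▸ hc)))
      exact ⟨_, hc, key _ hc (lt_trans hlt d.P_lt).ne (hsmall _ hlt (hQ.2 _ hc)) (hQ.2 _ hc)⟩
    · refine ⟨Q, isConj_refl hQ.1, key _ (isConj_refl hQ.1) hQne ?_ (hQ.2 _ (isConj_refl hQ.1))⟩
      rw [d.autGroup_eq_of_not_into hQ.1 hi]
      exact isPGroup_autInducedBy hS Q
  · intro h
    obtain ⟨-, g, hg, hge⟩ := (h P) ▸ d.α_mem_sys
    exact d.moved (mem_autInducedBy.mpr ⟨g, hg, hge⟩)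

/-- The side condition holds when `P` is abelian. -/
theorem small_of_comm (hP : ∀ x ∈ P, ∀ y ∈ P, x * y = y * x) (Q : Subgroup Ω) (hQ : Q < P)
    (hc : centralizerIn S Q ≤ Q) : IsPGroup 2 (d.sys.autGroup Q) :=
  absurd ((fun x hx => hc (mem_centralizerIn.mpr ⟨d.le hx, fun y hy => hP y (hQ.le hy) x hx⟩)) : P ≤ Q)
    hQ.not_ge

end Data

end CfsgLib.Bicyclic19
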