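import Cfsg.Agent.Lib.Bicyclic19.Ctx

/-!
# `T = [P, θ]` is abelian when `θ` moves `Φ(T)`
-/

set_option autoImplicit false
set_option linter.style.haveILetI false
set_option linter.unusedSectionVars false

namespace CfsgLib.Bicyclic19

open Subgroup
open scoped commutatorElement

universe u

variable {G : Type u} [Group G]

namespace Ctx

variable {P : Subgroup G} {g : G} {θ : G → G} (h : Ctx P g θ) [Finite G] (hG : IsPGroup 2 G) (hb : Bicyclic G)
  (hnm : ¬ Cfsg.IsMetacyclic G)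

include h hG hb hnm

theorem omega_list {X : Subgroup G} (hX : X ≤ frattini G) (l : List G) (hl : l.Nodup)
    (hl' : ∀ y ∈ l, y ∈ X ∧ y * y = 1) : l.length ≤ 4 := by
  classical
  have := Fintype.ofFinite (omega hG hb hnm)
  have h4 := card_omega_le hG hb hnm
  rw [Nat.card_eq_fintype_card] at h4
  have h5 := List.Nodup.length_le_card (α := omega hG hb hnm)
    (hl.pmap (f := fun y hy => (⟨y, hy⟩ : omega hG hb hnm))
      (H := fun y hy => ⟨hX (hl' y hy).1, (hl' y hy).2⟩) fun _ _ _ _ e => congrArg Subtype.val e)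
  exact (le_of_eq List.length_pmap.symm).trans (h5.trans h4)

/-- The commutators of `T` lie in `M` when `T` centralises `Φ(T)` modulo `M` and `θ` has no fixed
points on `Φ(T)` modulo `M`. -/
theorem comm_mem {M : Subgroup G} (hMc : ∀ u ∈ T P θ, ∀ v ∈ M, u * v * u⁻¹ ∈ M)
    (hMb : ∀ u ∈ T P θ, ∀ b ∈ closure (sqs (T P θ)), u * b * u⁻¹ * b⁻¹ ∈ M)
    (hfix : ∀ v ∈ closure (sqs (T P θ)), v⁻¹ * θ v ∈ M → v ∈ M) :
    ∀ u ∈ T P θ, ∀ w ∈ T P θ, u * w * u⁻¹ * w⁻¹ ∈ M := by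
  set B := closure (sqs (T P θ))
  obtain ⟨hfpf, hlay⟩ := h.layer hG hb hnm
  obtain ⟨t, ht, htB⟩ := SetLike.not_le_iff_exists.1 (h.T_ne hG)
  set M' := M.subgroupOf (T P θ) with hM'
  haveI : M'.Normal := ⟨fun v hv y => hMc _ y.2 _ hv⟩
  let π : ↥(T P θ) →* ↥(T P θ) ⧸ M' := QuotientGroup.mk' M'
  have hπ : ∀ u, π u = 1 ↔ (u : G) ∈ M := fun u => QuotientGroup.eq_one_iff u
  have hcen : ∀ b : T P θ, (b : G) ∈ B → ∀ q, Commute (π b) q := fun b hb' q => by
    obtain ⟨u, rfl⟩ := QuotientGroup.mk'_surjective M' q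
    refine (mul_inv_eq_iff_eq_mul.1 ?_).symm
    rw [← _root_.map_inv, ← _root_.map_mul, ← _root_.map_mul, ← mul_inv_eq_one, ← _root_.map_inv,
      ← _root_.map_mul, hπ]
    exact hMb _ u.2 _ hb'
  have hθt := h.T_map ht
  have hθθt := h.T_map hθt
  let x : T P θ := ⟨t, ht⟩
  let y : T P θ := ⟨θ t, hθt⟩
  let b : T P θ := ⟨t * θ t * θ (θ t), mul_mem (mul_mem ht hθt) hθθt⟩
  have hbB : (b : G) ∈ B := (hlay t ht htB).1
  set e : G := t * θ t * t⁻¹ * (θ t)⁻¹ with he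
  have heB : e ∈ B := comm_mem_sqs ht hθt
  have heM : e ∈ M := by
    refine hfix e heB ?_
    have h1 : ((x * y * x⁻¹ * y⁻¹ : T P θ) : G) = e := rfl
    have hθe : θ e = θ t * θ (θ t) * (θ t)⁻¹ * (θ (θ t))⁻¹ := by
      have hP := h.T_le ht
      have hP' := h.T_le hθt
      rw [he, h.mul _ (mul_mem (mul_mem hP hP') (inv_mem hP)) _ (inv_mem hP'),
        h.mul _ (mul_mem hP hP') _ (inv_mem hP), h.mul _ hP _ hP', h.map_inv hP, h.map_inv hP']
    let z : T P θ := ⟨θ (θ t), hθθt⟩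
    have hz : z = y⁻¹ * x⁻¹ * b := Subtype.ext (by
      show θ (θ t) = (θ t)⁻¹ * t⁻¹ * (t * θ t * θ (θ t))
      group)
    have key : π (y * z * y⁻¹ * z⁻¹) = π (x * y * x⁻¹ * y⁻¹) := by
      have hb' := hcen b hbB
      have hec : Commute (π (x * y * x⁻¹ * y⁻¹)) ((π x)⁻¹ * (π y)⁻¹) := hcen _ heB _
      rw [hz]
      simp only [_root_.map_mul, _root_.map_inv] at hec ⊢
      calc π y * ((π y)⁻¹ * (π x)⁻¹ * π b) * (π y)⁻¹ * ((π y)⁻¹ * (π x)⁻¹ * π b)⁻¹
          = (π x)⁻¹ * (π b * (π y)⁻¹) * (π b)⁻¹ * π x * π y := by group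
        _ = ((π x)⁻¹ * (π y)⁻¹) * (π x * π y * (π x)⁻¹ * (π y)⁻¹) * ((π x)⁻¹ * (π y)⁻¹)⁻¹ := by
            rw [(hb' _).eq]; group
        _ = π x * π y * (π x)⁻¹ * (π y)⁻¹ := by rw [← hec.eq, mul_inv_cancel_right]
    have h2 : π ((x * y * x⁻¹ * y⁻¹)⁻¹ * (y * z * y⁻¹ * z⁻¹)) = 1 := by
      rw [_root_.map_mul, key, _root_.map_inv, inv_mul_cancel]
    have h3 := (hπ _).1 h2
    rw [hθe]
    exact h3
  have hxy : Commute (π x) (π y) := by
    have h1 : π (x * y * x⁻¹ * y⁻¹) = 1 := (hπ _).2 heM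
    simp only [_root_.map_mul, _root_.map_inv] at h1
    exact mul_inv_eq_iff_eq_mul.1 (mul_inv_eq_one.1 h1)
  let z₀ : T P θ := y⁻¹ * x⁻¹ * b
  have hz₀ : (z₀ : G) = θ (θ t) := by
    show (θ t)⁻¹ * t⁻¹ * (t * θ t * θ (θ t)) = θ (θ t)
    group
  have hcov : ∀ w : T P θ, ∀ q, Commute q (π x) → Commute q (π y) → Commute q (π w) := by
    intro w q hqx hqy
    have hcl : ∀ v : T P θ, Commute q (π v) → (v : G)⁻¹ * (w : G) ∈ B → Commute q (π w) := fun v hv hr => by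
      rw [← mul_inv_cancel_left v w, _root_.map_mul]
      exact hv.mul_right (hcen (v⁻¹ * w) hr q).symm
    rcases (hlay t ht htB).2 _ w.2 with e' | e' | e' | e'
    · exact (hcen w e' q).symm
    · exact hcl x hqx e'
    · exact hcl y hqy e'
    · refine hcl z₀ ?_ (by rw [hz₀]; exact e')
      show Commute q (π (y⁻¹ * x⁻¹ * b))
      rw [_root_.map_mul, _root_.map_mul, _root_.map_inv, _root_.map_inv]
      exact (hqy.inv_right.mul_right hqx.inv_right).mul_right (hcen b hbB q).symm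
  intro u hu w hw
  have hcomm : ∀ u' w' : T P θ, Commute (π u') (π w') := by
    intro u' w'
    exact hcov w' _ (hcov u' _ (Commute.refl _) hxy).symm (hcov u' _ hxy.symm (Commute.refl _)).symm
  have h1 : π (⟨u, hu⟩ * ⟨w, hw⟩ * ⟨u, hu⟩⁻¹ * ⟨w, hw⟩⁻¹) = 1 := by
    rw [_root_.map_mul, _root_.map_mul, _root_.map_mul, _root_.map_inv, _root_.map_inv,
      (hcomm ⟨u, hu⟩ ⟨w, hw⟩).eq]
    group
  exact (hπ _).1 h1

/-- When `θ` moves `Φ(T)`, the subgroup `T` is abelian with fixed-point-free `θ`, and `Φ(T)`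
contains a moved involution. -/
theorem abelian_of_B_moved (hmv : ∃ v ∈ closure (sqs (T P θ)), θ v ≠ v) :
    (∀ u ∈ T P θ, ∀ w ∈ T P θ, u * w = w * u) ∧ (∀ u ∈ T P θ, θ u = u → u = 1) ∧
      ∃ e ∈ closure (sqs (T P θ)), e * e = 1 ∧ θ e ≠ e := by
  haveI := Fact.mk Nat.prime_two
  set B := closure (sqs (T P θ)) with hB
  have hBT : B ≤ T P θ := sqs_closure_le _
  have hBP : B ≤ P := hBT.trans h.T_le
  have hBF : B ≤ frattini G := sqs_le_frattini hG _
  have hmulB : ∀ x ∈ B, ∀ y ∈ B, θ (x * y) = θ x * θ y := fun x hx y hy => h.mul x (hBP hx) y (hBP hy)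
  have hcubeB : ∀ x ∈ B, θ (θ (θ x)) = x := fun x hx => h.cube x (hBP hx)
  have hmemB : ∀ x ∈ B, θ x ∈ B := fun x hx => h.B_map hG hx
  have hBc := comm_of_moved hG hb hnm hBF hmemB hmulB hcubeB hmv
  obtain ⟨hfpf, e₀, he₀, he₀2, -, he₀θ⟩ :=
    fpf_of_moved hG hBc hmemB hmulB hcubeB (fun l => h.omega_list hG hb hnm hBF l) hmv
  obtain ⟨hlfix, hlay⟩ := h.layer hG hb hnm
  -- norms are trivial
  have hnorm : ∀ v ∈ B, v * θ v * θ (θ v) = 1 := fun v hv => by
    refine hfpf _ (mul_mem (mul_mem hv (hmemB v hv)) (hmemB _ (hmemB v hv))) ?_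
    rw [hmulB _ (mul_mem hv (hmemB v hv)) _ (hmemB _ (hmemB v hv)), hmulB _ hv _ (hmemB v hv), hcubeB v hv,
      hBc _ (mul_mem (hmemB v hv) (hmemB _ (hmemB v hv))) v hv, mul_assoc]
  -- the powers of `B`
  let Bk : ℕ → Subgroup G := fun k =>
    { carrier := {v | ∃ b ∈ B, b ^ (2 ^ k) = v}
      one_mem' := ⟨1, one_mem _, one_pow _⟩
      mul_mem' := fun {p q} => by
        rintro ⟨x, hx, rfl⟩ ⟨y, hy, rfl⟩
        exact ⟨x * y, mul_mem hx hy, (show Commute x y from hBc x hx y hy).mul_pow _⟩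
      inv_mem' := fun {p} => by
        rintro ⟨x, hx, rfl⟩
        exact ⟨x⁻¹, inv_mem hx, inv_pow x _⟩ }
  have hBkB : ∀ k, Bk k ≤ B := fun k => by rintro _ ⟨x, hx, rfl⟩; exact pow_mem hx _
  have hBkc : ∀ k, ∀ u ∈ T P θ, ∀ v ∈ Bk k, u * v * u⁻¹ ∈ Bk k := by
    rintro k u hu _ ⟨x, hx, rfl⟩
    exact ⟨u * x * u⁻¹, h.B_conj hG (h.T_le hu) hx, conj_pow⟩
  have hBkθ : ∀ k, ∀ v ∈ Bk k, θ v ∈ Bk k := by
    rintro k _ ⟨x, hx, rfl⟩
    have hp : ∀ j : ℕ, θ (x ^ j) = (θ x) ^ j := by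
      intro j
      induction j with
      | zero => rw [pow_zero, pow_zero, h.map_one]
      | succ j ih => rw [pow_succ, pow_succ, hmulB _ (pow_mem hx j) _ hx, ih]
    exact ⟨θ x, hmemB x hx, (hp _).symm⟩
  have hfixk : ∀ k, ∀ v ∈ B, v⁻¹ * θ v ∈ Bk k → v ∈ Bk k := by
    intro k v hv hr
    have h1 := hBkθ k _ hr
    rw [hmulB _ (inv_mem hv) _ (hmemB v hv), h.map_inv (hBP hv)] at h1
    have h2 : v⁻¹ * θ (θ v) ∈ Bk k := by
      have := mul_mem hr h1
      rwa [mul_assoc, mul_inv_cancel_left] at this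
    have h3 := mul_mem hr h2
    have h4 : v ^ (-3 : ℤ) ∈ Bk k := by
      have hn := hnorm v hv
      have e : v⁻¹ * θ v * (v⁻¹ * θ (θ v)) = v ^ (-3 : ℤ) * (v * θ v * θ (θ v)) := by
        rw [mul_assoc, ← mul_assoc (θ v) v⁻¹, hBc (θ v) (hmemB v hv) v⁻¹ (inv_mem hv)]
        group
      rwa [e, hn, mul_one] at h3
    exact (zpowers_le.2 h4) (zpowers_zpow_odd hG v ⟨-2, rfl⟩)
  have hcom2 : ∀ u ∈ T P θ, ∀ x ∈ B, ∀ j : ℕ, u * x ^ j * u⁻¹ * (x ^ j)⁻¹ = (u * x * u⁻¹ * x⁻¹) ^ j := by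
    intro u hu x hx j
    rw [(show Commute (u * x * u⁻¹) x⁻¹ from hBc _ (h.B_conj hG (h.T_le hu) hx) _ (inv_mem hx)).mul_pow, conj_pow,
      inv_pow]
  have hcadd : ∀ u ∈ T P θ, ∀ x ∈ B, ∀ y ∈ B,
      u * (x * y) * u⁻¹ * (x * y)⁻¹ = (u * x * u⁻¹ * x⁻¹) * (u * y * u⁻¹ * y⁻¹) := by
    intro u hu x hx y hy
    have hux := h.B_conj hG (h.T_le hu) hx
    have huy := h.B_conj hG (h.T_le hu) hy
    calc u * (x * y) * u⁻¹ * (x * y)⁻¹ = (u * x * u⁻¹) * ((u * y * u⁻¹ * y⁻¹) * x⁻¹) := by group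
      _ = (u * x * u⁻¹) * (x⁻¹ * (u * y * u⁻¹ * y⁻¹)) := by
        rw [hBc _ (mul_mem huy (inv_mem hy)) _ (inv_mem hx)]
      _ = _ := by group
  -- `T` centralises `B` modulo squares
  have hbase : ∀ u ∈ T P θ, ∀ x ∈ B, u * x * u⁻¹ * x⁻¹ ∈ Bk 1 := by
    set N : Subgroup G := closure (Set.image2 (fun u x => u * x * u⁻¹ * x⁻¹) (T P θ : Set G) (B : Set G)) with hN
    have hNB : N ≤ B := by
      refine (closure_le _).2 ?_
      rintro _ ⟨u, hu, x, hx, rfl⟩
      exact mul_mem (h.B_conj hG (h.T_le hu) hx) (inv_mem hx)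
    suffices hle : N ≤ Bk 1 from fun u hu x hx => hle (subset_closure ⟨u, hu, x, hx, rfl⟩)
    by_contra hle
    obtain ⟨v, hvN, hv1⟩ := SetLike.not_le_iff_exists.1 hle
    have hNθ : ∀ v ∈ N, θ v ∈ N := by
      intro v hv
      have key : v ∈ P ∧ θ v ∈ N := by
        induction hv using closure_induction with
        | mem y hy =>
          obtain ⟨u, hu, x, hx, rfl⟩ := hy
          have huP := h.T_le hu
          have hxP := hBP hx
          refine ⟨mul_mem (mul_mem (mul_mem huP hxP) (inv_mem huP)) (inv_mem hxP), ?_⟩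
          rw [h.mul _ (mul_mem (mul_mem huP hxP) (inv_mem huP)) _ (inv_mem hxP),
            h.mul _ (mul_mem huP hxP) _ (inv_mem huP), h.mul _ huP _ hxP, h.map_inv huP, h.map_inv hxP]
          exact subset_closure ⟨θ u, h.T_map hu, θ x, hmemB x hx, rfl⟩
        | one => exact ⟨one_mem _, by rw [h.map_one]; exact one_mem _⟩
        | mul x y _ _ hx hy => exact ⟨mul_mem hx.1 hy.1, by rw [h.mul _ hx.1 _ hy.1]; exact mul_mem hx.2 hy.2⟩
        | inv x _ hx => exact ⟨inv_mem hx.1, by rw [h.map_inv hx.1]; exact inv_mem hx.2⟩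
      exact key.2
    have hsq : closure (sqs B) ≤ Bk 1 := by
      refine (closure_le _).2 ?_
      rintro _ ⟨x, hx, rfl⟩
      exact ⟨x, hx, rfl⟩
    have hsq' : ∀ x, x ∈ Bk 1 → x ∈ closure (sqs B) := by
      rintro _ ⟨x, hx, rfl⟩
      exact subset_closure ⟨x, hx, rfl⟩
    -- `B` is covered by the four classes of `1, v, θv, vθv`
    have hcover : B ≤ N ⊔ closure (sqs B) := by
      intro x hx
      by_contra hxK
      set B₁ := (closure (sqs B)).subgroupOf B with hB₁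
      haveI : B₁.Normal := ⟨fun p hp q => by
        rw [show q * p = p * q from Subtype.ext (hBc _ q.2 _ p.2), mul_inv_cancel_right]
        exact hp⟩
      let ρ : B →* B ⧸ B₁ := QuotientGroup.mk' B₁
      have hρ : ∀ p, ρ p = 1 ↔ (p : G) ∈ closure (sqs B) := fun p => QuotientGroup.eq_one_iff p
      have hρK : ∀ p q : B, ρ p = ρ q → (q : G) ∈ N ⊔ closure (sqs B) → (p : G) ∈ N ⊔ closure (sqs B) := by
        intro p q hpq hq
        have h1 : ((q⁻¹ * p : B) : G) ∈ closure (sqs B) := (hρ _).1 (by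
          rw [_root_.map_mul, _root_.map_inv, hpq, inv_mul_cancel])
        have h2 := mul_mem hq (mem_sup_right (S := N) h1)
        simpa using h2
      let v' : B := ⟨v, hNB hvN⟩
      let w' : B := ⟨θ v, hmemB _ (hNB hvN)⟩
      let x' : B := ⟨x, hx⟩
      have hv'K : (v' : G) ∈ N ⊔ closure (sqs B) := mem_sup_left hvN
      have hw'K : (w' : G) ∈ N ⊔ closure (sqs B) := mem_sup_left (hNθ v hvN)
      have n1 : ρ v' ≠ 1 := fun e => hv1 (hsq ((hρ _).1 e))
      have n3 : ρ v' ≠ ρ w' := fun e => hv1 (hfixk 1 v (hNB hvN) (hsq (by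
        have := (hρ (v'⁻¹ * w')).1 (by rw [_root_.map_mul, _root_.map_inv, e, inv_mul_cancel])
        exact this)))
      have n2 : ρ w' ≠ 1 := fun e => by
        refine hv1 ?_
        have h1 := hBkθ 1 _ (hBkθ 1 _ (hsq ((hρ _).1 e)))
        rwa [hcubeB v (hNB hvN)] at h1
      have hexp : ∀ q : B ⧸ B₁, q * q = 1 := fun q => by
        obtain ⟨p, rfl⟩ := QuotientGroup.mk'_surjective B₁ q
        exact (hρ (p * p)).2 (mul_self_mem_sqs p.2)
      have n4 : ρ v' * ρ w' ≠ 1 := fun e => n3 ((mul_left_cancel (e.trans (hexp (ρ v')).symm)).symm)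
      have n5 : ρ v' ≠ ρ v' * ρ w' := fun e => n2 (left_eq_mul.1 e)
      have n6 : ρ w' ≠ ρ v' * ρ w' := fun e => n1 (right_eq_mul.1 e)
      have m1 : ρ x' ≠ 1 := fun e => hxK (hρK x' 1 (by rw [e, _root_.map_one]) (one_mem _))
      have m2 : ρ x' ≠ ρ v' := fun e => hxK (hρK _ _ e hv'K)
      have m3 : ρ x' ≠ ρ w' := fun e => hxK (hρK _ _ e hw'K)
      have m4 : ρ x' ≠ ρ v' * ρ w' := fun e => hxK (hρK _ (v' * w') (by rw [e, _root_.map_mul])
        (mul_mem hv'K hw'K))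
      classical
      have := Fintype.ofFinite (B ⧸ B₁)
      have hnd : [1, ρ v', ρ w', ρ v' * ρ w', ρ x'].Nodup := by
        simp [Ne.symm n1, Ne.symm n2, Ne.symm n4, Ne.symm m1, n3, n5, n6, Ne.symm m2, Ne.symm m3, Ne.symm m4]
      have h5 := hnd.length_le_card
      have h4 := relIndex_sqs_le_of_metacyclic hG (H := B)
        (MetaTwoFusion.isMetacyclic_of_le hBF (isMetacyclic_frattini hG hb hnm))
      rw [relIndex, ← hB₁, Subgroup.index_eq_card, Nat.card_eq_fintype_card] at h4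
      simp only [List.length_cons, List.length_nil] at h5
      omega
    have hBN : B ≤ N := le_of_le_sup_sqs hG hNB hcover
    haveI := hG.isNilpotent
    obtain ⟨m, hm⟩ := Subgroup.nilpotent_iff_lowerCentralSeries.1 (inferInstance : Group.IsNilpotent G)
    have hdesc : ∀ k, B ≤ (⊤ : Subgroup G).lowerCentralSeries k := by
      intro k
      induction k with
      | zero => rw [Subgroup.lowerCentralSeries_zero]; exact le_top
      | succ k ih =>
        refine hBN.trans ((closure_le _).2 ?_)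
        rintro _ ⟨u, -, x, hx, rfl⟩
        rw [Subgroup.lowerCentralSeries_succ]
        have e : u * x * u⁻¹ * x⁻¹ = ⁅x, u⁆⁻¹ := by rw [commutatorElement_def]; group
        show u * x * u⁻¹ * x⁻¹ ∈ _
        rw [e]
        exact inv_mem (commutator_mem_commutator (ih hx) (mem_top u))
    obtain ⟨v₀, hv₀, hv₀θ⟩ := hmv
    exact hv₀θ (by rw [show v₀ = 1 from mem_bot.1 (hm ▸ hdesc m hv₀), h.map_one])
  -- commutators of `T` are squares in `B`
  have hcom1 : ∀ u ∈ T P θ, ∀ w ∈ T P θ, u * w * u⁻¹ * w⁻¹ ∈ Bk 1 :=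
    h.comm_mem hG hb hnm (hBkc 1) hbase (hfixk 1)
  -- `T` centralises `B` modulo every power
  have hind : ∀ k, 1 ≤ k → ∀ u ∈ T P θ, ∀ x ∈ B, u * x * u⁻¹ * x⁻¹ ∈ Bk k := by
    intro k hk
    induction k, hk using Nat.le_induction with
    | base => exact hbase
    | succ k hk ih =>
      set M := Bk (k + 1) with hM
      set M' := M.subgroupOf B with hM'
      haveI : M'.Normal := ⟨fun p hp q => by
        rw [show q * p = p * q from Subtype.ext (hBc _ q.2 _ p.2), mul_inv_cancel_right]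
        exact hp⟩
      let ρ : B →* B ⧸ M' := QuotientGroup.mk' M'
      have hρ : ∀ p, ρ p = 1 ↔ (p : G) ∈ M := fun p => QuotientGroup.eq_one_iff p
      let f : T P θ → B → B ⧸ M' := fun u x =>
        ρ ⟨(u : G) * x * (u : G)⁻¹ * (x : G)⁻¹, mul_mem (h.B_conj hG (h.T_le u.2) x.2) (inv_mem x.2)⟩
      have hfx : ∀ u x y, f u (x * y) = f u x * f u y := fun u x y => by
        rw [← _root_.map_mul]; exact congrArg ρ (Subtype.ext (hcadd u u.2 x x.2 y y.2))
      have hlift : ∀ u ∈ T P θ, ∀ v ∈ Bk k, u * v * u⁻¹ * v⁻¹ ∈ M := by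
        rintro u hu _ ⟨x, hx, rfl⟩
        rw [hcom2 u hu x hx]
        obtain ⟨y, hy, hye⟩ := hbase u hu x hx
        exact ⟨y, hy, by rw [← hye, ← pow_mul, pow_one, pow_succ', pow_mul]⟩
      have hfu : ∀ u w x, f (u * w) x = f u x * f w x := fun u w x => by
        have h1 := hlift u u.2 _ (ih w w.2 x x.2)
        have e : ((u * w : T P θ) : G) * x * ((u * w : T P θ) : G)⁻¹ * (x : G)⁻¹ =
            ((u : G) * ((w : G) * x * (w : G)⁻¹ * (x : G)⁻¹) * (u : G)⁻¹ *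
              ((w : G) * x * (w : G)⁻¹ * (x : G)⁻¹)⁻¹) *
            (((w : G) * x * (w : G)⁻¹ * (x : G)⁻¹) * ((u : G) * x * (u : G)⁻¹ * (x : G)⁻¹)) := by
          rw [Subgroup.coe_mul]; group
        have hm1 : (u : G) * x * (u : G)⁻¹ * (x : G)⁻¹ ∈ B := mul_mem (h.B_conj hG (h.T_le u.2) x.2) (inv_mem x.2)
        have hm2 : (w : G) * x * (w : G)⁻¹ * (x : G)⁻¹ ∈ B := mul_mem (h.B_conj hG (h.T_le w.2) x.2) (inv_mem x.2)
        have hm3 := mul_mem (h.B_conj hG (h.T_le u.2) hm2) (inv_mem hm2)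
        show ρ _ = ρ _ * ρ _
        rw [show (⟨_, mul_mem (h.B_conj hG (h.T_le (u * w).2) x.2) (inv_mem x.2)⟩ : B) =
          ⟨_, hm3⟩ * (⟨_, hm2⟩ * ⟨_, hm1⟩) from Subtype.ext e, _root_.map_mul, (hρ ⟨_, hm3⟩).2 h1, one_mul,
          show (⟨_, hm2⟩ : B) * ⟨_, hm1⟩ = ⟨_, hm1⟩ * ⟨_, hm2⟩ from Subtype.ext (hBc _ hm2 _ hm1), _root_.map_mul]
      have hf1 : ∀ x, f 1 x = 1 := fun x => (hρ _).2 (by simp)
      have hfx1 : ∀ u, f u 1 = 1 := fun u => (hρ _).2 (by simp)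
      have hf2 : ∀ u x, f u x * f u x = 1 := fun u x => by
        obtain ⟨y, hy, hye⟩ := ih u u.2 x x.2
        rw [← _root_.map_mul]
        exact (hρ _).2 ⟨y, hy, by
          show y ^ 2 ^ (k + 1) = _ * _
          rw [pow_succ, pow_mul, hye, pow_two]⟩
      have hfinv : ∀ u x, f u x⁻¹ = f u x := fun u x => by
        have h1 : f u x * f u x⁻¹ = 1 := by rw [← hfx, mul_inv_cancel, hfx1]
        exact mul_left_cancel (h1.trans (hf2 u x).symm)
      let sq : T P θ → B := fun s => ⟨(s : G) * s, mul_self_mem_sqs s.2⟩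
      let F : T P θ → T P θ → B ⧸ M' := fun u s => f u (sq s)
      have hB1f : ∀ u (m : B), (m : G) ∈ Bk 1 → f u m = 1 := by
        rintro u ⟨m, hm'⟩ ⟨y, hy, rfl⟩
        have e : (⟨y ^ 2 ^ 1, hm'⟩ : B) = ⟨y, hy⟩ * ⟨y, hy⟩ := Subtype.ext (by simp [pow_two])
        rw [e, hfx, hf2]
      have hFs : ∀ u s s', F u (s * s') = F u s * F u s' := fun u s s' => by
        have hm : ((s : G)⁻¹ * s' * s * (s' : G)⁻¹) ∈ Bk 1 := by
          have := hcom1 _ (inv_mem s.2) _ s'.2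
          simpa using this
        have e : sq (s * s') = sq s * ⟨_, hBkB 1 hm⟩ * sq s' := Subtype.ext (by
          show (s : G) * s' * ((s : G) * s') = (s : G) * s * ((s : G)⁻¹ * s' * s * (s' : G)⁻¹) * ((s' : G) * s')
          group)
        show f u (sq (s * s')) = f u (sq s) * f u (sq s')
        rw [e, hfx, hfx, hB1f u ⟨_, hBkB 1 hm⟩ hm, mul_one]
      have hFu : ∀ u w s, F (u * w) s = F u s * F w s := fun u w s => hfu u w _
      have hFd : ∀ u, F u u = 1 := fun u => (hρ _).2 (by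
        show (u : G) * ((u : G) * u) * (u : G)⁻¹ * ((u : G) * u)⁻¹ ∈ M
        rw [show (u : G) * ((u : G) * u) * (u : G)⁻¹ * ((u : G) * u)⁻¹ = 1 by group]
        exact one_mem _)
      have hFB : ∀ (u s : T P θ), (s : G) ∈ B → F u s = 1 := fun u s hs =>
        hB1f u _ ⟨s, hs, by rw [pow_one, pow_two]⟩
      have hF2 : ∀ u s, F u s * F u s = 1 := fun u s => hf2 u _
      have hFinv : ∀ u s, F u s⁻¹ = F u s := fun u s => by
        have e : sq s⁻¹ = (sq s)⁻¹ := Subtype.ext (by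
          show (s : G)⁻¹ * (s : G)⁻¹ = ((s : G) * s)⁻¹
          rw [mul_inv_rev])
        show f u (sq s⁻¹) = f u (sq s)
        rw [e, hfinv]
      have hsymm : ∀ u w, F u w = F w u := fun u w => by
        have h1 := hFd (u * w)
        rw [hFu, hFs, hFs, hFd, hFd, one_mul, mul_one] at h1
        exact mul_left_cancel ((hF2 u w).trans h1.symm)
      have hFall : ∀ u s, F u s = 1 := by
        intro u s
        by_cases huB : (u : G) ∈ B
        · refine (hρ _).2 ?_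
          show (u : G) * ((s : G) * s) * (u : G)⁻¹ * ((s : G) * s)⁻¹ ∈ M
          rw [hBc _ huB _ (mul_self_mem_sqs s.2), mul_inv_cancel_right, mul_inv_cancel]
          exact one_mem _
        let u' : T P θ := ⟨θ u, h.T_map u.2⟩
        let u'' : T P θ := ⟨θ (θ u), h.T_map (h.T_map u.2)⟩
        have hprod : ((u * u' * u'' : T P θ) : G) ∈ B := (hlay u u.2 huB).1
        have hsplit : ∀ x, F x u'' = F x u * F x u' := fun x => by
          have h1 := hFB x _ hprod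
          rw [hFs] at h1
          rw [eq_inv_of_mul_eq_one_right h1, inv_eq_of_mul_eq_one_right (hF2 x (u * u')), hFs]
        -- the value at `(u, θu)` is fixed
        set val : G := (u : G) * (θ u * θ u) * (u : G)⁻¹ * (θ u * θ u)⁻¹ with hval
        have hvalB : val ∈ B :=
          mul_mem (h.B_conj hG (h.T_le u.2) (mul_self_mem_sqs (h.T_map u.2))) (inv_mem (mul_self_mem_sqs (h.T_map u.2)))
        have hθval : θ val = θ u * (θ (θ u) * θ (θ u)) * (θ u)⁻¹ * (θ (θ u) * θ (θ u))⁻¹ := by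
          have huP := h.T_le u.2
          have hsP := mul_mem (h.mem _ huP) (h.mem _ huP)
          rw [hval, h.mul _ (mul_mem (mul_mem huP hsP) (inv_mem huP)) _ (inv_mem hsP),
            h.mul _ (mul_mem huP hsP) _ (inv_mem huP), h.mul _ huP _ hsP, h.map_inv huP, h.map_inv hsP,
            h.mul _ (h.mem _ huP) _ (h.mem _ huP)]
        have h0 : F u u' = 1 := by
          refine (hρ _).2 (hfixk (k + 1) val hvalB ?_)
          have hfix' : F u' u'' = F u u' := by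
            rw [hsplit u', hFd u', mul_one, hsymm]
          have h1 : ρ ⟨θ val, hmemB _ hvalB⟩ = ρ ⟨val, hvalB⟩ := by
            rw [show (⟨θ val, hmemB _ hvalB⟩ : B) = ⟨_, hθval ▸ hmemB _ hvalB⟩ from Subtype.ext hθval]
            exact hfix'
          exact (hρ (⟨val, hvalB⟩⁻¹ * ⟨θ val, hmemB _ hvalB⟩)).1 (by
            rw [_root_.map_mul, _root_.map_inv, h1, inv_mul_cancel])
        rcases (hlay u u.2 huB).2 _ s.2 with e | e | e | e
        · exact hFB u s e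
        · rw [← mul_inv_cancel_left u s, hFs, hFd, hFB u (u⁻¹ * s) e, one_mul]
        · rw [← mul_inv_cancel_left u' s, hFs, h0, hFB u (u'⁻¹ * s) e, one_mul]
        · rw [← mul_inv_cancel_left u'' s, hFs, hsplit, hFd, h0, hFB u (u''⁻¹ * s) e, one_mul, one_mul]
      intro u hu x hx
      have hall : ∀ y ∈ B, ∃ hy : y ∈ B, f ⟨u, hu⟩ ⟨y, hy⟩ = 1 := by
        intro y hy
        induction hy using closure_induction with
        | mem y hy =>
          obtain ⟨s, hs, rfl⟩ := hy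
          refine ⟨subset_closure ⟨s, hs, rfl⟩, ?_⟩
          have e : (⟨(fun c => c ^ 2) s, subset_closure ⟨s, hs, rfl⟩⟩ : B) = sq ⟨s, hs⟩ := Subtype.ext (pow_two s)
          rw [e]
          exact hFall ⟨u, hu⟩ ⟨s, hs⟩
        | one => exact ⟨one_mem _, hfx1 _⟩
        | mul y z _ _ hy hz =>
          obtain ⟨hy1, hy2⟩ := hy
          obtain ⟨hz1, hz2⟩ := hz
          exact ⟨mul_mem hy1 hz1, (hfx _ ⟨y, hy1⟩ ⟨z, hz1⟩).trans (by rw [hy2, hz2, one_mul])⟩
        | inv y _ hy =>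
          obtain ⟨hy1, hy2⟩ := hy
          exact ⟨inv_mem hy1, (hfinv _ ⟨y, hy1⟩).trans hy2⟩
      obtain ⟨hx', hfx'⟩ := hall x hx
      exact (hρ _).1 hfx'
  obtain ⟨m, hm⟩ := IsPGroup.iff_card.1 hG
  have hcentral : ∀ u ∈ T P θ, ∀ x ∈ B, u * x * u⁻¹ * x⁻¹ ∈ (⊥ : Subgroup G) := by
    intro u hu x hx
    obtain ⟨y, -, hy⟩ := hind (m + 1) (by omega) u hu x hx
    rw [pow_succ, pow_mul, ← hm, pow_card_eq_one', one_pow] at hy
    exact mem_bot.2 hy.symm
  have hcom := h.comm_mem hG hb hnm (M := ⊥) (fun u _ v hv => by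
      rw [mem_bot.1 hv, mul_one, mul_inv_cancel]; exact one_mem _) hcentral
    (fun v hv hr => mem_bot.2 (hfpf v hv (inv_mul_eq_one.1 (mem_bot.1 hr)).symm))
  refine ⟨fun u hu w hw => mul_inv_eq_iff_eq_mul.1 (mul_inv_eq_one.1 (mem_bot.1 (hcom u hu w hw))),
    fun u hu hfix => ?_, e₀, he₀, he₀2, he₀θ⟩
  refine hfpf u (hlfix u hu ?_) hfix
  rw [hfix]; exact Rel.refl u

end Ctx

end CfsgLib.Bicyclic19
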