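import Cfsg.Agent.Lib.Bicyclic19.Frattini
import Cfsg.Agent.Lib.MetaTwoAut.Basic

/-!
# Auxiliary facts for the necessity direction

Subgroups generated by squares, involutions of `Φ(G)`, and automorphisms of order three of
subgroups of `Φ(G)`.
-/

set_option autoImplicit false
set_option linter.style.haveILetI false

namespace CfsgLib.Bicyclic19

open Subgroup
open scoped commutatorElement

universe u

variable {G : Type u} [Group G]

theorem sqs_closure_le (H : Subgroup G) : closure (sqs H) ≤ H := by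
  refine (closure_le _).2 ?_
  rintro _ ⟨c, hc, rfl⟩
  exact pow_mem hc 2

theorem mul_self_mem_sqs {H : Subgroup G} {x : G} (hx : x ∈ H) : x * x ∈ closure (sqs H) :=
  subset_closure ⟨x, hx, pow_two x⟩

theorem comm_mem_sqs {H : Subgroup G} {x y : G} (hx : x ∈ H) (hy : y ∈ H) :
    x * y * x⁻¹ * y⁻¹ ∈ closure (sqs H) := by
  have e : x * y * x⁻¹ * y⁻¹ = (x * y) * (x * y) * ((y⁻¹ * x⁻¹ * y) * (y⁻¹ * x⁻¹ * y)) * (y⁻¹ * y⁻¹) := by group
  rw [e]
  exact mul_mem (mul_mem (mul_self_mem_sqs (mul_mem hx hy))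
    (mul_self_mem_sqs (mul_mem (mul_mem (inv_mem hy) (inv_mem hx)) hy))) (mul_self_mem_sqs (inv_mem hy))

theorem sqs_mono {H K : Subgroup G} (h : H ≤ K) : closure (sqs H) ≤ closure (sqs K) :=
  closure_mono (Set.image_mono h)

theorem conj_mem_sqs {H : Subgroup G} {g : G} (hg : ∀ x ∈ H, g * x * g⁻¹ ∈ H) {v : G}
    (hv : v ∈ closure (sqs H)) : g * v * g⁻¹ ∈ closure (sqs H) := by
  have hle : closure (sqs H) ≤ (closure (sqs H)).comap (MulAut.conj g).toMonoidHom := by
    refine (closure_le _).2 ?_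
    rintro _ ⟨c, hc, rfl⟩
    show g * c ^ 2 * g⁻¹ ∈ closure (sqs H)
    exact subset_closure ⟨g * c * g⁻¹, hg c hc, conj_pow⟩
  exact hle hv

variable [Finite G]

theorem sqs_eq_frattini (hG : IsPGroup 2 G) (H : Subgroup G) :
    (frattini H).map H.subtype = closure (sqs H) := by
  haveI := Fact.mk Nat.prime_two
  refine le_antisymm (map_le_iff_le_comap.2 (CfsgLib.PGroup.frattini_le_of (p := 2) _ ?_ fun x => ?_))
    ((closure_le _).2 ?_)
  · rw [_root_.commutator_def, commutator_le]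
    intro x _ y _
    show ((⁅x, y⁆ : H) : G) ∈ closure (sqs H)
    exact comm_mem_sqs x.2 y.2
  · exact subset_closure ⟨x, x.2, rfl⟩
  · rintro _ ⟨c, hc, rfl⟩
    exact ⟨⟨c, hc⟩ ^ 2, CfsgLib.PGroup.pow_mem_frattini (hG.to_subgroup H) _, rfl⟩

theorem le_of_le_sup_sqs (hG : IsPGroup 2 G) {H L : Subgroup G} (hLH : L ≤ H)
    (h : H ≤ L ⊔ closure (sqs H)) : H ≤ L := by
  have h1 : L.subgroupOf H ⊔ frattini H = ⊤ := by
    refine map_injective H.subtype_injective ?_
    rw [Subgroup.map_sup, sqs_eq_frattini hG H, map_subgroupOf_eq_of_le hLH, ← MonoidHom.range_eq_map,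
      range_subtype]
    exact le_antisymm (sup_le hLH (sqs_closure_le H)) h
  intro x hx
  exact mem_subgroupOf.1 ((frattini_nongenerating h1).ge (mem_top ⟨x, hx⟩))

theorem sqs_le_frattini (hG : IsPGroup 2 G) (H : Subgroup G) : closure (sqs H) ≤ frattini G := by
  haveI := Fact.mk Nat.prime_two
  refine (closure_le _).2 ?_
  rintro _ ⟨c, -, rfl⟩
  exact CfsgLib.PGroup.pow_mem_frattini hG c

theorem relIndex_sqs_le_of_metacyclic (hG : IsPGroup 2 G) {H : Subgroup G} (hm : Cfsg.IsMetacyclic H) :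
    (closure (sqs H)).relIndex H ≤ 4 := by
  haveI := Fact.mk Nat.prime_two
  have h1 : (closure (sqs H)).subgroupOf H = frattini H := by
    rw [← sqs_eq_frattini hG H, subgroupOf, comap_map_eq_self_of_injective H.subtype_injective]
  rw [relIndex, h1]
  exact LocalEvenSix.IsoRankTwo.index_frattini_le_of_metacyclic (hG.to_subgroup H) hm

theorem index_frattini_le_four (hG : IsPGroup 2 G) (hb : Bicyclic G) : (frattini G).index ≤ 4 := by
  haveI := Fact.mk Nat.prime_two
  obtain ⟨x, y, hxy⟩ := hb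
  refine LocalEvenSix.IsoRankTwo.index_frattini_le_of_two hG x y (top_le_iff.1 fun g _ => mem_sup_left ?_)
  obtain ⟨i, j, rfl⟩ := hxy g
  exact mul_mem (zpow_mem (subset_closure (by simp)) _) (zpow_mem (subset_closure (by simp)) _)

/-- Two elements of a bicyclic group independent modulo `Φ` generate. -/
theorem gen_of_independent (hG : IsPGroup 2 G) (hb : Bicyclic G) {x y : G} (hx : x ∉ frattini G)
    (hy : y ∉ frattini G) (hxy : x * y ∉ frattini G) : closure ({x, y} : Set G) = ⊤ := by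
  classical
  haveI := Fact.mk Nat.prime_two
  refine frattini_nongenerating (eq_top_iff.2 fun g _ => ?_)
  set π := QuotientGroup.mk' (frattini G)
  have hπ : ∀ u, π u = 1 ↔ u ∈ frattini G := fun u => QuotientGroup.eq_one_iff u
  have h2 : ∀ u : G ⧸ frattini G, u * u = 1 := fun u => by
    obtain ⟨v, rfl⟩ := QuotientGroup.mk'_surjective _ u
    rw [← map_mul, hπ, ← pow_two]
    exact CfsgLib.PGroup.pow_mem_frattini hG v
  have := Fintype.ofFinite (G ⧸ frattini G)
  by_contra hg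
  have hnot : ∀ u ∈ closure ({x, y} : Set G), π g ≠ π u := fun u hu he => hg (by
    have hu' : u⁻¹ * g ∈ frattini G := by rw [← hπ, map_mul, map_inv, he, inv_mul_cancel]
    have := mul_mem (mem_sup_left (T := frattini G) hu) (mem_sup_right (S := closure ({x, y} : Set G)) hu')
    rwa [mul_inv_cancel_left] at this)
  have hxm : x ∈ closure ({x, y} : Set G) := subset_closure (by simp)
  have hym : y ∈ closure ({x, y} : Set G) := subset_closure (by simp)
  have n1 : π g ≠ 1 := fun h => hnot 1 (one_mem _) (by rw [h, map_one])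
  have n2 : π g ≠ π x := hnot x hxm
  have n3 : π g ≠ π y := hnot y hym
  have n4 : π g ≠ π (x * y) := hnot _ (mul_mem hxm hym)
  have e1 : π x ≠ 1 := fun h => hx ((hπ x).1 h)
  have e2 : π y ≠ 1 := fun h => hy ((hπ y).1 h)
  have e3 : π (x * y) ≠ 1 := fun h => hxy ((hπ _).1 h)
  have e4 : π x ≠ π y := fun h => e3 (by rw [map_mul, h, h2])
  have e5 : π x ≠ π (x * y) := fun h => e2 (by rwa [map_mul, left_eq_mul] at h)
  have e6 : π y ≠ π (x * y) := fun h => e1 (by rwa [map_mul, right_eq_mul] at h)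
  have hnd : [1, π x, π y, π (x * y), π g].Nodup := by
    simp [-map_mul, Ne.symm e1, Ne.symm e2, Ne.symm e3, Ne.symm n1, e4, e5, e6, Ne.symm n2, Ne.symm n3, Ne.symm n4]
  have h5 := hnd.length_le_card
  have h4 := index_frattini_le_four hG hb
  rw [Subgroup.index_eq_card, Nat.card_eq_fintype_card] at h4
  simp only [List.length_cons, List.length_nil] at h5
  omega

/-- Two elements of a proper subgroup outside `Φ` multiply into `Φ`. -/
theorem mul_mem_frattini_of_proper (hG : IsPGroup 2 G) (hb : Bicyclic G) {P : Subgroup G} {g x y : G}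
    (hg : g ∉ P) (hxP : x ∈ P) (hyP : y ∈ P) (hx : x ∉ frattini G) (hy : y ∉ frattini G) :
    x * y ∈ frattini G := by
  by_contra h
  refine hg ((closure_le P).2 ?_ ((gen_of_independent hG hb hx hy h).ge (mem_top g)))
  rintro u (rfl | rfl) <;> assumption

theorem frattini_inter_index (hG : IsPGroup 2 G) (hb : Bicyclic G) {P : Subgroup G} {g : G} (hg : g ∉ P) :
    (P ⊓ frattini G).relIndex P ≤ 2 := by
  classical
  by_cases hall : P ≤ frattini G
  · rw [inf_of_le_left hall, relIndex_self]; norm_num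
  obtain ⟨x, hxP, hx⟩ := SetLike.not_le_iff_exists.1 hall
  rw [relIndex, Subgroup.index_eq_card]
  refine (Nat.card_le_card_of_surjective
    (fun b : Bool => (((if b then ⟨x, hxP⟩ else 1) : P) : P ⧸ (P ⊓ frattini G).subgroupOf P)) ?_).trans (by simp)
  intro q
  obtain ⟨⟨y, hy⟩, rfl⟩ := QuotientGroup.mk_surjective q
  by_cases hyF : y ∈ frattini G
  · refine ⟨false, QuotientGroup.eq.2 ?_⟩
    simp only [Bool.false_eq_true, if_false, inv_one, one_mul]
    exact ⟨hy, hyF⟩
  · refine ⟨true, QuotientGroup.eq.2 ?_⟩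
    simp only [if_true]
    refine ⟨P.mul_mem (P.inv_mem hxP) hy, ?_⟩
    exact mul_mem_frattini_of_proper hG hb hg (inv_mem hxP) hy (fun h => hx ((frattini G).inv_mem_iff.1 h)) hyF

section Omega

variable (hG : IsPGroup 2 G) (hb : Bicyclic G) (hnm : ¬ Cfsg.IsMetacyclic G)

include hG hb hnm

theorem involutions_commute {x y : G} (hx : x ∈ frattini G) (hy : y ∈ frattini G) (hx2 : x * x = 1)
    (hy2 : y * y = 1) : x * y = y * x := by
  haveI := Fact.mk Nat.prime_two
  by_contra hne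
  have hxi : x⁻¹ = x := inv_eq_of_mul_eq_one_right hx2
  have hyi : y⁻¹ = y := inv_eq_of_mul_eq_one_right hy2
  obtain ⟨m, hm⟩ := IsPGroup.iff_orderOf.1 hG (x * y)
  have hm2 : 2 ≤ m := by
    by_contra h
    refine hne ?_
    have h2 : (x * y) * (x * y) = 1 := by
      rw [← pow_two]
      refine orderOf_dvd_iff_pow_eq_one.1 ?_
      rw [hm]
      exact (pow_dvd_pow 2 (show m ≤ 1 by omega)).trans (by norm_num)
    calc x * y = (x * y)⁻¹ := eq_inv_of_mul_eq_one_right h2
      _ = y * x := by rw [mul_inv_rev, hxi, hyi]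
  set r := (x * y) ^ (2 ^ (m - 2)) with hr
  have hr4 : orderOf r = 4 := by
    rw [hr, orderOf_pow, hm, Nat.gcd_eq_right (pow_dvd_pow 2 (by omega)), Nat.pow_div (by omega) (by norm_num),
      show m - (m - 2) = 2 by omega]
  have hxr : x * r * x⁻¹ = r⁻¹ := by
    rw [hr, ← conj_pow, ← inv_pow]
    congr 1
    rw [mul_inv_rev, hxi, hyi, ← mul_assoc, hx2, one_mul]
  have hrx : r ∈ frattini G := pow_mem (mul_mem hx hy) _
  set H : Subgroup G := zpowers r ⊔ zpowers x
  have hxN : zpowers x ≤ normalizer (zpowers r : Set G) := by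
    refine zpowers_le.2 (mem_normalizer_fintype fun w hw => ?_)
    obtain ⟨i, rfl⟩ := mem_zpowers_iff.1 hw
    exact mem_zpowers_iff.2 ⟨-i, by rw [← conj_zpow, hxr, inv_zpow']⟩
  have hxnr : x ∉ zpowers r := by
    intro h
    obtain ⟨i, hi⟩ := mem_zpowers_iff.1 h
    have h3 : r = r⁻¹ := by
      calc r = x * r * x⁻¹ := by rw [← hi]; group
        _ = r⁻¹ := hxr
    have : orderOf r ∣ 2 := orderOf_dvd_of_pow_eq_one (by rw [pow_two]; exact mul_eq_one_iff_eq_inv.2 h3)
    rw [hr4] at this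
    norm_num at this
  have hH8 : Nat.card H = 8 := by
    have hx1 : x ≠ 1 := fun h => hxnr (h ▸ one_mem _)
    have hx2' : orderOf x = 2 := orderOf_eq_prime (by rw [pow_two]; exact hx2) hx1
    have hle : Nat.card H ≤ 8 := by
      rw [← SetLike.coe_sort_coe, coe_mul_of_right_le_normalizer_left (zpowers r) (zpowers x) hxN]
      refine Set.natCard_mul_le.trans ?_
      rw [SetLike.coe_sort_coe, SetLike.coe_sort_coe, Nat.card_zpowers, Nat.card_zpowers, hr4, hx2']
    have h4 : 4 ∣ Nat.card H := by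
      rw [← hr4, ← Nat.card_zpowers]
      exact card_dvd_of_le le_sup_left
    have hne : Nat.card H ≠ 4 := fun h => by
      have heq : zpowers r = H :=
        eq_of_le_of_card_ge le_sup_left (by rw [Nat.card_zpowers, hr4, h])
      exact hxnr (heq ▸ (mem_sup_right (mem_zpowers x) : x ∈ H))
    have hpos : 0 < Nat.card H := Nat.card_pos
    omega
  have hc := commute_of_card_eight hG hb hnm (H := H) (sup_le (zpowers_le.2 hrx) (zpowers_le.2 hx)) hH8 x
    (mem_sup_right (mem_zpowers x)) r (mem_sup_left (mem_zpowers r))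
  have h3 : r = r⁻¹ := by rw [← hxr, hc, mul_inv_cancel_right]
  have : orderOf r ∣ 2 := orderOf_dvd_of_pow_eq_one (by rw [pow_two]; exact mul_eq_one_iff_eq_inv.2 h3)
  rw [hr4] at this
  norm_num at this

/-- The involutions of `Φ(G)`, with `1`. -/
def omega : Subgroup G where
  carrier := {x | x ∈ frattini G ∧ x * x = 1}
  one_mem' := ⟨one_mem _, one_mul 1⟩
  mul_mem' := fun {x y} hx hy => ⟨mul_mem hx.1 hy.1, by
    rw [(show Commute y x from (involutions_commute hG hb hnm hy.1 hx.1 hy.2 hx.2)).mul_mul_mul_comm, hx.2,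
      hy.2, one_mul]⟩
  inv_mem' := fun {x} hx => ⟨inv_mem hx.1, by rw [← mul_inv_rev, hx.2, inv_one]⟩

theorem mem_omega {x : G} : x ∈ omega hG hb hnm ↔ x ∈ frattini G ∧ x * x = 1 := Iff.rfl

theorem omega_normal : (omega hG hb hnm).Normal := ⟨fun x hx g =>
  ⟨(inferInstance : (frattini G).Normal).conj_mem x hx.1 g, by
    rw [show g * x * g⁻¹ * (g * x * g⁻¹) = g * (x * x) * g⁻¹ by group, hx.2]; group⟩⟩

theorem card_omega_le : Nat.card (omega hG hb hnm) ≤ 4 := by
  have hm : Cfsg.IsMetacyclic (omega hG hb hnm) :=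
    MetaTwoFusion.isMetacyclic_of_le (fun x hx => hx.1) (isMetacyclic_frattini hG hb hnm)
  have h := relIndex_sqs_le_of_metacyclic hG hm
  have hbot : closure (sqs (omega hG hb hnm)) = ⊥ := by
    rw [closure_eq_bot_iff]
    rintro _ ⟨c, hc, rfl⟩
    show c ^ 2 = 1
    rw [pow_two]; exact hc.2
  rwa [hbot, relIndex_bot_left] at h

theorem omega_eq {e₁ e₂ : G} (h₁ : e₁ ∈ omega hG hb hnm) (h₂ : e₂ ∈ omega hG hb hnm) (n₁ : e₁ ≠ 1)
    (n₂ : e₂ ≠ 1) (n : e₁ ≠ e₂) {x : G} (hx : x ∈ omega hG hb hnm) :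
    x = 1 ∨ x = e₁ ∨ x = e₂ ∨ x = e₁ * e₂ := by
  classical
  by_contra hno
  simp only [not_or] at hno
  have e3 : e₁ * e₂ ≠ 1 := fun h => n ((eq_inv_of_mul_eq_one_left h).trans (inv_eq_of_mul_eq_one_right h₂.2))
  have e4 : e₁ ≠ e₁ * e₂ := fun h => n₂ (left_eq_mul.1 h)
  have e5 : e₂ ≠ e₁ * e₂ := fun h => n₁ (right_eq_mul.1 h)
  have hnd : [1, e₁, e₂, e₁ * e₂, x].Nodup := by
    simp [Ne.symm n₁, Ne.symm n₂, Ne.symm e3, Ne.symm hno.1, n, e4, e5, Ne.symm hno.2.1, Ne.symm hno.2.2.1,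
      Ne.symm hno.2.2.2]
  have := Fintype.ofFinite (omega hG hb hnm)
  have hsub : ∀ y ∈ [1, e₁, e₂, e₁ * e₂, x], y ∈ omega hG hb hnm := by
    intro y hy
    simp only [List.mem_cons, List.not_mem_nil, or_false] at hy
    rcases hy with rfl | rfl | rfl | rfl | rfl
    · exact one_mem _
    · exact h₁
    · exact h₂
    · exact mul_mem h₁ h₂
    · exact hx
  have h5 := List.Nodup.length_le_card (α := omega hG hb hnm)
    (hnd.pmap (f := fun y hy => (⟨y, hy⟩ : omega hG hb hnm)) (H := hsub) fun _ _ _ _ h => congrArg Subtype.val h)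
  have h4 := card_omega_le hG hb hnm
  rw [Nat.card_eq_fintype_card] at h4
  simp at h5
  omega

theorem commute_omega {x e : G} (hx : x ∈ frattini G) (he : e ∈ omega hG hb hnm) : x * e = e * x := by
  haveI := omega_normal hG hb hnm
  by_cases h1 : e = 1
  · rw [h1, mul_one, one_mul]
  by_contra hne
  set e' := x * e * x⁻¹ with he'
  have he'm : e' ∈ omega hG hb hnm := (omega_normal hG hb hnm).conj_mem e he x
  have hne' : e ≠ e' := fun h => hne (mul_inv_eq_iff_eq_mul.1 h.symm)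
  have hn1 : e' ≠ 1 := fun h => h1 (by simpa [he'] using h)
  have hcard : Nat.card (omega hG hb hnm) = 4 := by
    classical
    refine le_antisymm (card_omega_le hG hb hnm) ?_
    have := Fintype.ofFinite (omega hG hb hnm)
    have hnd : [(1 : omega hG hb hnm), ⟨e, he⟩, ⟨e', he'm⟩, ⟨e * e', mul_mem he he'm⟩].Nodup := by
      have e3 : e * e' ≠ 1 := fun h => hne' ((eq_inv_of_mul_eq_one_left h).trans (inv_eq_of_mul_eq_one_right he'm.2))
      have e4 : e ≠ e * e' := fun h => hn1 (left_eq_mul.1 h)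
      have e5 : e' ≠ e * e' := fun h => h1 (right_eq_mul.1 h)
      simp [← Subtype.coe_inj, Ne.symm h1, Ne.symm hn1, Ne.symm e3, hne', e4, e5]
    rw [Nat.card_eq_fintype_card]
    simpa using hnd.length_le_card
  exact hne (commute_of_normal_four hG hcard hx he)

/-- An automorphism of order three of a subgroup of `Φ(G)` forces it to be abelian. -/
theorem comm_of_moved {X : Subgroup G} (hX : X ≤ frattini G) {θ : G → G} (hmem : ∀ x ∈ X, θ x ∈ X)
    (hmul : ∀ x ∈ X, ∀ y ∈ X, θ (x * y) = θ x * θ y) (hcube : ∀ x ∈ X, θ (θ (θ x)) = x)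
    (hmoved : ∃ x ∈ X, θ x ≠ x) : ∀ x ∈ X, ∀ y ∈ X, x * y = y * x := by
  haveI := Fact.mk Nat.prime_two
  let β : MulAut X :=
    { toFun := fun x => ⟨θ x, hmem x x.2⟩
      invFun := fun x => ⟨θ (θ x), hmem _ (hmem x x.2)⟩
      left_inv := fun x => Subtype.ext (hcube x x.2)
      right_inv := fun x => Subtype.ext (hcube x x.2)
      map_mul' := fun x y => Subtype.ext (hmul x x.2 y y.2) }
  have hnp : ¬ IsPGroup 2 (MulAut X) := by
    intro hA
    obtain ⟨x, hx, hne⟩ := hmoved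
    obtain ⟨k, hk⟩ := hA β
    have h3 : β ^ 3 = 1 := MulEquiv.ext fun y => Subtype.ext (hcube y y.2)
    have h4 : orderOf β ∣ 1 := by
      have hcop : Nat.Coprime (2 ^ k) 3 := Nat.Coprime.pow_left _ (by norm_num)
      rw [← hcop.gcd_eq_one]
      exact Nat.dvd_gcd (orderOf_dvd_of_pow_eq_one hk) (orderOf_dvd_of_pow_eq_one h3)
    have h5 : β = 1 := orderOf_eq_one_iff.1 (Nat.dvd_one.1 h4)
    exact hne (congrArg Subtype.val (DFunLike.congr_fun h5 ⟨x, hx⟩) :)
  rcases MetaTwoAut.main (hG.to_subgroup X)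
    (MetaTwoFusion.isMetacyclic_of_le hX (isMetacyclic_frattini hG hb hnm)) hnp with ⟨⟨e⟩⟩ | ⟨n, ⟨e⟩⟩
  · exact commute_of_card_eight hG hb hnm hX (by rw [Nat.card_congr e.toEquiv, Nat.card_eq_fintype_card, QuaternionGroup.card])
  · intro x hx y hy
    exact congrArg Subtype.val (e.injective (show e (⟨x, hx⟩ * ⟨y, hy⟩) = e (⟨y, hy⟩ * ⟨x, hx⟩) by
      rw [map_mul, map_mul, mul_comm]))

end Omega

omit [Finite G] in
/-- In a 2-group with at most four solutions of `x² = 1`, an automorphism of order three that is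
nontrivial is fixed-point-free. -/
theorem fpf_of_moved (hG : IsPGroup 2 G) {X : Subgroup G} (hXc : ∀ x ∈ X, ∀ y ∈ X, x * y = y * x)
    {θ : G → G} (hmem : ∀ x ∈ X, θ x ∈ X) (hmul : ∀ x ∈ X, ∀ y ∈ X, θ (x * y) = θ x * θ y)
    (hcube : ∀ x ∈ X, θ (θ (θ x)) = x)
    (h4 : ∀ l : List G, l.Nodup → (∀ y ∈ l, y ∈ X ∧ y * y = 1) → l.length ≤ 4)
    (hmoved : ∃ x ∈ X, θ x ≠ x) :
    (∀ x ∈ X, θ x = x → x = 1) ∧ ∃ e ∈ X, e * e = 1 ∧ e ≠ 1 ∧ θ e ≠ e := by
  have hone : θ 1 = 1 := by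
    have h := hmul 1 (one_mem _) 1 (one_mem _)
    rw [mul_one] at h
    exact left_eq_mul.1 h
  have hinv : ∀ x ∈ X, θ x⁻¹ = (θ x)⁻¹ := fun x hx => eq_inv_of_mul_eq_one_left (by
    rw [← hmul _ (inv_mem hx) _ hx, inv_mul_cancel, hone])
  have hsqr : ∀ x ∈ X, θ (θ x) = x → θ x = x := fun x hx h => by
    have h3 := hcube x hx
    rwa [h] at h3
  obtain ⟨e, he, he2, hne⟩ : ∃ e ∈ X, e * e = 1 ∧ θ e ≠ e := by
    by_contra hall
    push Not at hall
    obtain ⟨x₀, hx₀, hne⟩ := hmoved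
    refine hne ?_
    clear hne
    obtain ⟨m, hm⟩ := hG x₀
    induction m generalizing x₀ with
    | zero => rw [pow_zero, pow_one] at hm; rw [hm, hone]
    | succ m ih =>
      have hx2 : x₀ * x₀ ∈ X := mul_mem hx₀ hx₀
      have h1 := ih (x₀ * x₀) hx2 (by rw [← pow_two, ← pow_mul, ← pow_succ']; exact hm)
      rw [hmul _ hx₀ _ hx₀] at h1
      have hd : θ (x₀⁻¹ * θ x₀) = x₀⁻¹ * θ x₀ := by
        refine hall _ (mul_mem (inv_mem hx₀) (hmem _ hx₀)) ?_
        rw [(show Commute (θ x₀) x₀⁻¹ from hXc _ (hmem _ hx₀) _ (inv_mem hx₀)).mul_mul_mul_comm, h1]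
        group
      refine hsqr _ hx₀ ?_
      rw [hmul _ (inv_mem hx₀) _ (hmem _ hx₀), hinv _ hx₀, inv_mul_eq_iff_eq_mul] at hd
      rw [hd, ← mul_assoc]
      calc θ x₀ * x₀⁻¹ * θ x₀ = θ x₀ * (θ x₀ * x₀⁻¹) := by
            rw [mul_assoc, hXc _ (inv_mem hx₀) _ (hmem _ hx₀)]
        _ = x₀ := by rw [← mul_assoc, h1, mul_inv_cancel_right]
  have he1 : e ≠ 1 := fun h => hne (by rw [h, hone])
  refine ⟨fun c hc hfix => ?_, e, he, he2, he1, hne⟩
  by_contra hc1
  obtain ⟨k, hk⟩ := hG c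
  obtain ⟨d, hd, hd2, hd1, hdfix⟩ : ∃ d ∈ X, d * d = 1 ∧ d ≠ 1 ∧ θ d = d := by
    clear hne he he2 he1
    induction k generalizing c with
    | zero => rw [pow_zero, pow_one] at hk; exact absurd hk hc1
    | succ k ih =>
      by_cases h2 : c * c = 1
      · exact ⟨c, hc, h2, hc1, hfix⟩
      · exact ih (c * c) (mul_mem hc hc) (by rw [hmul _ hc _ hc, hfix]) h2
          (by rw [← pow_two, ← pow_mul, ← pow_succ']; exact hk)
  have hθ2 : θ e * θ e = 1 := by rw [← hmul _ he _ he, he2, hone]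
  have hθθ2 : θ (θ e) * θ (θ e) = 1 := by rw [← hmul _ (hmem _ he) _ (hmem _ he), hθ2, hone]
  have hθ1 : θ e ≠ 1 := fun h => he1 (by rw [← hcube e he, h, hone, hone])
  have hθθ1 : θ (θ e) ≠ 1 := fun h => he1 (by rw [← hcube e he, h, hone])
  have n12 : e ≠ θ e := Ne.symm hne
  have n13 : e ≠ θ (θ e) := fun h => hne (hsqr e he h.symm)
  have n23 : θ e ≠ θ (θ e) := fun h => by
    have h' := congrArg θ h
    rw [hcube e he] at h'
    exact n13 h'.symm
  have nd1 : d ≠ e := fun h => hne (h ▸ hdfix)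
  have nd2 : d ≠ θ e := fun h => n23 (by rw [← h]; exact hdfix.symm)
  have nd3 : d ≠ θ (θ e) := fun h => nd1 (by rw [← hdfix, h, hcube e he])
  have := h4 [1, e, θ e, θ (θ e), d] (by
      simp [Ne.symm he1, Ne.symm hθ1, Ne.symm hθθ1, Ne.symm hd1, n12, n13, n23, Ne.symm nd1, Ne.symm nd2, Ne.symm nd3])
    (by
      intro y hy
      simp only [List.mem_cons, List.not_mem_nil, or_false] at hy
      rcases hy with rfl | rfl | rfl | rfl | rfl
      · exact ⟨one_mem _, one_mul 1⟩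
      · exact ⟨he, he2⟩
      · exact ⟨hmem _ he, hθ2⟩
      · exact ⟨hmem _ (hmem _ he), hθθ2⟩
      · exact ⟨hd, hd2⟩)
  simp at this

end CfsgLib.Bicyclic19
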