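import Mathlib
import Cfsg.Agent.Lib.Fusion.PEmbedded

/-!
# Automorphism groups of an elementary group of order eight with a strongly embedded subgroup

Such a group has Sylow 2-subgroups of order two, and an involution inverting an element of order
three. Elements are coded by the images of a basis adapted to a given involution.
-/

set_option autoImplicit false
set_option linter.style.haveILetI false

namespace CfsgLib.Bicyclic19

/-- Linear extension of a triple of images. -/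
def app (T : Fin 8 × Fin 8 × Fin 8) (i : Fin 8) : Fin 8 :=
  (if (i : ℕ) % 2 = 1 then T.1 else 0) ^^^ (if (i : ℕ) / 2 % 2 = 1 then T.2.1 else 0) ^^^
    (if (i : ℕ) / 4 = 1 then T.2.2 else 0)

/-- Composition of triples. -/
def comp3 (T U : Fin 8 × Fin 8 × Fin 8) : Fin 8 × Fin 8 × Fin 8 := (app T U.1, app T U.2.1, app T U.2.2)

/-- The identity. -/
abbrev unit3 : Fin 8 × Fin 8 × Fin 8 := (1, 2, 4)

/-- The transvection. -/
abbrev trans3 : Fin 8 × Fin 8 × Fin 8 := (3, 2, 4)

theorem fact_order : ∀ a b c : Fin 8, comp3 (a, b, c) (a, b, c) = unit3 →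
    (comp3 (comp3 trans3 (a, b, c)) (comp3 (comp3 trans3 (a, b, c)) (comp3 trans3 (a, b, c))) = unit3 ∨
      comp3 (comp3 (comp3 trans3 (a, b, c)) (comp3 trans3 (a, b, c)))
        (comp3 (comp3 trans3 (a, b, c)) (comp3 trans3 (a, b, c))) = unit3) := by
  decide +kernel

theorem fact_square : ∀ d e f : Fin 8, comp3 trans3 (d, e, f) = comp3 (d, e, f) trans3 →
    (∀ i : Fin 8, i ≠ 0 → app (d, e, f) i ≠ 0) →
      comp3 (d, e, f) (d, e, f) = unit3 ∨ comp3 (d, e, f) (d, e, f) = trans3 := by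
  decide +kernel

theorem fact_invol : ∀ a b c : Fin 8, comp3 (a, b, c) (a, b, c) = unit3 → (a, b, c) ≠ unit3 →
    (a, b, c) ≠ trans3 →
    comp3 (comp3 trans3 (a, b, c)) (comp3 (comp3 trans3 (a, b, c)) (comp3 trans3 (a, b, c))) = unit3 →
    ∀ d e f : Fin 8, comp3 trans3 (d, e, f) = comp3 (d, e, f) trans3 → (d, e, f) ≠ unit3 → (d, e, f) ≠ trans3 →
      comp3 (d, e, f) (d, e, f) = unit3 →
      comp3 (d, e, f) (comp3 (a, b, c) (comp3 (d, e, f) (a, b, c))) =
          comp3 (comp3 (a, b, c) (comp3 (d, e, f) (a, b, c))) (d, e, f) ∨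
        comp3 (comp3 (d, e, f) trans3) (comp3 (a, b, c) (comp3 (comp3 (d, e, f) trans3) (a, b, c))) =
          comp3 (comp3 (a, b, c) (comp3 (comp3 (d, e, f) trans3) (a, b, c))) (comp3 (d, e, f) trans3) := by
  decide +kernel

/-- The word producing a second involution. -/
def word3 (B S : Fin 8 × Fin 8 × Fin 8) : Fin 8 × Fin 8 × Fin 8 :=
  comp3 B (comp3 S (comp3 B (comp3 S (comp3 S (comp3 B (comp3 S (comp3 B (comp3 S (comp3 B (comp3 S B))))))))))

theorem fact_cyclic : ∀ a b c : Fin 8, comp3 (a, b, c) (a, b, c) = unit3 → (a, b, c) ≠ unit3 →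
    (a, b, c) ≠ trans3 →
    comp3 (comp3 trans3 (a, b, c)) (comp3 (comp3 trans3 (a, b, c)) (comp3 trans3 (a, b, c))) = unit3 →
    ∀ d e f : Fin 8, comp3 trans3 (d, e, f) = comp3 (d, e, f) trans3 →
      comp3 (d, e, f) (d, e, f) = trans3 →
      comp3 (word3 (a, b, c) (d, e, f)) (word3 (a, b, c) (d, e, f)) = unit3 ∧
        word3 (a, b, c) (d, e, f) ≠ unit3 ∧ word3 (a, b, c) (d, e, f) ≠ trans3 ∧
        comp3 trans3 (word3 (a, b, c) (d, e, f)) = comp3 (word3 (a, b, c) (d, e, f)) trans3 := by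
  decide +kernel

open CfsgLib.Fusion Subgroup

/-- The adapted basis and the coding it gives. -/
theorem exists_code {V : Type*} [CommGroup V] [Finite V] (hexp : ∀ v : V, v * v = 1) (hV : Nat.card V = 8)
    {H : Type*} [Group H] (ρ : H →* MulAut V) (hρ : Function.Injective ρ) {τ : H} (hτ1 : τ ≠ 1)
    (hτ2 : τ * τ = 1) :
    ∃ code : H → Fin 8 × Fin 8 × Fin 8, Function.Injective code ∧
      (∀ g h, code (g * h) = comp3 (code g) (code h)) ∧ code 1 = unit3 ∧ code τ = trans3 ∧
      ∀ g i, i ≠ 0 → app (code g) i ≠ 0 := by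
  classical
  have := Fintype.ofFinite V
  have hττ : ∀ v, ρ τ (ρ τ v) = v := fun v => by
    rw [← MulAut.mul_apply, ← map_mul, hτ2, map_one]; rfl
  obtain ⟨x, hx⟩ : ∃ x, ρ τ x ≠ x := by
    by_contra hall
    push Not at hall
    exact hτ1 (hρ (MulEquiv.ext fun v => by rw [hall v, map_one]; rfl))
  set y := x * ρ τ x with hy
  let d : V →* V :=
    { toFun := fun v => v * ρ τ v
      map_one' := by rw [map_one, one_mul]
      map_mul' := fun v w => by rw [map_mul, mul_mul_mul_comm] }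
  have hd : ∀ v, d v = v * ρ τ v := fun v => rfl
  have hd1 : ∀ v, d v = 1 ↔ ρ τ v = v := fun v => by
    rw [hd]
    exact ⟨fun h => mul_left_cancel (h.trans (hexp v).symm), fun h => by rw [h, hexp]⟩
  have hyτ : ρ τ y = y := by rw [hy, map_mul, hττ, mul_comm]
  have hy1 : y ≠ 1 := fun h => hx ((hd1 x).1 h)
  obtain ⟨w, hw, hw1, hwy⟩ : ∃ w, ρ τ w = w ∧ w ≠ 1 ∧ w ≠ y := by
    by_contra hno
    push Not at hno
    have hker : Nat.card d.ker ≤ 2 := by
      refine (Nat.card_le_card_of_surjective (fun b : Bool => (⟨if b then y else 1, ?_⟩ : d.ker)) ?_).trans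
        (by simp)
      · cases b
        · exact one_mem _
        · exact (hd1 y).2 hyτ
      · rintro ⟨v, hv⟩
        by_cases hv1 : v = 1
        · exact ⟨false, Subtype.ext hv1.symm⟩
        · exact ⟨true, Subtype.ext (hno v ((hd1 v).1 hv) hv1).symm⟩
    have hran : Nat.card d.range ≤ Nat.card d.ker := Subgroup.card_le_of_le (by
      rintro _ ⟨v, rfl⟩
      refine (hd1 _).2 ?_
      rw [hd, map_mul, hττ, mul_comm])
    have h8 := d.ker.card_mul_index
    rw [Subgroup.index_ker, hV] at h8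
    nlinarith
  have hpow : ∀ (v : V) (m : ℕ), v ^ m = v ^ (m % 2) := fun v m =>
    pow_eq_pow_mod m (by rw [pow_two, hexp])
  let φ : Fin 8 → V := fun i => x ^ ((i : ℕ) % 2) * y ^ ((i : ℕ) / 2 % 2) * w ^ ((i : ℕ) / 4)
  have hbits : ∀ i j : Fin 8, ((i ^^^ j : Fin 8) : ℕ) % 2 = ((i : ℕ) % 2 + (j : ℕ) % 2) % 2 ∧
      ((i ^^^ j : Fin 8) : ℕ) / 2 % 2 = ((i : ℕ) / 2 % 2 + (j : ℕ) / 2 % 2) % 2 ∧
      ((i ^^^ j : Fin 8) : ℕ) / 4 = ((i : ℕ) / 4 + (j : ℕ) / 4) % 2 := by decide
  have hφmul : ∀ i j, φ (i ^^^ j) = φ i * φ j := fun i j => by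
    obtain ⟨h1, h2, h3⟩ := hbits i j
    show x ^ _ * y ^ _ * w ^ _ = _
    rw [h1, h2, h3, ← hpow, ← hpow, ← hpow, pow_add, pow_add, pow_add, mul_mul_mul_comm (x ^ _),
      mul_mul_mul_comm]
  have hφ0 : φ 0 = 1 := by simp [φ]
  have hφx : φ 1 = x := by simp [φ]
  have hφy : φ 2 = y := by simp [φ]
  have hφw : φ 4 = w := by simp [φ]
  have hinj : ∀ i, φ i = 1 → i = 0 := by
    intro i hi
    have h1 : d (φ i) = y ^ ((i : ℕ) % 2) := by
      rw [map_mul, map_mul, map_pow, map_pow, map_pow, (hd1 y).2 hyτ, (hd1 w).2 hw, one_pow, one_pow,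
        mul_one, mul_one]
      rfl
    rw [hi, map_one] at h1
    have hb0 : (i : ℕ) % 2 = 0 := by
      rcases Nat.mod_two_eq_zero_or_one (i : ℕ) with h | h
      · exact h
      · rw [h, pow_one] at h1; exact absurd h1.symm hy1
    have h2 : y ^ ((i : ℕ) / 2 % 2) * w ^ ((i : ℕ) / 4) = 1 := by
      have : φ i = 1 := hi
      simpa [φ, hb0] using this
    have hi8 := i.isLt
    rcases Nat.mod_two_eq_zero_or_one ((i : ℕ) / 2) with h | h <;>
      rcases (show (i : ℕ) / 4 = 0 ∨ (i : ℕ) / 4 = 1 by omega) with h' | h' <;>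
      rw [h, h'] at h2 <;> simp only [pow_zero, pow_one, one_mul, mul_one] at h2
    · exact Fin.ext (by show (i : ℕ) = 0; omega)
    · exact absurd h2 hw1
    · exact absurd h2 hy1
    · exact absurd (by rw [mul_eq_one_iff_eq_inv, inv_eq_of_mul_eq_one_right (hexp w)] at h2; exact h2.symm) hwy
  have hφinj : Function.Injective φ := by
    intro i j hij
    have h1 := hinj (i ^^^ j) (by rw [hφmul, hij, hexp])
    have hx' : ∀ i j : Fin 8, i ^^^ j = 0 → i = j := by decide
    exact hx' i j h1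
  have hbij : Function.Bijective φ :=
    (Function.Injective.bijective_of_nat_card_le hφinj (by rw [hV]; simp))
  let inv := (Equiv.ofBijective φ hbij).symm
  have hinv : ∀ v, φ (inv v) = v := fun v => (Equiv.ofBijective φ hbij).apply_symm_apply v
  let code : H → Fin 8 × Fin 8 × Fin 8 := fun g => (inv (ρ g x), inv (ρ g y), inv (ρ g w))
  have hact : ∀ g i, ρ g (φ i) = φ (app (code g) i) := fun g i => by
    have hite : ∀ (m : ℕ) (a : Fin 8), m ≤ 1 → φ (if m = 1 then a else 0) = φ a ^ m := by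
      intro m a hm
      interval_cases m <;> simp [hφ0]
    show ρ g _ = φ (_ ^^^ _ ^^^ _)
    rw [hφmul, hφmul, hite _ _ (by omega), hite _ _ (by omega), hite _ _ (by omega)]
    show ρ g (x ^ _ * y ^ _ * w ^ _) = φ (inv (ρ g x)) ^ _ * φ (inv (ρ g y)) ^ _ * φ (inv (ρ g w)) ^ _
    rw [hinv, hinv, hinv, map_mul, map_mul, map_pow, map_pow, map_pow]
  refine ⟨code, fun g h he => hρ (MulEquiv.ext fun v => ?_), fun g h => ?_, ?_, ?_, fun g i hi h0 => ?_⟩
  · obtain ⟨i, rfl⟩ := hbij.2 v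
    rw [hact, hact, he]
  · have key : ∀ v, inv (ρ (g * h) v) = app (code g) (inv (ρ h v)) := fun v => hφinj (by
      rw [hinv, ← hact, hinv, map_mul, MulAut.mul_apply])
    exact Prod.ext (key x) (Prod.ext (key y) (key w))
  · refine Prod.ext ?_ (Prod.ext ?_ ?_) <;> refine hφinj ?_
    · show φ (inv (ρ 1 x)) = φ 1
      rw [hinv, map_one, hφx]; rfl
    · show φ (inv (ρ 1 y)) = φ 2
      rw [hinv, map_one, hφy]; rfl
    · show φ (inv (ρ 1 w)) = φ 4
      rw [hinv, map_one, hφw]; rfl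
  · refine Prod.ext ?_ (Prod.ext ?_ ?_) <;> refine hφinj ?_
    · show φ (inv (ρ τ x)) = φ 3
      rw [hinv, show (3 : Fin 8) = 1 ^^^ 2 from rfl, hφmul, hφx, hφy, hy, ← mul_assoc, hexp, one_mul]
    · show φ (inv (ρ τ y)) = φ 2
      rw [hinv, hφy, hyτ]
    · show φ (inv (ρ τ w)) = φ 4
      rw [hinv, hφw, hw]
  · refine hi (hinj i ((ρ g).injective ?_))
    rw [hact, h0, hφ0, map_one]

/-- Sylow 2-subgroups have order two and some involution inverts an element of order three. -/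
theorem out_structure_eight {V : Type*} [CommGroup V] [Finite V] (hexp : ∀ v : V, v * v = 1)
    (hV : Nat.card V = 8) {H : Type*} [Group H] [Finite H] (ρ : H →* MulAut V) (hρ : Function.Injective ρ)
    {M : Subgroup H} (hM : Cfsg.IsStronglyPEmbedded 2 M) (R : Sylow 2 H) :
    ∃ τ : H, (∀ g, g ∈ (R : Subgroup H) ↔ g = 1 ∨ g = τ) ∧ τ ≠ 1 ∧ τ * τ = 1 ∧
      ∃ p : H, p ≠ 1 ∧ p ^ 3 = 1 ∧ τ * p * τ⁻¹ = p⁻¹ := by
  haveI := Fact.mk Nat.prime_two
  obtain ⟨R₀, hR₀⟩ := exists_embeddingData hM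
  obtain ⟨x₀, hx₀⟩ := MulAction.exists_smul_eq H R₀ R
  set E := M.map (MulAut.conj x₀).toMonoidHom
  have hd : EmbeddingData 2 R E := hx₀ ▸ hR₀.map_conj x₀
  have hEne : E ≠ ⊤ := fun h => hM.2.1 (by
    have := congrArg (Subgroup.comap (MulAut.conj x₀).toMonoidHom) h
    rwa [Subgroup.comap_map_eq_self_of_injective (MulAut.conj x₀).injective, Subgroup.comap_top] at this)
  -- two properties of the strongly embedded subgroup
  have hzp : ∀ u : H, u * u = 1 → u ≠ 1 → IsPGroup 2 (zpowers u) ∧ zpowers u ≠ ⊥ := fun u h2 h1 =>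
    ⟨IsPGroup.of_card (n := 1) (by rw [Nat.card_zpowers, orderOf_eq_prime (by rw [pow_two]; exact h2) h1]; rfl),
      zpowers_ne_bot.2 h1⟩
  have hconj : ∀ u h : H, u ∈ E → u * u = 1 → u ≠ 1 → h * u * h⁻¹ ∈ E → h ∈ E := fun u h hu h2 h1 hhu =>
    hd.mem_of_conj (zpowers_le.2 hu) (hzp u h2 h1).1 (hzp u h2 h1).2 fun g hg => by
      obtain ⟨k, rfl⟩ := mem_zpowers_iff.1 hg
      rw [← conj_zpow]; exact zpow_mem hhu k
  have hcomm : ∀ u h : H, u ∈ E → u * u = 1 → u ≠ 1 → Commute h u → h ∈ E := fun u h hu h2 h1 hc =>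
    hconj u h hu h2 h1 (by rw [hc.eq, mul_inv_cancel_right]; exact hu)
  -- a central involution of `R`
  have hRne : (R : Subgroup H) ≠ ⊥ := R.ne_bot_of_dvd_card hM.1
  haveI : Nontrivial (R : Subgroup H) := nontrivial_iff_ne_bot _ |>.2 hRne
  haveI := R.2.center_nontrivial
  obtain ⟨⟨⟨τ, hτR⟩, hτc⟩, hτord⟩ := exists_prime_orderOf_dvd_card' (G := center (R : Subgroup H)) 2 (by
    obtain ⟨n, hn, hc⟩ := (R.2.to_subgroup (center _)).nontrivial_iff_card.1 inferInstance
    rw [hc]; exact dvd_pow_self 2 hn.ne')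
  rw [← Subgroup.orderOf_coe, ← Subgroup.orderOf_coe] at hτord
  have hτ1 : τ ≠ 1 := fun h => by simp [h] at hτord
  have hτ2 : τ * τ = 1 := by
    rw [← pow_two, ← hτord]; exact pow_orderOf_eq_one τ
  have hτcent : ∀ g ∈ (R : Subgroup H), Commute g τ := fun g hg =>
    congrArg Subtype.val (mem_center_iff.1 hτc ⟨g, hg⟩)
  have hτE : τ ∈ E := hd.le hτR
  obtain ⟨x, hxE⟩ : ∃ x, x ∉ E := by
    by_contra hall
    push Not at hall
    exact hEne (eq_top_iff.2 fun g _ => hall g)
  set β := x * τ * x⁻¹ with hβ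
  have hβE : β ∉ E := fun h => hxE (hconj τ x hτE hτ2 hτ1 h)
  have hβ2 : β * β = 1 := by rw [hβ, show x * τ * x⁻¹ * (x * τ * x⁻¹) = x * (τ * τ) * x⁻¹ by group, hτ2]; group
  obtain ⟨code, hinj, hmul, hone, htau, hnz⟩ := exists_code hexp hV ρ hρ hτ1 hτ2
  have hβ3 : code β ≠ unit3 := fun h => hβE (by rw [hinj (h.trans hone.symm)]; exact one_mem _)
  have hβτ : code β ≠ trans3 := fun h => hβE (by rw [hinj (h.trans htau.symm)]; exact hτE)
  set p := τ * β with hp
  have hp1 : p ≠ 1 := fun h => hβτ (by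
    rw [← htau]; congr 1
    exact (eq_inv_of_mul_eq_one_right h).trans (inv_eq_of_mul_eq_one_right hτ2))
  have hinvp : τ * p * τ⁻¹ = p⁻¹ := by
    rw [hp, mul_inv_rev, inv_eq_of_mul_eq_one_right hβ2, inv_eq_of_mul_eq_one_right hτ2, ← mul_assoc τ, hτ2,
      one_mul]
  have hp3 : p ^ 3 = 1 := by
    rcases fact_order (code β).1 (code β).2.1 (code β).2.2 (by
      show comp3 (code β) (code β) = unit3
      rw [← hmul, hβ2, hone]) with h | h
    · change comp3 (comp3 trans3 (code β)) (comp3 (comp3 trans3 (code β)) (comp3 trans3 (code β))) = unit3 at h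
      rw [← htau, ← hmul, ← hp, ← hmul, ← hmul, ← hone] at h
      rw [pow_succ', pow_two]; exact hinj h
    · change comp3 (comp3 (comp3 trans3 (code β)) (comp3 trans3 (code β)))
        (comp3 (comp3 trans3 (code β)) (comp3 trans3 (code β))) = unit3 at h
      rw [← htau, ← hmul, ← hp, ← hmul, ← hmul, ← hone] at h
      have h4 := hinj h
      by_cases hu : p * p = 1
      · refine absurd (hcomm τ β hτE hτ2 hτ1 ?_) hβE
        have h5 := eq_inv_of_mul_eq_one_right hu
        rw [hp, mul_inv_rev, inv_eq_of_mul_eq_one_right hβ2, inv_eq_of_mul_eq_one_right hτ2] at h5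
        exact h5.symm
      exfalso
      have huτ : Commute τ (p * p) := by
        refine mul_inv_eq_iff_eq_mul.1 ?_
        rw [show τ * (p * p) * τ⁻¹ = (τ * p * τ⁻¹) * (τ * p * τ⁻¹) by group, hinvp, ← mul_inv_rev,
          inv_eq_of_mul_eq_one_right h4]
      have huE : p * p ∈ E := hcomm τ _ hτE hτ2 hτ1 huτ.symm
      refine hβE (hcomm _ β huE h4 hu ?_)
      have hβp : β = τ * p := by rw [hp, ← mul_assoc, hτ2, one_mul]
      rw [hβp]
      exact huτ.mul_left ((Commute.refl p).mul_right (Commute.refl p))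
  have hkey : ∀ σ : H, Commute σ τ → σ * σ = 1 → σ ≠ 1 → σ ≠ τ → False := by
    intro σ hc h2 h1 hσ
    have hbase := fact_invol (code β).1 (code β).2.1 (code β).2.2
      (by show comp3 (code β) (code β) = unit3; rw [← hmul, hβ2, hone]) hβ3 hβτ
      (by
        show comp3 (comp3 trans3 (code β)) (comp3 (comp3 trans3 (code β)) (comp3 trans3 (code β))) = unit3
        rw [← htau, ← hmul, ← hp, ← hmul, ← hmul, ← hone, ← pow_two, ← pow_succ', hp3])
      (code σ).1 (code σ).2.1 (code σ).2.2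
      (by show comp3 trans3 (code σ) = comp3 (code σ) trans3; rw [← htau, ← hmul, ← hmul, hc.eq])
      (fun h => h1 (hinj (h.trans hone.symm))) (fun h => hσ (hinj (h.trans htau.symm)))
      (by show comp3 (code σ) (code σ) = unit3; rw [← hmul, h2, hone])
    have main : ∀ y : H, Commute y τ → y * y = 1 → y ≠ 1 → Commute y (β * (y * β)) → False := by
      intro y hyc hy2 hy1 hy
      have hyE : y ∈ E := hcomm τ y hτE hτ2 hτ1 hyc
      refine hβE (hconj y β hyE hy2 hy1 ?_)
      rw [inv_eq_of_mul_eq_one_right hβ2, mul_assoc]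
      exact hcomm y _ hyE hy2 hy1 hy.symm
    change comp3 (code σ) (comp3 (code β) (comp3 (code σ) (code β))) =
        comp3 (comp3 (code β) (comp3 (code σ) (code β))) (code σ) ∨
      comp3 (comp3 (code σ) trans3) (comp3 (code β) (comp3 (comp3 (code σ) trans3) (code β))) =
        comp3 (comp3 (code β) (comp3 (comp3 (code σ) trans3) (code β))) (comp3 (code σ) trans3) at hbase
    simp only [← htau, ← hmul] at hbase
    rcases hbase with h | h
    · exact main σ hc h2 h1 (hinj h)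
    · refine main (σ * τ) (hc.mul_left (Commute.refl τ)) ?_ ?_ (hinj h)
      · rw [hc.symm.mul_mul_mul_comm, h2, hτ2, one_mul]
      · exact fun h0 => hσ ((eq_inv_of_mul_eq_one_left h0).trans (inv_eq_of_mul_eq_one_right hτ2))
  refine ⟨τ, fun g => ⟨fun hg => ?_, ?_⟩, hτ1, hτ2, p, hp1, hp3, hinvp⟩
  · by_contra hne
    rw [not_or] at hne
    have hgc := hτcent g hg
    have hcode : comp3 trans3 (code g) = comp3 (code g) trans3 := by rw [← htau, ← hmul, ← hmul, hgc.eq]
    rcases fact_square (code g).1 (code g).2.1 (code g).2.2 hcode (fun i hi => hnz g i hi) with h | h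
    · change comp3 (code g) (code g) = unit3 at h
      rw [← hmul, ← hone] at h
      exact hkey g hgc (hinj h) hne.1 hne.2
    · change comp3 (code g) (code g) = trans3 at h
      obtain ⟨h1, h2, h3, h4⟩ := fact_cyclic (code β).1 (code β).2.1 (code β).2.2
        (by show comp3 (code β) (code β) = unit3; rw [← hmul, hβ2, hone]) hβ3 hβτ
        (by
          show comp3 (comp3 trans3 (code β)) (comp3 (comp3 trans3 (code β)) (comp3 trans3 (code β))) = unit3
          rw [← htau, ← hmul, ← hp, ← hmul, ← hmul, ← hone, ← pow_two, ← pow_succ', hp3])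
        (code g).1 (code g).2.1 (code g).2.2 hcode h
      change comp3 (word3 (code β) (code g)) (word3 (code β) (code g)) = unit3 at h1
      change word3 (code β) (code g) ≠ unit3 at h2
      change word3 (code β) (code g) ≠ trans3 at h3
      change comp3 trans3 (word3 (code β) (code g)) = comp3 (word3 (code β) (code g)) trans3 at h4
      simp only [word3, ← htau, ← hmul] at h1 h2 h3 h4
      rw [← hone] at h1 h2
      exact hkey _ (hinj h4).symm (hinj h1) (fun h0 => h2 (by rw [h0])) (fun h0 => h3 (by rw [h0]))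
  · rintro (rfl | rfl)
    · exact one_mem _
    · exact hτR

/-- The same for any elementary group of order dividing eight. -/
theorem out_structure {V : Type*} [CommGroup V] [Finite V] (hexp : ∀ v : V, v * v = 1)
    (hV : Nat.card V ∣ 8) {H : Type*} [Group H] [Finite H] (ρ : H →* MulAut V) (hρ : Function.Injective ρ)
    {M : Subgroup H} (hM : Cfsg.IsStronglyPEmbedded 2 M) (R : Sylow 2 H) :
    ∃ τ : H, (∀ g, g ∈ (R : Subgroup H) ↔ g = 1 ∨ g = τ) ∧ τ ≠ 1 ∧ τ * τ = 1 ∧
      ∃ p : H, p ≠ 1 ∧ p ^ 3 = 1 ∧ τ * p * τ⁻¹ = p⁻¹ := by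
  obtain ⟨k, hk, hkV⟩ := (Nat.dvd_prime_pow Nat.prime_two).1 (show Nat.card V ∣ 2 ^ 3 from hV)
  set m := 3 - k
  let W := V × (Fin m → Multiplicative (ZMod 2))
  have hW : Nat.card W = 8 := by
    rw [Nat.card_prod, hkV, Nat.card_fun, Nat.card_fin, Nat.card_congr Multiplicative.toAdd, Nat.card_zmod,
      ← pow_add, show k + m = 3 by omega]
    rfl
  have hWexp : ∀ v : W, v * v = 1 := fun v => by
    refine Prod.ext (hexp v.1) (funext fun i => ?_)
    have h2 : ∀ z : Multiplicative (ZMod 2), z * z = 1 := by decide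
    exact h2 _
  let ρ' : H →* MulAut W :=
    { toFun := fun g => MulEquiv.prodCongr (ρ g) (MulEquiv.refl _)
      map_one' := MulEquiv.ext fun v => Prod.ext (by show ρ 1 v.1 = v.1; rw [map_one]; rfl) rfl
      map_mul' := fun g h => MulEquiv.ext fun v => Prod.ext (by
        show ρ (g * h) v.1 = ρ g (ρ h v.1); rw [map_mul]; rfl) rfl }
  have hρ' : Function.Injective ρ' := fun g h he => hρ (MulEquiv.ext fun v =>
    congrArg Prod.fst (DFunLike.congr_fun he ((v, 1) : W)))
  exact out_structure_eight hWexp hW ρ' hρ' hM R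

end CfsgLib.Bicyclic19
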