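import Cfsg.Agent.Lib.Bicyclic19.CaseTwo
import Cfsg.Agent.Lib.Bicyclic19.Out
import Cfsg.Agent.Lib.Fusion.Alperin
import Cfsg.Agent.Lib.Fusion.DihedralTop
import Cfsg.Agent.Lib.H82.AutFrattini

/-!
# Saturated systems other than the inner one force a cyclic commutator subgroup
-/

set_option autoImplicit false
set_option linter.style.haveILetI false
set_option linter.unusedSectionVars false

namespace CfsgLib.Bicyclic19

open Subgroup
open scoped commutatorElement

universe u

variable {G : Type u} [Group G]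

/-- The automorphisms acting trivially on `X / Φ(X)` form a 2-group. -/
theorem isPGroup_of_trivial_frattini {X : Type*} [Group X] [Finite X] (hX : IsPGroup 2 X)
    (A : Subgroup (MulAut X)) (hA : ∀ α ∈ A, ∀ x : X, α x * x⁻¹ ∈ frattini X) : IsPGroup 2 A := by
  haveI := Fact.mk Nat.prime_two
  obtain ⟨n, hn⟩ := IsPGroup.iff_card.1 hX
  obtain ⟨r, hr⟩ := hX.index (frattini X)
  have h := CfsgLib.AutFrattini82.card_aut_trivial_dvd hn hr A hA
  obtain ⟨m, -, hm⟩ := (Nat.dvd_prime_pow Nat.prime_two).1 h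
  exact IsPGroup.of_card hm

section TopAut

variable [Finite G] (hG : IsPGroup 2 G) (hb : Bicyclic G) (hnm : ¬ Cfsg.IsMetacyclic G)

include hG hb hnm

/-- The automorphism group of a bicyclic nonmetacyclic 2-group is a 2-group. -/
theorem isPGroup_mulAut : IsPGroup 2 (MulAut G) := by
  classical
  haveI := Fact.mk Nat.prime_two
  obtain ⟨a, b, hgen, ha⟩ := exists_gens hG hb hnm
  set π := QuotientGroup.mk' (frattini G) with hπdef
  have hπ : ∀ x, π x = 1 ↔ x ∈ frattini G := fun x => QuotientGroup.eq_one_iff x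
  have h2 : ∀ x : G, π x * π x = 1 := fun x => by
    rw [← map_mul, hπ, ← pow_two]; exact CfsgLib.PGroup.pow_mem_frattini hG x
  have hcyc : ∀ x : G, closure ({x} : Set G) ⊔ frattini G ≠ ⊤ := fun x e => by
    haveI : IsCyclic G := isCyclic_iff_exists_zpowers_eq_top.2 ⟨x, by
      rw [zpowers_eq_closure]; exact frattini_nongenerating e⟩
    exact hnm isMetacyclic_of_isCyclic
  have hgenx : ∀ {H : Subgroup G}, a ∈ H → b ∈ H → ⊤ ≤ H := fun {H} h1 h2 => hgen ▸ (closure_le _).2 (by
    rintro w (rfl | rfl) <;> assumption)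
  have haF : a ∉ frattini G := fun e => hcyc b (top_le_iff.1 (hgenx (mem_sup_right e)
    (mem_sup_left (subset_closure rfl))))
  have hbF : b ∉ frattini G := fun e => hcyc a (top_le_iff.1 (hgenx (mem_sup_left (subset_closure rfl))
    (mem_sup_right e)))
  have habF : a * b ∉ frattini G := fun e => hcyc a (top_le_iff.1 (hgenx (mem_sup_left (subset_closure rfl)) (by
    have := mul_mem (mem_sup_left (T := frattini G) (inv_mem (subset_closure rfl : a ∈ closure ({a} : Set G))))
      (mem_sup_right (S := closure ({a} : Set G)) e)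
    rwa [inv_mul_cancel_left] at this)))
  -- the four classes
  have hcls : ∀ x, π x = 1 ∨ π x = π a ∨ π x = π b ∨ π x = π a * π b := by
    intro x
    by_contra hno
    simp only [not_or] at hno
    have := Fintype.ofFinite (G ⧸ frattini G)
    have hnd : [1, π a, π b, π a * π b, π x].Nodup := by
      have n1 : π a ≠ 1 := fun e => haF ((hπ a).1 e)
      have n2 : π b ≠ 1 := fun e => hbF ((hπ b).1 e)
      have n3 : π a * π b ≠ 1 := fun e => habF ((hπ _).1 (by rw [map_mul, e]))
      have n4 : π a ≠ π b := fun e => n3 (by rw [e, h2])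
      have n5 : π a ≠ π a * π b := fun e => n2 (left_eq_mul.1 e)
      have n6 : π b ≠ π a * π b := fun e => n1 (right_eq_mul.1 e)
      simp [-map_mul, Ne.symm n1, Ne.symm n2, Ne.symm n3, n4, n5, n6, Ne.symm hno.1, Ne.symm hno.2.1,
        Ne.symm hno.2.2.1, Ne.symm hno.2.2.2]
    have h5 := hnd.length_le_card
    have h4 := index_frattini_le_four hG hb
    rw [Subgroup.index_eq_card, Nat.card_eq_fintype_card] at h4
    simp only [List.length_cons, List.length_nil] at h5
    omega
  have hfix : ∀ (β : MulAut G) (x : G), x ∈ frattini G → β x ∈ frattini G := fun β x hx =>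
    (characteristic_iff_map_eq.1 (inferInstance : (frattini G).Characteristic) β).le (mem_map_of_mem _ hx)
  have hrel : ∀ (β : MulAut G) (x y : G), π x = π y → π (β x) = π (β y) := fun β x y e => by
    rw [QuotientGroup.mk'_apply, QuotientGroup.mk'_apply, QuotientGroup.eq, ← map_inv β, ← map_mul β]
    exact hfix β _ (QuotientGroup.eq.1 e)
  -- `β` fixes the class of `a`
  have hA : ∀ β : MulAut G, π (β a) = π a := by
    intro β
    by_contra hne
    have hβ : β a ∉ frattini G := fun e => haF (by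
      have := hfix β⁻¹ _ e
      rwa [MulAut.inv_apply_self] at this)
    refine not_gen_of_sq hG hnm ha (a' := β a) ?_ (gen_of_independent hG hb haF hβ fun e => hne ?_)
    · rw [← map_pow]; exact map_derRad_le (β : G →* G) β.surjective (mem_map_of_mem _ ha)
    · have h1 := (hπ _).2 e
      rw [map_mul] at h1
      exact (mul_left_cancel (h1.trans (h2 a).symm))
  have hB : ∀ β : MulAut G, π (β (β b)) = π b := by
    intro β
    rcases hcls (β b) with e | e | e | e
    · refine absurd (hfix β⁻¹ _ ((hπ _).1 e)) ?_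
      rwa [MulAut.inv_apply_self]
    · refine absurd ((hπ _).1 ?_) habF
      have h1 := hrel β⁻¹ _ _ (e.trans (hA β).symm)
      rw [MulAut.inv_apply_self, MulAut.inv_apply_self] at h1
      rw [map_mul, h1, h2]
    · exact (hrel β _ _ e).trans e
    · rw [hrel β _ (a * b) (by rw [e, map_mul]), map_mul β, map_mul, hA β, e, ← mul_assoc, h2, one_mul]
  let K : Subgroup (MulAut G) :=
    { carrier := {α | ∀ x : G, π (α x) = π x}
      one_mem' := fun x => rfl
      mul_mem' := fun {α α'} hα hα' x => (hα (α' x)).trans (hα' x)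
      inv_mem' := fun {α} hα x => by
        have := hα (α⁻¹ x)
        rw [MulAut.apply_inv_self] at this
        exact this.symm }
  have hKp : IsPGroup 2 K := isPGroup_of_trivial_frattini hG K fun α hα x => by
    rw [← hπ, map_mul, map_inv, hα x, mul_inv_cancel]
  intro β
  have hsq : β * β ∈ K := by
    intro x
    have hgenQ : closure ({a, b} : Set G) ≤
        MonoidHom.eqLocus (π.comp ((β * β : MulAut G) : G →* G)) π := (closure_le _).2 (by
      rintro w (rfl | rfl)
      · exact (hrel β _ _ (hA β)).trans (hA β)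
      · exact hB β)
    exact hgenQ (hgen ▸ mem_top x)
  obtain ⟨k, hk⟩ := hKp ⟨β * β, hsq⟩
  refine ⟨k + 1, ?_⟩
  rw [pow_succ', pow_mul, pow_two]
  exact congrArg Subtype.val hk

/-- The bound on `P / Φ(P)`. -/
theorem index_sqs_le_eight {P : Subgroup G} {g : G} (hg : g ∉ P) : (closure (sqs P)).relIndex P ≤ 8 := by
  set Y := P ⊓ frattini G
  have hY : Y.relIndex P ≤ 2 := frattini_inter_index hG hb hg
  have hm : (closure (sqs Y)).relIndex Y ≤ 4 := relIndex_sqs_le_of_metacyclic hG
    (MetaTwoFusion.isMetacyclic_of_le inf_le_right (isMetacyclic_frattini hG hb hnm))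
  have h1 := relIndex_mul_relIndex (closure (sqs Y)) Y P (sqs_closure_le Y) inf_le_left
  have hsub : closure (sqs Y) ≤ closure (sqs P) := sqs_mono inf_le_left
  have h2 := relIndex_mul_relIndex (closure (sqs Y)) _ P hsub (sqs_closure_le _)
  have h3 : (closure (sqs Y)).relIndex P ≤ 8 := by
    rw [← h1]; exact Nat.mul_le_mul hm hY
  have hpos : 0 < (closure (sqs Y)).relIndex (closure (sqs P)) := Nat.pos_of_ne_zero index_ne_zero_of_finite
  calc (closure (sqs P)).relIndex P
      ≤ (closure (sqs Y)).relIndex (closure (sqs P)) * (closure (sqs P)).relIndex P := Nat.le_mul_of_pos_left _ hpos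
    _ ≤ 8 := by rw [h2]; exact h3

/-- The three cases. -/
theorem Ctx.cyclic {P : Subgroup G} {g : G} {θ : G → G} (h : Ctx P g θ) :
    IsCyclic (_root_.commutator G) := by
  haveI := Fact.mk Nat.prime_two
  by_contra hnc
  set B := closure (sqs (Ctx.T P θ)) with hB
  have hBF : B ≤ frattini G := sqs_le_frattini hG _
  by_cases hmv : ∃ v ∈ B, θ v ≠ v
  · obtain ⟨hTc, hfix, e, he, he2, heθ⟩ := h.abelian_of_B_moved hG hb hnm hmv
    exact hnc (h.cyclic_of_abelian hG hb hnm hTc hfix (sqs_closure_le _ he) (hBF he) (hBF (h.B_map hG he)) he2 heθ)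
  push Not at hmv
  by_cases hTF : Ctx.T P θ ≤ frattini G
  · obtain ⟨hlfix, -⟩ := h.layer hG hb hnm
    obtain ⟨t, ht, htB⟩ := SetLike.not_le_iff_exists.1 (h.T_ne hG)
    have hmoved : ∃ x ∈ Ctx.T P θ, θ x ≠ x := ⟨t, ht, fun e => htB (hlfix t ht (by rw [e]; exact Ctx.Rel.refl t))⟩
    have hmem : ∀ x ∈ Ctx.T P θ, θ x ∈ Ctx.T P θ := fun x hx => h.T_map hx
    have hmul : ∀ x ∈ Ctx.T P θ, ∀ y ∈ Ctx.T P θ, θ (x * y) = θ x * θ y := fun x hx y hy =>
      h.mul x (h.T_le hx) y (h.T_le hy)
    have hcube : ∀ x ∈ Ctx.T P θ, θ (θ (θ x)) = x := fun x hx => h.cube x (h.T_le hx)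
    have hTc := comm_of_moved hG hb hnm hTF hmem hmul hcube hmoved
    obtain ⟨hfix, e, he, he2, -, heθ⟩ :=
      fpf_of_moved hG hTc hmem hmul hcube (fun l => h.omega_list hG hb hnm hTF l) hmoved
    exact hnc (h.cyclic_of_abelian hG hb hnm hTc hfix he (hTF he) (hTF (hmem e he)) he2 heθ)
  · exact h.case_two_false hG hb hnm hnc hTF hmv

end TopAut

section Reduction

open Cfsg Cfsg.FusionSystem CfsgLib.Fusion

variable {Ω : Type u} [Group Ω] {S : Subgroup Ω} [Finite S] (hS : IsPGroup 2 S) (hb : Bicyclic S)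
  (hm : ¬ Cfsg.IsMetacyclic S)

include hS hb hm

/-- An essential subgroup yields the configuration. -/
theorem exists_ctx {F : FusionSystem S} (hF : F.IsSaturated 2) {P : Subgroup Ω} (hP : P < S)
    (he : F.IsEssential 2 P) : ∃ (g : S) (θ : S → S), Ctx (P.subgroupOf S) g θ := by
  classical
  haveI := Fact.mk Nat.prime_two
  have hrad := radical_of_essential he hS
  obtain ⟨hc, hn, hN, E, hE⟩ := he
  have hPS : P ≤ S := hn.1
  haveI := finite_mulAut hPS
  haveI := finite_of_le hPS
  haveI := hN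
  have hC := IsCentric.centralizerIn_le' hc
  have hPp : IsPGroup 2 P := hS.to_le hPS
  set A := F.autGroup P with hAdef
  set N := (Inn P).subgroupOf A with hNdef
  have hNp : IsPGroup 2 N :=
    (hPp.of_surjective (MulAut.conj : P →* MulAut P).rangeRestrict
      (MulAut.conj : P →* MulAut P).rangeRestrict_surjective).comap_subtype
  -- the action on `P/Φ(P)`
  let V := P ⧸ frattini P
  have hexp : ∀ v : V, v * v = 1 := fun v => by
    obtain ⟨x, rfl⟩ := QuotientGroup.mk'_surjective (frattini P) v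
    rw [← map_mul, QuotientGroup.mk'_apply, QuotientGroup.eq_one_iff, ← pow_two]
    exact CfsgLib.PGroup.pow_mem_frattini hPp x
  letI : CommGroup V :=
    { (inferInstance : Group V) with
      mul_comm := fun a b => by
        have h1 := inv_eq_of_mul_eq_one_right (hexp (a * b))
        rw [mul_inv_rev, inv_eq_of_mul_eq_one_right (hexp a), inv_eq_of_mul_eq_one_right (hexp b)] at h1
        exact h1.symm }
  obtain ⟨s₀, hs₀, hs₀P⟩ := SetLike.exists_of_lt hP
  have hV8 : Nat.card V ∣ 8 := by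
    have h8 : (frattini (P.subgroupOf S)).index ≤ 8 := by
      have h1 : (closure (sqs (P.subgroupOf S))).subgroupOf (P.subgroupOf S) = frattini (P.subgroupOf S) := by
        rw [← sqs_eq_frattini hS (P.subgroupOf S)]
        exact comap_map_eq_self_of_injective (P.subgroupOf S).subtype_injective _
      rw [← h1]
      exact index_sqs_le_eight hS hb hm (g := (⟨s₀, hs₀⟩ : S)) fun e => hs₀P (mem_subgroupOf.1 e)
    let f : P.subgroupOf S →* P := (subgroupOfEquivOfLe hPS).toMonoidHom
    have hf : Function.Surjective f := (subgroupOfEquivOfLe hPS).surjective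
    have h2 : (frattini P).index ≤ (frattini (P.subgroupOf S)).index := by
      rw [← index_comap_of_surjective (frattini P) hf]
      exact Nat.le_of_dvd (Nat.pos_of_ne_zero index_ne_zero_of_finite)
        (index_dvd_of_le (frattini_le_comap_frattini_of_surjective hf))
    obtain ⟨r, hr⟩ := hPp.index (frattini P)
    rw [show Nat.card V = (frattini P).index from (Subgroup.index_eq_card _).symm, hr]
    have h3 : 2 ^ r ≤ 2 ^ 3 := by rw [← hr]; exact h2.trans h8
    exact pow_dvd_pow 2 ((Nat.pow_le_pow_iff_right (by norm_num)).1 h3)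
  let ρ₀ : A →* MulAut V :=
    { toFun := fun α => QuotientGroup.congr (frattini P) (frattini P) (α : MulAut P)
        (characteristic_iff_map_eq.1 inferInstance _)
      map_one' := MulEquiv.ext fun v => by
        obtain ⟨x, rfl⟩ := QuotientGroup.mk'_surjective (frattini P) v
        rfl
      map_mul' := fun α β => MulEquiv.ext fun v => by
        obtain ⟨x, rfl⟩ := QuotientGroup.mk'_surjective (frattini P) v
        rfl }
  have hρ₀ : ∀ (α : A) (x : P), ρ₀ α (QuotientGroup.mk' (frattini P) x) =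
      QuotientGroup.mk' (frattini P) ((α : MulAut P) x) := fun α x => rfl
  have hNker : N ≤ ρ₀.ker := by
    intro α hα
    obtain ⟨z, hz⟩ := mem_inn.1 (mem_subgroupOf.1 hα)
    refine MulEquiv.ext fun v => ?_
    obtain ⟨x, rfl⟩ := QuotientGroup.mk'_surjective (frattini P) v
    rw [hρ₀, hz, map_mul, map_mul, map_inv]
    show _ = QuotientGroup.mk' (frattini P) x
    rw [mul_comm (QuotientGroup.mk' (frattini P) z : V), mul_inv_cancel_right]
  have hkerN : ρ₀.ker ≤ N := by
    have hK : IsPGroup 2 (ρ₀.ker.map A.subtype) := by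
      refine isPGroup_of_trivial_frattini hPp _ ?_
      rintro _ ⟨α, hα, rfl⟩ x
      have h1 : ρ₀ α (QuotientGroup.mk' (frattini P) x) = QuotientGroup.mk' (frattini P) x := by
        rw [MonoidHom.mem_ker.1 hα]; rfl
      rw [hρ₀] at h1
      rw [← QuotientGroup.eq_one_iff, ← QuotientGroup.mk'_apply, map_mul, map_inv]
      exact mul_inv_eq_one.2 h1
    have hK' : IsPGroup 2 ρ₀.ker :=
      hK.of_injective ((ρ₀.ker.equivMapOfInjective A.subtype A.subtype_injective).toMonoidHom)
        (ρ₀.ker.equivMapOfInjective A.subtype A.subtype_injective).injective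
    intro α hα
    have hα' : α ∈ pCore 2 A :=
      (le_sSup ⟨inferInstance, hK'⟩ : ρ₀.ker ≤ pCore 2 A) hα
    exact mem_subgroupOf.2 (hrad.2.le (mem_map_of_mem A.subtype hα'))
  let ρ : A ⧸ N →* MulAut V := QuotientGroup.lift N ρ₀ hNker
  have hρ : Function.Injective ρ := by
    rw [injective_iff_map_eq_one]
    intro q hq
    obtain ⟨α, rfl⟩ := QuotientGroup.mk'_surjective N q
    exact (QuotientGroup.eq_one_iff α).2 (hkerN hq)
  obtain ⟨R, hR⟩ := sylow_out (fullyNormalized_good hS hF hn).1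
  obtain ⟨τ, hτ, hτ1, -, p, hp1, hp3, hτp⟩ := out_structure hexp hV8 ρ hρ hE R
  -- the involution comes from an element of the normaliser
  obtain ⟨a, ha, hae⟩ := hR.le ((hτ τ).2 (Or.inr rfl))
  obtain ⟨g, hgS, hga⟩ := mem_autInducedBy.1 (ha : (a : MulAut P) ∈ autInducedBy S P)
  have hgP : g ∉ P := fun h0 => hτ1 (hae ▸ (QuotientGroup.eq_one_iff a).2
    ((mem_inn_iff_mem hPS hC hgS hga).2 h0))
  have hgnorm := mem_normalizer_of_aut hga
  -- the lift of order three
  obtain ⟨β₀, hβ₀⟩ := QuotientGroup.mk'_surjective N p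
  obtain ⟨k, hk⟩ := hNp ⟨β₀ ^ 3, (QuotientGroup.eq_one_iff _).1 (by
    rw [← QuotientGroup.mk'_apply, map_pow, hβ₀, hp3])⟩
  set β : A := β₀ ^ 4 ^ k with hβdef
  have hβ3 : β ^ 3 = 1 := by
    rw [hβdef, ← pow_mul, mul_comm, pow_mul, show 4 ^ k = 2 ^ k * 2 ^ k by rw [← mul_pow]; rfl, pow_mul]
    have h1 : (β₀ ^ 3) ^ 2 ^ k = 1 := congrArg Subtype.val hk
    rw [h1, one_pow]
  have hβp : QuotientGroup.mk' N β = p := by
    rw [hβdef, map_pow, hβ₀, pow_eq_pow_mod _ hp3, Nat.pow_mod]
    norm_num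
  have hz : a * β * (β ^ 2 * a)⁻¹ ∈ N := by
    rw [← QuotientGroup.eq_one_iff, ← QuotientGroup.mk'_apply, map_mul, map_mul, map_inv, map_mul, hβp,
      map_pow (QuotientGroup.mk' N) β 2, hβp, hae, mul_inv_rev, ← mul_assoc, hτp, ← mul_inv_rev, ← pow_succ, hp3, inv_one]
  obtain ⟨q, hq⟩ := mem_inn.1 (mem_subgroupOf.1 hz)
  -- transport to `S`
  let θ : S → S := fun x => if h : (x : Ω) ∈ P then ⟨((β : MulAut P) ⟨x, h⟩ : P), hPS (Subtype.mem _)⟩ else x
  have hθ : ∀ (x : S) (w : P), (x : Ω) = w → ((θ x : S) : Ω) = ((β : MulAut P) w : P) := by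
    intro x w hxw
    have h : (x : Ω) ∈ P := hxw ▸ w.2
    have e : w = ⟨x, h⟩ := Subtype.ext hxw.symm
    show ((dite _ _ _ : S) : Ω) = _
    rw [dif_pos h, e]
  have hβapp : ∀ w : P, (β : MulAut P) ((β : MulAut P) ((β : MulAut P) w)) = w := fun w => by
    have h1 : ((β : MulAut P)) ^ 3 = 1 := by rw [← Subgroup.coe_pow, hβ3]; rfl
    have h2 := DFunLike.congr_fun h1 w
    rwa [pow_succ, pow_two, MulAut.mul_apply, MulAut.mul_apply] at h2
  refine ⟨⟨g, hgS⟩, θ, ?_, fun e => hgP (mem_subgroupOf.1 e), ?_, ?_, ?_, ?_, ?_, ?_, ?_⟩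
  · exact mem_normalizer_fintype fun x hx =>
      mem_subgroupOf.2 ((Subgroup.mem_normalizer_iff.1 hgnorm (x : Ω)).1 (mem_subgroupOf.1 hx))
  · intro x hx
    refine mem_subgroupOf.2 (hC ⟨x.2, Subgroup.mem_centralizer_iff.2 fun y hy => ?_⟩)
    exact congrArg Subtype.val (hx ⟨y, hPS hy⟩ (mem_subgroupOf.2 hy))
  · intro s hs
    have hsN : (s : Ω) ∈ Subgroup.normalizer (P : Set Ω) := by
      refine Subgroup.mem_normalizer_iff.2 fun y => ⟨fun hy => ?_, fun hy => ?_⟩
      · exact mem_subgroupOf.1 ((Subgroup.mem_normalizer_iff.1 hs ⟨y, hPS hy⟩).1 (mem_subgroupOf.2 hy))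
      · have hyS : y ∈ S := by
          have := S.mul_mem (S.mul_mem (S.inv_mem s.2) (hPS hy)) s.2
          simpa [mul_assoc] using this
        exact mem_subgroupOf.1 ((Subgroup.mem_normalizer_iff.1 hs ⟨y, hyS⟩).2 (mem_subgroupOf.2 hy))
    obtain ⟨b, hb', hbe⟩ := exists_autInducedBy (K := S) s.2 hsN
    set b' : A := ⟨b, autInducedBy_le_autGroup hPS hb'⟩
    have hbR : QuotientGroup.mk' N b' ∈ R.toSubgroup := hR.ge ⟨b', hb', rfl⟩
    rcases (hτ _).1 hbR with h0 | h0
    · exact Or.inl (mem_subgroupOf.2 ((mem_inn_iff_mem hPS hC s.2 hbe).1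
        (mem_subgroupOf.1 ((QuotientGroup.eq_one_iff b').1 h0))))
    · refine Or.inr (mem_subgroupOf.2 ?_)
      have h1 : a⁻¹ * b' ∈ N := by
        rw [← QuotientGroup.eq_one_iff, ← QuotientGroup.mk'_apply, map_mul, map_inv, hae, h0, inv_mul_cancel]
      refine (mem_inn_iff_mem hPS hC (S.mul_mem (S.inv_mem hgS) s.2) (fun x => ?_)).1 (mem_subgroupOf.1 h1)
      show (((a : MulAut P)⁻¹ (b x) : P) : Ω) = _
      have h2 : (((a : MulAut P) ((a : MulAut P)⁻¹ (b x)) : P) : Ω) =
          g * (((a : MulAut P)⁻¹ (b x) : P) : Ω) * g⁻¹ := hga ((a : MulAut P)⁻¹ (b x))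
      rw [MulAut.apply_inv_self] at h2
      rw [hbe] at h2
      rw [mul_inv_rev, inv_inv]
      calc (((a : MulAut P)⁻¹ (b x) : P) : Ω) = g⁻¹ * (g * (((a : MulAut P)⁻¹ (b x) : P) : Ω) * g⁻¹) * g := by group
        _ = _ := by rw [← h2]; group
  · intro x hx
    refine mem_subgroupOf.2 ?_
    rw [hθ x ⟨x, mem_subgroupOf.1 hx⟩ rfl]
    exact Subtype.mem _
  · intro x hx y hy
    apply Subtype.ext
    rw [hθ (x * y) (⟨x, mem_subgroupOf.1 hx⟩ * ⟨y, mem_subgroupOf.1 hy⟩) rfl, map_mul, Subgroup.coe_mul,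
      Subgroup.coe_mul, hθ x ⟨x, mem_subgroupOf.1 hx⟩ rfl, hθ y ⟨y, mem_subgroupOf.1 hy⟩ rfl]
  · intro x hx
    apply Subtype.ext
    rw [hθ _ _ (hθ _ _ (hθ x ⟨x, mem_subgroupOf.1 hx⟩ rfl)), hβapp]
  · refine ⟨⟨q, hPS q.2⟩, mem_subgroupOf.2 q.2, fun x hx => ?_⟩
    set w : P := ⟨x, mem_subgroupOf.1 hx⟩
    apply Subtype.ext
    have hgx : ((⟨g, hgS⟩ * x * (⟨g, hgS⟩ : S)⁻¹ : S) : Ω) = ((a : MulAut P) w : P) := (hga w).symm
    simp only [Subgroup.coe_mul, Subgroup.coe_inv]
    rw [hθ x w rfl, hθ _ _ (hθ _ _ hgx),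
      show g * (((β : MulAut P) w : P) : Ω) * g⁻¹ = (((a : MulAut P) ((β : MulAut P) w) : P) : Ω) from (hga _).symm]
    have h1 := hq ((β : MulAut P) ((β : MulAut P) ((a : MulAut P) w)))
    have h2 : ((a * β * (β ^ 2 * a)⁻¹ : A) : MulAut P) ((β : MulAut P) ((β : MulAut P) ((a : MulAut P) w))) =
        (a : MulAut P) ((β : MulAut P) w) := by
      have e : (a * β * (β ^ 2 * a)⁻¹ : A) * (β ^ 2 * a) = a * β := inv_mul_cancel_right _ _
      have e2 := DFunLike.congr_fun (congrArg Subtype.val e) w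
      simpa [pow_two] using e2
    change (((a * β * (β ^ 2 * a)⁻¹ : A) : MulAut P)) _ = _ at h1
    rw [h2] at h1
    rw [h1]
    rfl
  · by_contra hall
    push Not at hall
    refine hp1 (hβp ▸ ?_)
    rw [QuotientGroup.mk'_apply, QuotientGroup.eq_one_iff]
    have : (β : MulAut P) = 1 := MulEquiv.ext fun w => Subtype.ext (by
      have h1 := hall ⟨w, hPS w.2⟩ (mem_subgroupOf.2 w.2)
      have h2 := hθ ⟨w, hPS w.2⟩ w rfl
      rw [h1] at h2
      exact h2.symm)
    exact mem_subgroupOf.2 (this ▸ one_mem _)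

/-- The necessity direction. -/
theorem cyclic_of_noninner {F : FusionSystem S} (hF : F.IsSaturated 2)
    (hne : ¬ ∀ P : Subgroup Ω, F.Hom P = (innerFusionSystem S).Hom P) : IsCyclic (_root_.commutator S) := by
  haveI := Fact.mk Nat.prime_two
  by_contra hnc
  refine hne fun P => Set.Subset.antisymm (alperin hS hF (innerFusionSystem S) ?_ P) (inner_le F P)
  intro Q hQ
  by_cases hQS : Q = S
  · subst hQS
    have hn : F.IsFullyNormalized Q := ⟨le_rfl, fun R hR => by
      rw [eq_of_le_of_card_le (IsConj.le_right hR) (by rw [IsConj.card_eq hR])]⟩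
    rw [autGroup_top_eq_inn (fullyNormalized_good hS hF hn).1 (isPGroup_mulAut hS hb hm), ← autInducedBy_self]
    exact autInducedBy_le_autGroup le_rfl
  · have he := hQ.resolve_left hQS
    obtain ⟨g, θ, h⟩ := exists_ctx hS hb hm hF (lt_of_le_of_ne he.1.1 hQS) he
    exact absurd (h.cyclic hS hb hm) hnc

end Reduction

end CfsgLib.Bicyclic19
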